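import Cfsg.Agent.Core.Frattini
import Cfsg.Agent.Fusion.Critical
import Mathlib.GroupTheory.OrderOfElement

/-!
Finite 2-groups that are products of two cyclic subgroups: the Frattini subgroup is again such a product,
of the subgroups generated by the two squares.
-/

set_option autoImplicit false

open Subgroup

namespace Cfsg.Agent.Bicyclic

universe u

variable {G : Type u} [Group G]

/-- `G = ⟨a⟩⟨b⟩`. -/
def BC (a b : G) : Prop := ∀ g : G, ∃ i j : ℤ, g = a ^ i * b ^ j

/-- `H = ⟨a⟩⟨b⟩` for a subgroup `H`. -/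
structure Bic (H : Subgroup G) (a b : G) : Prop where
  left : a ∈ H
  right : b ∈ H
  cover : ∀ h ∈ H, ∃ i j : ℤ, h = a ^ i * b ^ j

theorem BC.symm {a b : G} (h : BC a b) : BC b a := fun g => by
  obtain ⟨i, j, hij⟩ := h g⁻¹
  exact ⟨-j, -i, inv_injective (hij.trans (by group))⟩

theorem BC.map {H : Type*} [Group H] {a b : G} (h : BC a b) (f : G →* H) (hf : Function.Surjective f) :
    BC (f a) (f b) := fun y => by
  obtain ⟨g, rfl⟩ := hf y
  obtain ⟨i, j, rfl⟩ := h g
  exact ⟨i, j, by rw [map_mul, map_zpow, map_zpow]⟩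

theorem Bic.bc {H : Subgroup G} {a b : G} (h : Bic H a b) :
    BC (⟨a, h.left⟩ : H) (⟨b, h.right⟩ : H) := fun x => by
  obtain ⟨i, j, hij⟩ := h.cover x x.2
  exact ⟨i, j, Subtype.ext (by simpa using hij)⟩

theorem BC.card_le [Finite G] {a b : G} (h : BC a b) : Nat.card G ≤ orderOf a * orderOf b := by
  rw [← Nat.card_zpowers a, ← Nat.card_zpowers b, ← Nat.card_prod]
  refine Nat.card_le_card_of_surjective (fun p : zpowers a × zpowers b => (p.1 : G) * p.2) fun g => ?_
  obtain ⟨i, j, rfl⟩ := h g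
  exact ⟨(⟨_, zpow_mem_zpowers a i⟩, ⟨_, zpow_mem_zpowers b j⟩), rfl⟩

/-- A subgroup containing all squares contains the Frattini subgroup. -/
theorem frattini_le_of_sq [Finite G] (hG : IsPGroup 2 G) (H : Subgroup G) (h : ∀ g : G, g * g ∈ H) :
    frattini G ≤ H := by
  haveI : Fact (Nat.Prime 2) := ⟨Nat.prime_two⟩
  set N := Subgroup.normalClosure (Set.range fun g : G => g * g) with hN
  have hle : N ≤ H := by
    rw [hN, Subgroup.normalClosure, Subgroup.closure_le]
    intro x hx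
    rw [Group.mem_conjugatesOfSet_iff] at hx
    obtain ⟨_, ⟨g, rfl⟩, hc⟩ := hx
    obtain ⟨c, rfl⟩ := isConj_iff.1 hc
    show c * (g * g) * c⁻¹ ∈ H
    have := h (c * g * c⁻¹)
    rwa [show c * g * c⁻¹ * (c * g * c⁻¹) = c * (g * g) * c⁻¹ by group] at this
  have hsq : ∀ g, g * g ∈ N := fun g => Subgroup.subset_normalClosure ⟨g, rfl⟩
  refine le_trans (Fusion.frattini_le_of_elementary (p := 2) N ?_ fun g => by rw [pow_two]; exact hsq g) hle
  have hq : ∀ q : G ⧸ N, q * q = 1 := fun q => by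
    obtain ⟨g, rfl⟩ := QuotientGroup.mk_surjective q
    rw [← QuotientGroup.mk_mul, QuotientGroup.eq_one_iff]
    exact hsq g
  rw [_root_.commutator_def, Subgroup.commutator_le]
  intro x _ y _
  rw [← QuotientGroup.eq_one_iff, ← QuotientGroup.mk'_apply, map_commutatorElement,
    commutatorElement_eq_one_iff_mul_comm]
  have hi : ∀ q : G ⧸ N, q⁻¹ = q := fun q => inv_eq_of_mul_eq_one_right (hq q)
  calc QuotientGroup.mk' N x * QuotientGroup.mk' N y
      = (QuotientGroup.mk' N x * QuotientGroup.mk' N y)⁻¹ := (hi _).symm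
    _ = _ := by rw [mul_inv_rev, hi, hi]

/-- A subgroup containing all squares and generating with the Frattini subgroup. -/
theorem sq_mem_frattini [Finite G] (hG : IsPGroup 2 G) (g : G) : g * g ∈ frattini G := by
  haveI : Fact (Nat.Prime 2) := ⟨Nat.prime_two⟩
  rw [← pow_two]
  exact Core.pow_mem_frattini hG g

theorem zpow_sq_mem_frattini [Finite G] (hG : IsPGroup 2 G) (g : G) (i : ℤ) :
    (g * g) ^ i ∈ frattini G := zpow_mem (sq_mem_frattini hG g) i

variable [Finite G] (hG : IsPGroup 2 G)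
include hG

theorem exists_two_pow (a : G) : ∃ m, orderOf a = 2 ^ m :=
  haveI : Fact (Nat.Prime 2) := ⟨Nat.prime_two⟩
  IsPGroup.iff_orderOf.1 hG a

/-- The involution of a nontrivial cyclic subgroup lies in all its nontrivial subgroups. -/
theorem exists_cyclic_involution {a : G} (ha : a ≠ 1) : ∃ z, orderOf z = 2 ∧ z ∈ zpowers a ∧
    (∀ x ∈ zpowers a, x * x = 1 → x = 1 ∨ x = z) ∧ (∀ x ∈ zpowers a, x ≠ 1 → z ∈ zpowers x) := by
  obtain ⟨m, hm⟩ := exists_two_pow hG a
  obtain ⟨l, rfl⟩ : ∃ l, m = l + 1 := ⟨m - 1, by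
    rcases m with _ | m
    · exact absurd (orderOf_eq_one_iff.1 hm) ha
    · rfl⟩
  set z := a ^ 2 ^ l with hz
  have hzo : orderOf z = 2 := by
    rw [hz, orderOf_pow_of_dvd (by positivity) (hm ▸ pow_dvd_pow 2 (Nat.le_succ l)), hm, pow_succ,
      Nat.mul_div_cancel_left _ (by positivity)]
  have huniq : ∀ x ∈ zpowers a, x * x = 1 → x = 1 ∨ x = z := by
    intro x hx hx2
    obtain ⟨i, rfl⟩ := mem_zpowers_iff.1 hx
    rw [← zpow_add, ← orderOf_dvd_iff_zpow_eq_one, hm] at hx2
    obtain ⟨t, ht⟩ : (2 : ℤ) ^ l ∣ i := by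
      obtain ⟨t, ht⟩ := hx2
      exact ⟨t, by push_cast [pow_succ] at ht; linarith⟩
    rcases Int.even_or_odd t with ⟨s, rfl⟩ | ⟨s, rfl⟩
    · left
      rw [← orderOf_dvd_iff_zpow_eq_one, hm]
      exact ⟨s, by push_cast [pow_succ]; linarith⟩
    · right
      rw [ht, show ((2 : ℤ) ^ l * (2 * s + 1)) = (2 : ℤ) ^ l * 2 * s + 2 ^ l by ring, zpow_add,
        show a ^ ((2 : ℤ) ^ l * 2 * s) = 1 by
          rw [← orderOf_dvd_iff_zpow_eq_one, hm]; exact ⟨s, by push_cast [pow_succ]; ring⟩, one_mul,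
        hz, ← zpow_natCast a (2 ^ l)]
      push_cast
      rfl
  refine ⟨z, hzo, npow_mem_zpowers a _, huniq, fun x hx hx1 => ?_⟩
  obtain ⟨j, hj⟩ := exists_two_pow hG x
  obtain ⟨k, rfl⟩ : ∃ k, j = k + 1 := ⟨j - 1, by
    rcases j with _ | j
    · exact absurd (orderOf_eq_one_iff.1 hj) hx1
    · rfl⟩
  rcases huniq (x ^ 2 ^ k) (pow_mem hx _) (by rw [← pow_add, ← two_mul, ← pow_succ', ← hj, pow_orderOf_eq_one])
    with h | h
  · have := Nat.le_of_dvd (by positivity) (orderOf_dvd_of_pow_eq_one h)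
    rw [hj] at this
    exact absurd this (Nat.not_le.2 (Nat.pow_lt_pow_right (by norm_num) (Nat.lt_succ_self k)))
  · exact h ▸ npow_mem_zpowers x _

/-- The involution of the larger of the two cyclic factors is central. -/
theorem central_involution {a b : G} (hb : BC a b) (hab : orderOf b ≤ orderOf a) {z : G}
    (hzA : z ∈ zpowers a) (hz : orderOf z = 2) (g : G) : g * z = z * g := by
  have ha : a ≠ 1 := fun e => by
    rw [e, zpowers_one_eq_bot, mem_bot] at hzA
    rw [hzA, orderOf_one] at hz; omega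
  obtain ⟨z', hz'o, hz'A, huniq, hsub⟩ := exists_cyclic_involution hG ha
  have hz1 : z ≠ 1 := fun e => by rw [e, orderOf_one] at hz; omega
  have hzz : z * z = 1 := by rw [← pow_two, ← hz, pow_orderOf_eq_one]
  obtain rfl : z = z' := (huniq z hzA hzz).resolve_left hz1
  have key : ∃ x ∈ zpowers a, ∃ y ∈ zpowers a, x ≠ 1 ∧ x = g * y * g⁻¹ := by
    by_contra hno
    push Not at hno
    let f : zpowers a × zpowers a → G := fun p => p.1 * (g * p.2 * g⁻¹)
    have hinj : Function.Injective f := fun p q e => by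
      have e' : ((q.1 : G))⁻¹ * p.1 = g * (q.2 * (p.2 : G)⁻¹) * g⁻¹ := by
        calc ((q.1 : G))⁻¹ * p.1 = (q.1 : G)⁻¹ * f p * (g * (p.2 : G)⁻¹ * g⁻¹) := by simp only [f]; group
          _ = (q.1 : G)⁻¹ * f q * (g * (p.2 : G)⁻¹ * g⁻¹) := by rw [e]
          _ = _ := by simp only [f]; group
      have h1 : ((q.1 : G))⁻¹ * p.1 = 1 := by
        by_contra h
        exact hno _ (mul_mem (inv_mem q.1.2) p.1.2) _ (mul_mem q.2.2 (inv_mem p.2.2)) h e'
      have h2 : ((q.2 : G)) * (p.2 : G)⁻¹ = 1 := by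
        rw [h1] at e'
        exact conj_eq_one_iff.1 e'.symm
      exact Prod.ext (Subtype.ext (inv_mul_eq_one.1 h1).symm) (Subtype.ext (mul_inv_eq_one.1 h2).symm)
    have hcard : Nat.card G ≤ Nat.card (zpowers a × zpowers a) := by
      rw [Nat.card_prod, Nat.card_zpowers]
      exact hb.card_le.trans (Nat.mul_le_mul_left _ hab)
    obtain ⟨⟨x, y⟩, hxy⟩ := (hinj.bijective_of_nat_card_le hcard).2 g⁻¹
    have hg : g ∈ zpowers a := by
      have : g = (x : G)⁻¹ * (y : G)⁻¹ := by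
        simp only [f] at hxy
        calc g = (x : G)⁻¹ * ((x : G) * (g * y * g⁻¹)) * g * (y : G)⁻¹ := by group
          _ = _ := by rw [hxy]; group
      rw [this]
      exact mul_mem (inv_mem x.2) (inv_mem y.2)
    refine hno z hzA z hzA hz1 ?_
    obtain ⟨i, rfl⟩ := mem_zpowers_iff.1 hg
    obtain ⟨k, rfl⟩ := mem_zpowers_iff.1 hzA
    rw [((Commute.refl a).zpow_zpow i k).eq, mul_inv_cancel_right]
  obtain ⟨x, hx, y, hy, hx1, hxy⟩ := key
  obtain ⟨n, hn⟩ := mem_zpowers_iff.1 (hsub x hx hx1)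
  have hw : g * y ^ n * g⁻¹ = z := by rw [← conj_zpow, ← hxy, hn]
  have hwz : y ^ n = z := by
    refine (huniq _ (zpow_mem hy n) ?_).resolve_left fun e => hz1 (by rw [← hw, e]; group)
    rw [← hw] at hzz
    rw [show g * y ^ n * g⁻¹ * (g * y ^ n * g⁻¹) = g * (y ^ n * y ^ n) * g⁻¹ by group] at hzz
    exact conj_eq_one_iff.1 hzz
  rw [hwz] at hw
  calc g * z = g * z * g⁻¹ * g := by group
    _ = z * g := by rw [hw]

end Cfsg.Agent.Bicyclic

namespace Cfsg.Agent.Bicyclic

universe v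

theorem lift_sq {G : Type v} [Group G] {H : Type*} [Group H] (f : G →* H) {z a b g : G}
    (hker : ∀ x, f x = 1 → x ∈ zpowers z) (hza : z ∈ zpowers (a * a)) (hc : ∀ x : G, x * z = z * x)
    {i j : ℤ} (h : f g = (f a * f a) ^ i * (f b * f b) ^ j) :
    ∃ i j : ℤ, g = (a * a) ^ i * (b * b) ^ j := by
  obtain ⟨k, hk⟩ := mem_zpowers_iff.1 (hker (((a * a) ^ i * (b * b) ^ j)⁻¹ * g)
    (by rw [map_mul, map_inv, map_mul, map_zpow, map_zpow, map_mul, map_mul, h, inv_mul_cancel]))
  obtain ⟨l, hl⟩ := mem_zpowers_iff.1 hza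
  refine ⟨i + l * k, j, ?_⟩
  have hck : (b * b) ^ j * z ^ k = z ^ k * (b * b) ^ j :=
    ((show Commute ((b * b) ^ j) z from hc _).zpow_right k).eq
  rw [zpow_add, zpow_mul, hl, mul_assoc, ← hck, ← mul_assoc, hk, mul_inv_cancel_left]

/-- The Frattini subgroup of a bicyclic 2-group. -/
theorem frattini_cover : ∀ (n : ℕ) (G : Type v) [Group G] [Finite G], Nat.card G = n → IsPGroup 2 G →
    ∀ a b : G, BC a b → ∀ g ∈ frattini G, ∃ i j : ℤ, g = (a * a) ^ i * (b * b) ^ j := by
  intro n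
  induction n using Nat.strong_induction_on with
  | h n ih =>
  intro G _ _ hn hG a b hb g hg
  haveI : Fact (Nat.Prime 2) := ⟨Nat.prime_two⟩
  by_cases hsmall : a * a = 1 ∧ b * b = 1
  · obtain ⟨ha, hb'⟩ := hsmall
    have hoa : orderOf a ≤ 2 := Nat.le_of_dvd two_pos (orderOf_dvd_of_pow_eq_one (by rw [pow_two]; exact ha))
    have hob : orderOf b ≤ 2 := Nat.le_of_dvd two_pos (orderOf_dvd_of_pow_eq_one (by rw [pow_two]; exact hb'))
    have h4 : Nat.card G ≤ 4 := hb.card_le.trans (Nat.mul_le_mul hoa hob)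
    have hcomm : ∀ x y : G, x * y = y * x := by
      obtain ⟨m, hm⟩ := IsPGroup.iff_card.1 hG
      rcases m with _ | _ | _ | m
      · intro x y
        haveI : Subsingleton G := (Nat.card_eq_one_iff_unique.1 hm).1
        exact Subsingleton.elim _ _
      · intro x y
        haveI : IsCyclic G := isCyclic_of_prime_card (p := 2) hm
        exact (IsCyclic.commGroup (α := G)).mul_comm x y
      · exact (IsPGroup.commGroupOfCardEqPrimeSq (p := 2) hm).mul_comm
      · have : 8 ≤ Nat.card G := by rw [hm]; exact Nat.pow_le_pow_right two_pos (by omega : 3 ≤ m + 3)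
        omega
    have hsq : ∀ x : G, x * x ∈ (⊥ : Subgroup G) := fun x => by
      obtain ⟨i, j, rfl⟩ := hb x
      rw [mem_bot, mul_assoc, ← mul_assoc (b ^ j), hcomm (b ^ j) (a ^ i), mul_assoc, ← mul_assoc,
        ← (Commute.refl a).mul_zpow, ← (Commute.refl b).mul_zpow, ha, hb', one_zpow, one_zpow, one_mul]
    refine ⟨0, 0, ?_⟩
    rw [mem_bot.1 (frattini_le_of_sq hG ⊥ hsq hg)]
    simp
  -- the larger factor contains a central involution which is a square
  suffices key : ∀ a b : G, BC a b → orderOf b ≤ orderOf a → ¬ (a * a = 1 ∧ b * b = 1) → ∀ g ∈ frattini G,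
      ∃ i j : ℤ, g = (a * a) ^ i * (b * b) ^ j by
    rcases le_total (orderOf b) (orderOf a) with h | h
    · exact key a b hb h hsmall g hg
    · obtain ⟨i, j, hij⟩ := key b a hb.symm h (fun e => hsmall e.symm) g⁻¹ (inv_mem hg)
      exact ⟨-j, -i, inv_injective (hij.trans (by group))⟩
  intro a b hb hab hns g hg
  have haa : a * a ≠ 1 := fun e => hns ⟨e, by
    obtain ⟨m, hm⟩ := exists_two_pow hG b
    have hoa : orderOf a ≤ 2 :=
      Nat.le_of_dvd two_pos (orderOf_dvd_of_pow_eq_one (by rw [pow_two]; exact e))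
    rw [hm] at hab
    rw [← pow_two]
    refine orderOf_dvd_iff_pow_eq_one.1 ?_
    rcases m with _ | _ | m
    · rw [hm]; norm_num
    · rw [hm]; norm_num
    · exact absurd ((Nat.pow_le_pow_right two_pos (show 2 ≤ m + 1 + 1 by omega)).trans (hab.trans hoa))
        (by norm_num)⟩
  obtain ⟨z, hz, hzA, -, -⟩ := exists_cyclic_involution hG haa
  have hle : zpowers (a * a) ≤ zpowers a := zpowers_le.2 (mul_mem (mem_zpowers a) (mem_zpowers a))
  have hcen : ∀ x : G, x * z = z * x := central_involution hG hb hab (hle hzA) hz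
  haveI : (zpowers z).Normal := ⟨fun y hy x => by
    obtain ⟨k, rfl⟩ := mem_zpowers_iff.1 hy
    rw [((show Commute x z from hcen x).zpow_right k).eq, mul_inv_cancel_right]
    exact zpow_mem_zpowers z k⟩
  have hcard : Nat.card (G ⧸ zpowers z) < n := by
    rw [← hn, Subgroup.card_eq_card_quotient_mul_card_subgroup (zpowers z), Nat.card_zpowers, hz]
    have : 0 < Nat.card (G ⧸ zpowers z) := Nat.card_pos
    omega
  have hs := QuotientGroup.mk'_surjective (zpowers z)
  obtain ⟨i, j, hij⟩ := ih _ hcard (G ⧸ zpowers z) rfl (hG.to_quotient _) _ _ (hb.map _ hs)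
    (QuotientGroup.mk' (zpowers z) g) (Core.map_frattini_le_of_surjective hs (Subgroup.mem_map_of_mem _ hg))
  exact lift_sq _ (fun x hx => (QuotientGroup.eq_one_iff x).1 hx) hzA hcen hij

theorem bic_frattini {G : Type v} [Group G] [Finite G] (hG : IsPGroup 2 G) {a b : G} (hb : BC a b) :
    Bic (frattini G) (a * a) (b * b) :=
  ⟨sq_mem_frattini hG a, sq_mem_frattini hG b, frattini_cover _ G rfl hG a b hb⟩

end Cfsg.Agent.Bicyclic
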