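import Cfsg.Agent.Bicyclic.Derived

/-!
In a bicyclic 2-group with noncyclic derived subgroup, an abelian subgroup of index two in its normalizer
has its elementary four-subgroups fixed by that normalizer.
-/

set_option autoImplicit false

open Subgroup
open scoped commutatorElement

namespace Cfsg.Agent.Bicyclic

universe u

variable {G : Type u} [Group G] [Finite G]

/-- The normalizer condition inside an overgroup. -/
theorem le_of_normalizer_inf (hG : IsPGroup 2 G) {P C : Subgroup G} (hPC : P ≤ C)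
    (h : ∀ n ∈ C, n ∈ normalizer (P : Set G) → n ∈ P) : C ≤ P := by
  haveI : Fact (Nat.Prime 2) := ⟨Nat.prime_two⟩
  haveI := (hG.to_subgroup C).isNilpotent
  by_contra hne
  have hlt : P.subgroupOf C < ⊤ := lt_top_iff_ne_top.2 fun e => hne (subgroupOf_eq_top.1 e)
  obtain ⟨n, hn, hnP⟩ := SetLike.exists_of_lt (Group.normalizerCondition_of_isNilpotent _ hlt)
  refine hnP (mem_subgroupOf.2 (h n n.2 (mem_normalizer_iff.2 fun y => ?_)))
  constructor
  · intro hy
    exact (mem_normalizer_iff.1 hn ⟨y, hPC hy⟩).1 (mem_subgroupOf.2 hy)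
  · intro hy
    have hyC : y ∈ C := by
      have := mul_mem (mul_mem (inv_mem n.2) (hPC hy)) n.2
      rwa [show (n : G)⁻¹ * ((n : G) * y * (n : G)⁻¹) * n = y by group] at this
    exact mem_subgroupOf.1 ((mem_normalizer_iff.1 hn ⟨y, hyC⟩).2 hy)

omit [Finite G] in
theorem mem_normalizer_of_conj [Finite G] {P : Subgroup G} {n : G} (h : ∀ p ∈ P, n⁻¹ * p * n ∈ P) :
    n ∈ normalizer (P : Set G) := by
  have e : P.map (MulAut.conj n⁻¹).toMonoidHom = P := eq_of_le_of_card_ge
    (by rintro _ ⟨p, hp, rfl⟩; simpa using h p hp)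
    (card_map_of_injective (MulAut.conj n⁻¹).injective).ge
  refine mem_normalizer_iff.2 fun y => ⟨fun hy => ?_, fun hy => ?_⟩
  · rw [← e] at hy
    obtain ⟨p, hp, rfl⟩ := hy
    simpa [mul_assoc] using hp
  · have := h _ hy
    rwa [show n⁻¹ * (n * y * n⁻¹) * n = y by group] at this

/-- An element outside the Frattini subgroup completes to a generating pair. -/
theorem exists_partner (hG : IsPGroup 2 G) {a b : G} (hb : BC a b) {u : G} (hu : u ∉ frattini G)
    (hne : commutator G ≠ ⊥) : ∃ x, closure ({x, u} : Set G) = ⊤ := by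
  set A := zpowers u ⊔ frattini G with hA
  have hA1 : A ≠ ⊤ := fun e => hne (by
    have h := Core.eq_top_of_sup_frattini le_rfl e
    rw [eq_bot_iff, _root_.commutator_def, Subgroup.commutator_le]
    intro p _ q _
    obtain ⟨i, rfl⟩ := mem_zpowers_iff.1 (h ▸ mem_top p : p ∈ zpowers u)
    obtain ⟨j, rfl⟩ := mem_zpowers_iff.1 (h ▸ mem_top q : q ∈ zpowers u)
    exact mem_bot.2 (commutatorElement_eq_one_iff_mul_comm.2 ((Commute.refl u).zpow_zpow i j).eq))
  obtain ⟨x, hx⟩ : ∃ x, x ∉ A := by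
    by_contra! h
    exact hA1 (eq_top_iff.2 fun x _ => h x)
  refine ⟨x, Core.eq_top_of_sup_frattini (le_rfl : frattini G ≤ frattini G) ?_⟩
  set X := closure ({x, u} : Set G) ⊔ frattini G with hX
  have hAX : A ≤ X := sup_le_sup_right (zpowers_le.2 (subset_closure (by simp))) _
  have hxX : x ∈ X := mem_sup_left (subset_closure (by simp))
  have h4 := frattini_index_le hG hb
  have h1 : (frattini G).relIndex A * A.index = (frattini G).index := relIndex_mul_index le_sup_right
  have h2 := relIndex_mul_index hAX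
  have h3 : (frattini G).relIndex A ≠ 1 := fun e =>
    hu (relIndex_eq_one.1 e (mem_sup_left (mem_zpowers u)))
  have h5 : A.relIndex X ≠ 1 := fun e => hx (relIndex_eq_one.1 e hxX)
  rw [← h2] at h1
  have p1 : 0 < (frattini G).relIndex A := Nat.pos_of_ne_zero (by simp [Subgroup.relIndex, index_ne_zero_of_finite])
  have p2 : 0 < A.relIndex X := Nat.pos_of_ne_zero (by simp [Subgroup.relIndex, index_ne_zero_of_finite])
  have p3 : 0 < X.index := Nat.pos_of_ne_zero index_ne_zero_of_finite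
  rw [← index_eq_one]
  by_contra hne1
  have : 2 * (2 * 2) ≤ (frattini G).relIndex A * (A.relIndex X * X.index) :=
    Nat.mul_le_mul (by omega) (Nat.mul_le_mul (by omega) (by omega))
  omega

omit [Finite G] in
/-- A subgroup normalised by two generators whose images commute contains the derived subgroup. -/
theorem commutator_le_of_pair {x u : G} (hgen : closure ({x, u} : Set G) = ⊤) (N : Subgroup G) [N.Normal]
    (h : x * u * x⁻¹ * u⁻¹ ∈ N) : commutator G ≤ N := by
  set π := QuotientGroup.mk' N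
  have hxu : Commute (π x) (π u) := by
    rw [← commutatorElement_eq_one_iff_commute, ← map_commutatorElement, commutatorElement_def]
    exact (QuotientGroup.eq_one_iff _).2 h
  have h1 : ∀ g : G, Commute (π g) (π x) ∧ Commute (π g) (π u) := by
    intro g
    have hg : g ∈ closure ({x, u} : Set G) := hgen ▸ mem_top g
    induction hg using closure_induction with
    | mem y hy =>
      rcases hy with rfl | rfl
      exacts [⟨Commute.refl _, hxu⟩, ⟨hxu.symm, Commute.refl _⟩]
    | one => rw [map_one]; exact ⟨Commute.one_left _, Commute.one_left _⟩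
    | mul y z _ _ ihy ihz => rw [map_mul]; exact ⟨ihy.1.mul_left ihz.1, ihy.2.mul_left ihz.2⟩
    | inv y _ ih => rw [map_inv]; exact ⟨ih.1.inv_left, ih.2.inv_left⟩
  have h2 : ∀ g k : G, Commute (π g) (π k) := by
    intro g k
    have hk : k ∈ closure ({x, u} : Set G) := hgen ▸ mem_top k
    induction hk using closure_induction with
    | mem y hy =>
      rcases hy with rfl | rfl
      exacts [(h1 g).1, (h1 g).2]
    | one => rw [map_one]; exact Commute.one_right _
    | mul y z _ _ ihy ihz => rw [map_mul]; exact ihy.mul_right ihz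
    | inv y _ ih => rw [map_inv]; exact ih.inv_right
  rw [_root_.commutator_def, Subgroup.commutator_le]
  intro p _ q _
  rw [← QuotientGroup.eq_one_iff, ← QuotientGroup.mk'_apply, map_commutatorElement,
    commutatorElement_eq_one_iff_mul_comm]
  exact (h2 p q).eq

omit [Finite G] in
theorem conj_zpow_comm (x u : G) (m k : ℤ) :
    x ^ m * (x ^ k * u * x ^ (-k) * u⁻¹) * x ^ (-m) =
      x ^ (m + k) * u * x ^ (-(m + k)) * u⁻¹ * (x ^ m * u * x ^ (-m) * u⁻¹)⁻¹ := by
  rw [neg_add, zpow_add, zpow_add, zpow_neg, zpow_neg]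
  have hc : (x ^ m)⁻¹ * (x ^ k)⁻¹ = (x ^ k)⁻¹ * (x ^ m)⁻¹ := by
    rw [← mul_inv_rev, ← mul_inv_rev, ((Commute.refl x).zpow_zpow m k).eq]
  rw [hc]
  group

variable (hG : IsPGroup 2 G) {a b : G} (hb : BC a b)
include hG hb

/-- The values `[n, u]` that are involutions of the derived subgroup: at least three of them. -/
theorem three_values {x u : G} (hu : u * u = 1) (hgen : closure ({x, u} : Set G) = ⊤)
    {W : Subgroup G} (hWn : W.Normal) (hW4 : Nat.card W = 4) (hWd : W ≤ commutator G)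
    (hW2 : ∀ w ∈ W, w * w = 1) (hWall : ∀ y ∈ frattini G, y * y = 1 → y ∈ W) :
    (∀ w ∈ W, u * w = w * u) ∧ ∃ w₁ w₂ : G, w₁ ∈ W ∧ w₂ ∈ W ∧ w₁ ≠ 1 ∧ w₂ ≠ 1 ∧ w₁ ≠ w₂ ∧
      (∃ n, n * u * n⁻¹ = w₁ * u) ∧ ∃ n, n * u * n⁻¹ = w₂ * u := by
  have hui : u⁻¹ = u := inv_eq_of_mul_eq_one_right hu
  set t : ℤ → G := fun j => x ^ j * u * x ^ (-j) * u⁻¹ with ht
  set T0 := closure (Set.range t) with hT0
  have hu_t : ∀ j, u * t j * u⁻¹ = (t j)⁻¹ := fun j => by
    simp only [ht]
    rw [hui, mul_inv_rev, mul_inv_rev, mul_inv_rev, hui, zpow_neg, inv_inv]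
    simp only [mul_assoc, hu, mul_one]
  have hxT : ∀ m : ℤ, ∀ s ∈ T0, x ^ m * s * x ^ (-m) ∈ T0 := by
    intro m s hs
    induction hs using closure_induction with
    | mem y hy =>
      obtain ⟨k, rfl⟩ := hy
      simp only [ht]
      rw [conj_zpow_comm]
      exact mul_mem (subset_closure ⟨m + k, rfl⟩) (inv_mem (subset_closure ⟨m, rfl⟩))
    | one => rw [mul_one, ← zpow_add, add_neg_cancel, zpow_zero]; exact one_mem _
    | mul y z _ _ ihy ihz =>
      rw [show x ^ m * (y * z) * x ^ (-m) = (x ^ m * y * x ^ (-m)) * (x ^ m * z * x ^ (-m)) by group]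
      exact mul_mem ihy ihz
    | inv y _ ih =>
      rw [show x ^ m * y⁻¹ * x ^ (-m) = (x ^ m * y * x ^ (-m))⁻¹ by group]
      exact inv_mem ih
  have huT : ∀ s ∈ T0, u⁻¹ * s * u ∈ T0 := by
    intro s hs
    induction hs using closure_induction with
    | mem y hy =>
      obtain ⟨k, rfl⟩ := hy
      have h := hu_t k
      rw [hui] at h ⊢
      rw [h]
      exact inv_mem (subset_closure ⟨k, rfl⟩)
    | one => rw [mul_one, inv_mul_cancel]; exact one_mem _
    | mul y z _ _ ihy ihz =>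
      rw [show u⁻¹ * (y * z) * u = (u⁻¹ * y * u) * (u⁻¹ * z * u) by group]
      exact mul_mem ihy ihz
    | inv y _ ih =>
      rw [show u⁻¹ * y⁻¹ * u = (u⁻¹ * y * u)⁻¹ by group]
      exact inv_mem ih
  haveI hT0n : T0.Normal := by
    rw [← normalizer_eq_top_iff, eq_top_iff, ← hgen, closure_le]
    rintro y (rfl | rfl)
    · refine mem_normalizer_of_conj fun p hp => ?_
      have := hxT (-1) p hp
      simpa using this
    · exact mem_normalizer_of_conj huT
  have hd0 : commutator G ≤ T0 := commutator_le_of_pair hgen T0 (subset_closure ⟨1, by simp [ht]⟩)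
  have htd : ∀ j, t j ∈ commutator G := fun j => by
    show x ^ j * u * x ^ (-j) * u⁻¹ ∈ _
    rw [zpow_neg, ← commutatorElement_def, _root_.commutator_def]
    exact commutator_mem_commutator (mem_top _) (mem_top _)
  have hT0d : T0 ≤ commutator G := (closure_le _).2 (by rintro _ ⟨j, rfl⟩; exact htd j)
  have hinv : ∀ s ∈ commutator G, u * s * u⁻¹ = s⁻¹ := by
    intro s hs
    have hs' := hd0 hs
    induction hs' using closure_induction with
    | mem y hy => obtain ⟨k, rfl⟩ := hy; exact hu_t k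
    | one => simp
    | mul y z hy hz ihy ihz =>
      rw [show u * (y * z) * u⁻¹ = (u * y * u⁻¹) * (u * z * u⁻¹) by group, ihy (hT0d hy), ihz (hT0d hz),
        mul_inv_rev, derived_comm hb (inv_mem (hT0d hy)) (inv_mem (hT0d hz))]
    | inv y hy ih =>
      rw [show u * y⁻¹ * u⁻¹ = (u * y * u⁻¹)⁻¹ by group, ih (hT0d hy)]
  have hval : ∀ (j : ℤ) (s : G), s ∈ commutator G → s * x ^ j * u * (s * x ^ j)⁻¹ = t j * (s * s) * u := by
    intro j s hs
    have h1 : u * s⁻¹ = s * u := by
      have := hinv s⁻¹ (inv_mem hs)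
      rw [inv_inv] at this
      calc u * s⁻¹ = u * s⁻¹ * u⁻¹ * u := by group
        _ = s * u := by rw [this]
    calc s * x ^ j * u * (s * x ^ j)⁻¹ = s * t j * (u * s⁻¹) := by simp only [ht]; group
      _ = s * t j * s * u := by rw [h1]; group
      _ = t j * (s * s) * u := by rw [derived_comm hb hs (htd j)]; group
  refine ⟨fun w hw => ?_, ?_⟩
  · have h1 := hinv w (hWd hw)
    rw [inv_eq_of_mul_eq_one_right (hW2 w hw)] at h1
    calc u * w = u * w * u⁻¹ * u := by group
      _ = w * u := by rw [h1]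
  -- the squares in the derived subgroup
  let sq : ↥(commutator G) →* G := MonoidHom.mk' (fun s => (s : G) * s) fun s r => by
    show (s : G) * r * ((s : G) * r) = _
    rw [mul_assoc, ← mul_assoc (r : G), derived_comm hb r.2 s.2]
    group
  set Q := sq.range with hQ
  have hQmem : ∀ {y : G}, y ∈ Q ↔ ∃ s ∈ commutator G, s * s = y := fun {y} =>
    ⟨fun ⟨s, hs⟩ => ⟨s, s.2, hs⟩, fun ⟨s, hs, hsy⟩ => ⟨⟨s, hs⟩, hsy⟩⟩
  haveI hQn : Q.Normal := ⟨fun y hy c => by
    obtain ⟨s, hs, rfl⟩ := hQmem.1 hy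
    exact hQmem.2 ⟨c * s * c⁻¹, Subgroup.Normal.conj_mem inferInstance s hs c, by group⟩⟩
  have hQd : Q ≤ commutator G := fun y hy => by
    obtain ⟨s, hs, rfl⟩ := hQmem.1 hy
    exact mul_mem hs hs
  have hQcard : Nat.card (commutator G) = 4 * Nat.card Q := by
    have h := sq.ker.card_mul_index
    rw [index_ker] at h
    have hk : Nat.card sq.ker = 4 := by
      rw [← hW4, ← card_map_of_injective (K := sq.ker) (commutator G).subtype_injective]
      congr 2
      refine le_antisymm ?_ fun w hw => ⟨⟨w, hWd hw⟩, hW2 w hw, rfl⟩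
      rintro _ ⟨s, hs, rfl⟩
      exact hWall _ (commutator_le_frattini hG s.2) hs
    rw [hk] at h
    exact h.symm
  let Q1 : Subgroup G :=
    { carrier := {s | s ∈ Q ∨ (t 1)⁻¹ * s ∈ Q}
      one_mem' := Or.inl (one_mem Q)
      mul_mem' := by
        have h2 : t 1 * t 1 ∈ Q := hQmem.2 ⟨_, htd 1, rfl⟩
        rintro s r (hs | hs) (hr | hr)
        · exact Or.inl (mul_mem hs hr)
        · refine Or.inr ?_
          have h := mul_mem (hQn.conj_mem s hs (t 1)⁻¹) hr
          rwa [show (t 1)⁻¹ * s * (t 1)⁻¹⁻¹ * ((t 1)⁻¹ * r) = (t 1)⁻¹ * (s * r) by group] at h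
        · exact Or.inr (by rw [← mul_assoc]; exact mul_mem hs hr)
        · refine Or.inl ?_
          have h := mul_mem h2 (mul_mem (hQn.conj_mem _ hs (t 1)⁻¹) hr)
          rwa [show t 1 * t 1 * ((t 1)⁻¹ * ((t 1)⁻¹ * s) * (t 1)⁻¹⁻¹ * ((t 1)⁻¹ * r)) = s * r by group] at h
      inv_mem' := by
        rintro s (hs | hs)
        · exact Or.inl (inv_mem hs)
        · refine Or.inr ?_
          have h2 : t 1 * t 1 ∈ Q := hQmem.2 ⟨_, htd 1, rfl⟩
          have h := mul_mem (inv_mem h2) (hQn.conj_mem _ (inv_mem hs) (t 1))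
          rwa [show (t 1 * t 1)⁻¹ * (t 1 * ((t 1)⁻¹ * s)⁻¹ * (t 1)⁻¹) =
            (t 1)⁻¹ * s⁻¹ by group] at h }
  have hQQ1 : Q ≤ Q1 := fun y hy => Or.inl hy
  have ht1Q1 : t 1 ∈ Q1 := Or.inr (by rw [inv_mul_cancel]; exact one_mem Q)
  have hQ1d : Q1 ≤ commutator G := by
    rintro y (hy | hy)
    · exact hQd hy
    · have := mul_mem (htd 1) (hQd hy)
      rwa [mul_inv_cancel_left] at this
  have hQ1card : Nat.card Q1 ≤ 2 * Nat.card Q := by
    let F : Bool × Q → Q1 := fun p => match p with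
      | (true, q) => ⟨q, Or.inl q.2⟩
      | (false, q) => ⟨t 1 * q, Or.inr (by rw [inv_mul_cancel_left]; exact q.2)⟩
    have : Function.Surjective F := by
      rintro ⟨y, hy | hy⟩
      · exact ⟨(true, ⟨y, hy⟩), rfl⟩
      · exact ⟨(false, ⟨_, hy⟩), Subtype.ext (mul_inv_cancel_left _ _)⟩
    refine (Nat.card_le_card_of_surjective F this).trans_eq ?_
    rw [Nat.card_prod, Nat.card_eq_fintype_card (α := Bool), Fintype.card_bool]
  -- a subgroup invariant under conjugation by `x` and containing `t 1` contains all of them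
  have hinvariant : ∀ R : Subgroup G, (∀ r ∈ R, x * r * x⁻¹ ∈ R) → t 1 ∈ R → commutator G ≤ R := by
    intro R hxR ht1
    have hx' : ∀ r ∈ R, x⁻¹ * r * x ∈ R := by
      intro r hr
      have : x ∈ normalizer (R : Set G) := by
        have h1 : x⁻¹ ∈ normalizer (R : Set G) := mem_normalizer_of_conj fun p hp => by simpa using hxR p hp
        simpa using inv_mem h1
      exact (mem_normalizer_iff.1 this _).2 (by rw [show x * (x⁻¹ * r * x) * x⁻¹ = r by group]; exact hr)
    have hstep : ∀ j, t (j + 1) = x * t j * x⁻¹ * t 1 := fun j => by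
      simp only [ht]; group
    have hall : ∀ j : ℤ, t j ∈ R := by
      intro j
      induction j using Int.induction_on with
      | zero => simp [ht]
      | succ j ih => rw [hstep]; exact mul_mem (hxR _ ih) ht1
      | pred j ih =>
        have h := hx' _ (mul_mem ih (inv_mem ht1))
        have e := hstep (-(j : ℤ) - 1)
        rw [sub_add_cancel] at e
        rw [e] at h
        rwa [show x⁻¹ * (x * t (-(j : ℤ) - 1) * x⁻¹ * t 1 * (t 1)⁻¹) * x = t (-(j : ℤ) - 1) by group] at h
    exact hd0.trans ((closure_le _).2 (by rintro _ ⟨j, rfl⟩; exact hall j))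
  have hQlt : Nat.card Q < Nat.card Q1 := by
    by_contra hge
    have e := eq_of_le_of_card_ge hQQ1 (not_lt.1 hge)
    have := card_le_of_le (hinvariant Q (fun r hr => hQn.conj_mem r hr x) (e ▸ ht1Q1))
    have := Nat.card_pos (α := Q)
    omega
  have hxt1 : x * t 1 * x⁻¹ = t 2 * (t 1)⁻¹ := by
    simp [ht, pow_two, mul_assoc]
  have ht2 : t 2 ∉ Q1 := fun h2 => by
    have hxQ1 : ∀ r ∈ Q1, x * r * x⁻¹ ∈ Q1 := by
      rintro r (hr | hr)
      · exact hQQ1 (hQn.conj_mem r hr x)
      · have h := mul_mem (mul_mem h2 (inv_mem ht1Q1)) (hQQ1 (hQn.conj_mem _ hr x))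
        rw [← hxt1] at h
        rwa [show x * t 1 * x⁻¹ * (x * ((t 1)⁻¹ * r) * x⁻¹) = x * r * x⁻¹ by group] at h
    have := card_le_of_le (hinvariant Q1 hxQ1 ht1Q1)
    omega
  have hidx : (Q1.subgroupOf (commutator G)).index = 2 := by
    have h1 := (Q1.subgroupOf (commutator G)).card_mul_index
    rw [Nat.card_congr (subgroupOfEquivOfLe hQ1d).toEquiv, hQcard] at h1
    have h2 : (Q1.subgroupOf (commutator G)).index ≠ 1 := fun e =>
      ht2 (subgroupOf_eq_top.1 (index_eq_one.1 e) (htd 2))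
    obtain ⟨c, hc⟩ := card_dvd_of_le hQQ1
    have hc2 : c = 2 := by
      have hpos := Nat.card_pos (α := Q)
      rcases c with _ | _ | _ | c
      · simp at hc; omega
      · simp at hc; omega
      · rfl
      · rw [hc] at hQ1card; nlinarith
    rw [hc, hc2] at h1
    have h3 : Nat.card Q * (2 * (Q1.subgroupOf (commutator G)).index) = Nat.card Q * 4 := by
      rw [← mul_assoc, h1, mul_comm]
    have := Nat.eq_of_mul_eq_mul_left Nat.card_pos h3
    omega
  have hcover : ∀ y ∈ commutator G, y ∈ Q1 ∨ (t 2)⁻¹ * y ∈ Q1 := by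
    intro y hy
    by_cases h : y ∈ Q1
    · exact Or.inl h
    · refine Or.inr ?_
      have := (mul_mem_iff_of_index_two (a := (⟨(t 2)⁻¹, inv_mem (htd 2)⟩ : commutator G))
        (b := ⟨y, hy⟩) hidx).2 (iff_of_false (fun e => ht2 (by simpa using inv_mem (mem_subgroupOf.1 e)))
          (fun e => h (mem_subgroupOf.1 e)))
      exact mem_subgroupOf.1 this
  -- realised values
  have hreal : ∀ (j : ℤ) (w : G), (t j)⁻¹ * w ∈ Q → ∃ n, n * u * n⁻¹ = w * u := by
    intro j w hw
    obtain ⟨s, hs, hsw⟩ := hQmem.1 hw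
    exact ⟨s * x ^ j, by rw [hval j s hs, hsw, mul_inv_cancel_left]⟩
  have ht0 : t 0 = 1 := by simp [ht]
  by_cases hex : ∃ w ∈ W, (t 1)⁻¹ * w ∈ Q
  · obtain ⟨w, hw, hwQ⟩ := hex
    set v := x * w * x⁻¹ with hv
    have hvW : v ∈ W := hWn.conj_mem w hw x
    have hvQ : (t 2 * (t 1)⁻¹)⁻¹ * v ∈ Q := by
      rw [← hxt1, show (x * t 1 * x⁻¹)⁻¹ * v = x * ((t 1)⁻¹ * w) * x⁻¹ by rw [hv]; group]
      exact hQn.conj_mem _ hwQ x
    have hwvQ : (t 2)⁻¹ * (v * w) ∈ Q := by
      have e : (t 2 * (t 1)⁻¹)⁻¹ * v * ((t 1)⁻¹ * w) = (t 2)⁻¹ * (v * w) := by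
        have c1 : (t 2)⁻¹ * t 1 = t 1 * (t 2)⁻¹ := derived_comm hb (inv_mem (htd 2)) (htd 1)
        have c2 : v * (t 1)⁻¹ = (t 1)⁻¹ * v := derived_comm hb (hWd hvW) (inv_mem (htd 1))
        calc (t 2 * (t 1)⁻¹)⁻¹ * v * ((t 1)⁻¹ * w) = t 1 * (t 2)⁻¹ * (v * (t 1)⁻¹) * w := by group
          _ = (t 2)⁻¹ * t 1 * ((t 1)⁻¹ * v) * w := by rw [c1, c2]
          _ = _ := by group
      rw [← e]
      exact mul_mem hvQ hwQ
    have hw1 : w ≠ 1 := fun e => by
      rw [e, mul_one, inv_mem_iff] at hwQ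
      exact hQlt.ne' (le_antisymm (card_le_of_le (fun y hy => by
        rcases hy with hy | hy
        · exact hy
        · have := mul_mem hwQ hy
          rwa [mul_inv_cancel_left] at this)) (card_le_of_le hQQ1))
    refine ⟨w, v * w, hw, mul_mem hvW hw, hw1, fun e => ?_, fun e => ?_, hreal 1 w hwQ, hreal 2 _ hwvQ⟩
    · rw [e, mul_one, inv_mem_iff] at hwvQ
      exact ht2 (hQQ1 hwvQ)
    · rw [← e] at hwvQ
      refine ht2 ?_
      have h := mul_mem (hQQ1 hwvQ) (inv_mem (mul_mem ht1Q1 (hQQ1 hwQ)))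
      rw [mul_inv_cancel_left, mul_inv_cancel_right, inv_mem_iff] at h
      exact h
  · push Not at hex
    have hallW : ∀ w ∈ W, ∃ n, n * u * n⁻¹ = w * u := by
      intro w hw
      rcases hcover w (hWd hw) with h | h
      · rcases h with h | h
        · exact hreal 0 w (by rw [ht0, inv_one, one_mul]; exact h)
        · exact absurd h (hex w hw)
      · rcases h with h | h
        · exact hreal 2 w h
        · exfalso
          refine hex (x⁻¹ * w * x) (by simpa using hWn.conj_mem w hw x⁻¹) ?_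
          have h2 : (t 2 * (t 1)⁻¹)⁻¹ * w ∈ Q := by
            have hq : t 1 * t 1 ∈ Q := hQmem.2 ⟨_, htd 1, rfl⟩
            have h' := mul_mem hq h
            rwa [show t 1 * t 1 * ((t 1)⁻¹ * ((t 2)⁻¹ * w)) = (t 2 * (t 1)⁻¹)⁻¹ * w by group] at h'
          rw [← hxt1] at h2
          have h3 := hQn.conj_mem _ h2 x⁻¹
          rwa [show x⁻¹ * ((x * t 1 * x⁻¹)⁻¹ * w) * x⁻¹⁻¹ = (t 1)⁻¹ * (x⁻¹ * w * x) by group] at h3
    obtain ⟨w₁, hw₁, w₂, hw₂, h1, h2, h12⟩ : ∃ w₁ ∈ W, ∃ w₂ ∈ W, w₁ ≠ 1 ∧ w₂ ≠ 1 ∧ w₁ ≠ w₂ := by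
      obtain ⟨w₁, hw₁, h1⟩ := (bot_or_exists_ne_one W).resolve_left fun e => by
        rw [e, card_bot] at hW4; omega
      by_contra hno
      push Not at hno
      have hle : W ≤ zpowers w₁ := fun w hw => by
        by_cases e : w = 1
        · rw [e]; exact one_mem _
        · rw [← hno w₁ hw₁ w hw h1 e]; exact mem_zpowers w₁
      have := card_le_of_le hle
      rw [hW4, Nat.card_zpowers] at this
      have := Nat.le_of_dvd two_pos (orderOf_dvd_of_pow_eq_one (x := w₁) (by rw [pow_two]; exact hW2 w₁ hw₁))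
      omega
    exact ⟨w₁, w₂, hw₁, hw₂, h1, h2, h12, hallW _ hw₁, hallW _ hw₂⟩

/-- The main lemma: such a configuration does not exist. -/
theorem vLemma (hnc : ¬ IsCyclic ↥(commutator G)) (P V : Subgroup G) {g : G}
    (hP : ∀ p ∈ P, ∀ q ∈ P, p * q = q * p) (hg : g ∈ normalizer (P : Set G)) (hgP : g ∉ P)
    (hN : ∀ n ∈ normalizer (P : Set G), n ∈ P ∨ g⁻¹ * n ∈ P)
    (hV : V ≤ P) (hV2 : ∀ v ∈ V, v * v = 1) (hV4 : Nat.card V = 4)
    (hmove : ∃ v ∈ V, g * v * g⁻¹ ≠ v) : False := by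
  obtain ⟨W, hWn, hW4, hWd, hW2, hWall⟩ := exists_omega hG hb hnc
  have hmv : ∀ p ∈ P, g * p * g⁻¹ ≠ p → ∀ n ∈ normalizer (P : Set G), n * p = p * n → n ∈ P := by
    intro p hp hne n hn hc
    rcases hN n hn with h | h
    · exact h
    · exfalso
      refine hne ?_
      have hq := hP _ h _ hp
      calc g * p * g⁻¹ = g * (g⁻¹ * n * p) * n⁻¹ := by rw [hq]; group
        _ = p := by rw [show g * (g⁻¹ * n * p) * n⁻¹ = n * p * n⁻¹ by group, hc, mul_inv_cancel_right]
  by_cases hVΦ : V ≤ frattini G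
  · -- the four-group is the group of involutions of the derived subgroup
    have hVW : V = W := eq_of_le_of_card_ge (fun v hv => hWall v (hVΦ hv) (hV2 v hv)) (by rw [hV4, hW4])
    obtain ⟨v, hv, hgv⟩ := hmove
    have hC : centralizer (W : Set G) ≤ P := by
      refine le_of_normalizer_inf hG (fun p hp => mem_centralizer_iff.2 fun w hw => ?_) fun n hn hnn => ?_
      · exact hP w (hV (hVW.symm ▸ hw)) p hp
      · exact hmv v (hV hv) hgv n hnn ((mem_centralizer_iff.1 hn v (hVW ▸ hv)).symm)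
    have hPC : P = centralizer (W : Set G) :=
      le_antisymm (fun p hp => mem_centralizer_iff.2 fun w hw => hP w (hV (hVW.symm ▸ hw)) p hp) hC
    haveI := hWn
    haveI hPn : P.Normal := by rw [hPC]; infer_instance
    have hall : ∀ n : G, n ∈ P ∨ g⁻¹ * n ∈ P := fun n => hN n (normalizer_eq_top P ▸ mem_top n)
    have hgg : g * g ∈ P := (hall (g * g)).resolve_right fun h => hgP (by rwa [inv_mul_cancel_left] at h)
    have hconj : ∀ p ∈ P, g * p * g⁻¹ ∈ P := fun p hp => hPn.conj_mem p hp g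
    have hgP' : ∀ p ∈ P, g * (g * p * g⁻¹ * p⁻¹) * g⁻¹ = (g * p * g⁻¹ * p⁻¹)⁻¹ := fun p hp => by
      have h := hP _ hgg _ hp
      calc g * (g * p * g⁻¹ * p⁻¹) * g⁻¹ = g * g * p * (g * g)⁻¹ * (g * p * g⁻¹)⁻¹ := by group
        _ = p * (g * p * g⁻¹)⁻¹ := by rw [h, mul_inv_cancel_right]
        _ = _ := by group
    let f : P →* G := MonoidHom.mk' (fun p => g * (p : G) * g⁻¹ * (p : G)⁻¹) fun p q => by
      show g * ((p : G) * q) * g⁻¹ * ((p : G) * q)⁻¹ = _
      calc g * ((p : G) * q) * g⁻¹ * ((p : G) * q)⁻¹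
          = g * p * g⁻¹ * ((g * q * g⁻¹ * (q : G)⁻¹) * (p : G)⁻¹) := by group
        _ = g * p * g⁻¹ * ((p : G)⁻¹ * (g * q * g⁻¹ * (q : G)⁻¹)) := by
          rw [hP _ (mul_mem (hconj _ q.2) (inv_mem q.2)) _ (inv_mem p.2)]
        _ = _ := by group
    have hfP : ∀ y ∈ f.range, y ∈ P := by
      rintro _ ⟨p, rfl⟩
      exact mul_mem (hconj _ p.2) (inv_mem p.2)
    have hginv : ∀ y ∈ f.range, g * y * g⁻¹ = y⁻¹ := by
      rintro _ ⟨p, rfl⟩
      exact hgP' p p.2
    haveI : f.range.Normal := ⟨fun y hy n => by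
      rcases hall n with h | h
      · rw [hP n h y (hfP y hy), mul_inv_cancel_right]; exact hy
      · rw [show n * y * n⁻¹ = g * ((g⁻¹ * n) * y * (g⁻¹ * n)⁻¹) * g⁻¹ by group, hP _ h y (hfP y hy),
          mul_inv_cancel_right, hginv y hy]
        exact inv_mem hy⟩
    have hd : commutator G ≤ f.range := by
      have hcm : ∀ p ∈ P, ∀ n : G, Commute (QuotientGroup.mk' f.range n) (QuotientGroup.mk' f.range p) := by
        intro p hp n
        have hg' : Commute (QuotientGroup.mk' f.range g) (QuotientGroup.mk' f.range p) := by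
          rw [← commutatorElement_eq_one_iff_commute, ← map_commutatorElement, commutatorElement_def]
          exact (QuotientGroup.eq_one_iff _).2 ⟨⟨p, hp⟩, rfl⟩
        rcases hall n with h | h
        · exact (show Commute n p from hP n h p hp).map _
        · rw [show n = g * (g⁻¹ * n) by group, map_mul]
          exact hg'.mul_left ((show Commute (g⁻¹ * n) p from hP _ h p hp).map _)
      rw [_root_.commutator_def, Subgroup.commutator_le]
      intro p _ q _
      rw [← QuotientGroup.eq_one_iff, ← QuotientGroup.mk'_apply, map_commutatorElement,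
        commutatorElement_eq_one_iff_commute]
      rcases hall q with h | h
      · exact hcm q h p
      · rcases hall p with h' | h'
        · exact (hcm p h' q).symm
        · rw [show q = g * (g⁻¹ * q) by group, map_mul]
          refine Commute.mul_right ?_ (hcm _ h p)
          rw [show p = g * (g⁻¹ * p) by group, map_mul]
          exact (Commute.refl _).mul_left (hcm _ h' g).symm
    have hvW : v ∈ W := hVW ▸ hv
    refine hgv ?_
    rw [hginv v (hd (hWd hvW)), inv_eq_of_mul_eq_one_right (hW2 v hvW)]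
  · -- an element of the four-group outside the Frattini subgroup
    obtain ⟨u, hu, huΦ, hgu⟩ : ∃ u ∈ V, u ∉ frattini G ∧ g * u * g⁻¹ ≠ u := by
      obtain ⟨u₀, hu₀, hu₀Φ⟩ := SetLike.not_le_iff_exists.1 hVΦ
      by_contra hno
      push Not at hno
      obtain ⟨v, hv, hgv⟩ := hmove
      by_cases hvΦ : v ∈ frattini G
      · refine hgv ?_
        have h1 := hno u₀ hu₀ hu₀Φ
        have h2 := hno (v * u₀) (mul_mem hv hu₀) fun h => hu₀Φ (by
          simpa using mul_mem (inv_mem hvΦ) h)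
        rw [show g * (v * u₀) * g⁻¹ = g * v * g⁻¹ * (g * u₀ * g⁻¹) by group, h1] at h2
        exact mul_right_cancel h2
      · exact hgv (hno v hv hvΦ)
    have huP := hV hu
    have hCu : centralizer ({u} : Set G) ≤ P :=
      le_of_normalizer_inf hG (fun p hp => mem_centralizer_singleton_iff.2 (hP p hp u huP))
        fun n hn hnn => hmv u huP hgu n hnn (mem_centralizer_singleton_iff.1 hn)
    have hne : commutator G ≠ ⊥ := fun e => hnc (by rw [e]; infer_instance)
    obtain ⟨x, hx⟩ := exists_partner hG hb huΦ hne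
    obtain ⟨hcen, w₁, w₂, hw₁, hw₂, h1, h2, h12, ⟨n₁, hn₁⟩, ⟨n₂, hn₂⟩⟩ :=
      three_values hG hb (hV2 u hu) hx hWn hW4 hWd hW2 hWall
    have hWP : W ≤ P := fun w hw => hCu (mem_centralizer_singleton_iff.2 (hcen w hw).symm)
    have hkey : ∀ n w, w ∈ W → w ≠ 1 → n * u * n⁻¹ = w * u → w * u = g * u * g⁻¹ := by
      intro n w hw hw1 hn
      have hwu : w * u ∈ P := mul_mem (hWP hw) huP
      have hnN : n ∈ normalizer (P : Set G) := mem_normalizer_of_conj fun p hp => hCu
        (mem_centralizer_singleton_iff.2 (by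
          calc n⁻¹ * p * n * u = n⁻¹ * (p * (n * u * n⁻¹)) * n := by group
            _ = n⁻¹ * ((n * u * n⁻¹) * p) * n := by rw [hn, hP p hp _ hwu]
            _ = u * (n⁻¹ * p * n) := by group))
      rcases hN n hnN with h | h
      · exfalso
        rw [hP n h u huP, mul_inv_cancel_right, right_eq_mul] at hn
        exact hw1 hn
      · calc w * u = g * ((g⁻¹ * n) * u) * n⁻¹ := by rw [← hn]; group
          _ = g * (u * (g⁻¹ * n)) * n⁻¹ := by rw [hP _ h u huP]
          _ = g * u * g⁻¹ := by group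
    exact h12 (mul_right_cancel ((hkey n₁ w₁ hw₁ h1 hn₁).trans (hkey n₂ w₂ hw₂ h2 hn₂).symm))

end Cfsg.Agent.Bicyclic
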