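import Cfsg.Agent.Bicyclic.KClass
import Cfsg.Agent.Bicyclic.VLemma

/-!
In a bicyclic 2-group with noncyclic derived subgroup there is no self-centralising-type configuration of a
subgroup with an automorphism of order three inverted modulo the Frattini subgroup by its normalizer.
-/

set_option autoImplicit false

open Subgroup
open scoped commutatorElement

namespace Cfsg.Agent.Bicyclic

universe u

/-- In a group of order at most eight and exponent two a fixed-point-free automorphism of order three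
forces order at most four. -/
theorem card_le_four_of_fpf {V : Type u} [Group V] [Finite V] (hexp : ∀ v : V, v * v = 1)
    (h8 : Nat.card V ≤ 8) {β : MulAut V} (h3 : β ^ 3 = 1) (hfix : ∀ v, β v = v → v = 1) :
    Nat.card V ≤ 4 := by
  haveI : Fact (Nat.Prime 3) := ⟨Nat.prime_three⟩
  haveI : Fact (Nat.Prime 2) := ⟨Nat.prime_two⟩
  classical
  haveI := Fintype.ofFinite V
  have hV : IsPGroup 2 V := fun v => ⟨1, by rw [pow_one, pow_two]; exact hexp v⟩
  obtain ⟨m, hm⟩ := IsPGroup.iff_card.1 hV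
  by_contra hgt
  have h8' : Nat.card V = 8 := by
    rcases Nat.lt_or_ge m 3 with h | h
    · have := Nat.pow_le_pow_right two_pos (show m ≤ 2 by omega)
      omega
    · have := Nat.pow_le_pow_right two_pos h
      omega
  have hcount : Fintype.card {v : V // v ≠ 1} = 7 := by
    rw [Fintype.card_subtype_compl, Fintype.card_subtype_eq, ← Nat.card_eq_fintype_card, h8']
  let σ : Equiv.Perm {v : V // v ≠ 1} := β.toEquiv.subtypeEquiv fun v =>
    ⟨fun h e => h ((map_eq_one_iff β β.injective).1 e), fun h e => h (by rw [e]; exact map_one β)⟩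
  obtain ⟨v, hv⟩ := σ.exists_fixed_point_of_prime (p := 3) (n := 1) (by rw [hcount]; norm_num)
    (Equiv.ext fun v => Subtype.ext (by
      simp only [pow_one, pow_succ, pow_zero, one_mul, Equiv.Perm.mul_apply, Equiv.Perm.one_apply]
      exact cube_apply h3 v.1))
  exact v.2 (hfix v (congrArg Subtype.val hv))

/-- On a four-group, a 2-element commuting with a fixed-point-free element of order three is trivial. -/
theorem fixed_all {V : Type u} [Group V] [Finite V] (hexp : ∀ v : V, v * v = 1) (h4 : Nat.card V ≤ 4)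
    {β : MulAut V} (hfix : ∀ v, β v = v → v = 1) {σ : MulAut V} {m : ℕ} (hσ : σ ^ 2 ^ m = 1)
    (hc : ∀ v, σ (β v) = β (σ v)) (v : V) : σ v = v := by
  haveI : Fact (Nat.Prime 2) := ⟨Nat.prime_two⟩
  classical
  haveI := Fintype.ofFinite V
  by_cases hv1 : v = 1
  · rw [hv1, map_one]
  have hdvd : 2 ∣ Fintype.card V := by
    have ho : orderOf v = 2 := orderOf_eq_prime (by rw [pow_two]; exact hexp v) hv1
    rw [← ho]
    exact orderOf_dvd_card
  let f : MulAut V →* Equiv.Perm V :=
    { toFun := MulEquiv.toEquiv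
      map_one' := rfl
      map_mul' := fun _ _ => rfl }
  obtain ⟨x, hx, hx1⟩ := (f σ).exists_fixed_point_of_prime' hdvd (n := m)
    (by rw [← map_pow, hσ, map_one]) (map_one σ)
  have hx' : σ x = x := hx
  have hβx : σ (β x) = β x := by rw [hc, hx']
  have hne : β x ≠ x := fun e => hx1 (hfix x e)
  have hβ1 : β x ≠ 1 := fun e => hx1 ((map_eq_one_iff β β.injective).1 e)
  have hcov := FusSys.MetaTwo.four_cover h4 1 x (β x) (x * β x) (by
    have h1 : x * β x ≠ 1 := fun e => hne (mul_left_cancel (e.trans (hexp x).symm))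
    simp [Ne.symm hx1, Ne.symm hβ1, Ne.symm h1, Ne.symm hne, hx1, hβ1]) v
  rcases hcov with rfl | rfl | rfl | rfl
  · exact map_one σ
  · exact hx'
  · exact hβx
  · rw [map_mul, hx', hβx]

variable {G : Type u} [Group G] [Finite G]

theorem frattini_map_le (hG : IsPGroup 2 G) {D : Type*} [Group D] [Finite D] (hD : IsPGroup 2 D)
    (ι : D →* G) : (frattini D).map ι ≤ frattini G :=
  map_le_iff_le_comap.2 (frattini_le_of_sq hD _ fun d => by
    show ι (d * d) ∈ frattini G
    rw [map_mul]; exact sq_mem_frattini hG _)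

theorem twoGen_of_injective (hG : IsPGroup 2 G) {a b : G} (hb : BC a b) {D : Type*} [Group D] [Finite D]
    (hD : IsPGroup 2 D) (ι : D →* G) (hι : Function.Injective ι) : TwoGen (frattini D) := by
  intro T hT U hUT hU
  have h := twoGen_frattini hG hb (T.map ι) ((map_mono hT).trans (frattini_map_le hG hD ι)) (U.map ι)
    (map_mono hUT) (by rintro _ ⟨t, ht, rfl⟩; rw [← map_mul]; exact mem_map_of_mem _ (hU t ht))
  rwa [card_map_of_injective hι, card_map_of_injective hι] at h

/-- The configuration that does not exist. -/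
theorem no_config (hG : IsPGroup 2 G) {a b : G} (hb : BC a b) (hnc : ¬ IsCyclic ↥(commutator G))
    (P : Subgroup G) (α : MulAut P) (h3 : α ^ 3 = 1) (g : G) (hg : g ∈ normalizer (P : Set G)) (hgP : g ∉ P)
    (hN : ∀ n ∈ normalizer (P : Set G), n ∈ P ∨ g⁻¹ * n ∈ P)
    (hcyc : ∃ h : P, α h = h ∧ ∀ p : P, ∃ k ∈ displ α, ∃ i : ℤ, p = k * h ^ i)
    (hgK : ∀ k ∈ displ α, ∃ k' ∈ displ α, ((k' : P) : G) = g * (k : G) * g⁻¹)
    (hmove : ∃ k ∈ displ α, ∀ k' : P, (k' : G) = g * (k : G) * g⁻¹ → k⁻¹ * k' ∉ frattini P) : False := by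
  haveI : Fact (Nat.Prime 2) := ⟨Nat.prime_two⟩
  obtain ⟨h, hαh, hcov⟩ := hcyc
  set β := resAut α (displ α) fun _ hx => displ_map α hx with hβ
  have hβf : Full β := full_displ (hG.to_subgroup P) h3
  have hβ3 : β ^ 3 = 1 := resAut_cube h3 _ _
  have hD : IsPGroup 2 ↥(displ α) := (hG.to_subgroup P).to_subgroup _
  set ι : ↥(displ α) →* G := P.subtype.comp (displ α).subtype with hι
  have hιi : Function.Injective ι := P.subtype_injective.comp (displ α).subtype_injective
  have hιP : ∀ k, ι k ∈ P := fun k => ((k : ↥(displ α)) : P).2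
  have hDP : (frattini ↥(displ α)).map (displ α).subtype ≤ frattini P :=
    haveI := displ_normal α
    Core.frattini_le_of_normal (displ α)
  -- conjugation by `g` on the displacement subgroup
  have hexg : ∀ k : ↥(displ α), ∃ k' : ↥(displ α), ι k' = g * ι k * g⁻¹ := fun k => by
    obtain ⟨k', hk', he⟩ := hgK k k.2
    exact ⟨⟨k', hk'⟩, he⟩
  choose γf hγf using hexg
  let γh : ↥(displ α) →* ↥(displ α) := MonoidHom.mk' γf fun p q => hιi (by
    rw [map_mul, hγf, hγf, hγf, map_mul]; group)
  let γ : MulAut ↥(displ α) := MulEquiv.ofBijective γh (Finite.injective_iff_bijective.1 fun p q e => by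
    have h' : g * ι p * g⁻¹ = g * ι q * g⁻¹ := by rw [← hγf, ← hγf]; exact congrArg ι e
    exact hιi (mul_left_cancel (mul_right_cancel h')))
  have hγ : ∀ k, ι (γ k) = g * ι k * g⁻¹ := hγf
  obtain ⟨k₀, hk₀⟩ : ∃ k : ↥(displ α), k⁻¹ * γ k ∉ frattini ↥(displ α) := by
    obtain ⟨k, hk, hk'⟩ := hmove
    exact ⟨⟨k, hk⟩, fun hmem => hk' ((γ ⟨k, hk⟩ : ↥(displ α)) : P) (hγ ⟨k, hk⟩)
      (hDP ⟨_, hmem, rfl⟩)⟩
  have hne : Nontrivial ↥(displ α) := by
    refine ⟨⟨k₀, 1, fun e => hk₀ ?_⟩⟩
    rw [e, map_one, inv_one, one_mul]; exact one_mem _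
  -- conjugation by elements of `P`
  haveI := displ_normal α
  let cj : P → MulAut ↥(displ α) := fun p => MulAut.conjNormal p
  have hcj : ∀ p k, ι (cj p k) = (p : G) * ι k * (p : G)⁻¹ := fun p k => by
    simp [cj, ι, MulAut.conjNormal_apply]
  have hhc : ∀ k, cj h (β k) = β (cj h k) := fun k => Subtype.ext (by
    rw [hβ, resAut_apply, MulAut.conjNormal_apply, resAut_apply, MulAut.conjNormal_apply, map_mul, map_mul,
      map_inv, hαh])
  -- the Frattini quotient has order four
  have h4 : (frattini ↥(displ α)).index ≤ 4 := by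
    have hPtop : P ≠ ⊤ := fun e => hgP (e ▸ mem_top g)
    have h8 := card_le_eight hG hb (P := ι.range) (U := (frattini ↥(displ α)).map ι) (fun e => hPtop
      (eq_top_iff.2 fun x _ => by
        obtain ⟨k, rfl⟩ := (e ▸ mem_top x : x ∈ ι.range)
        exact hιP k)) (map_le_range ι _) (by
      rintro _ ⟨k, rfl⟩
      rw [← map_mul]; exact mem_map_of_mem _ (sq_mem_frattini hD k))
    rw [card_map_of_injective hιi, ← Nat.card_congr (MonoidHom.ofInjective hιi).toEquiv,
      ← (frattini ↥(displ α)).card_mul_index, mul_comm 8] at h8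
    have h8' : Nat.card (↥(displ α) ⧸ frattini ↥(displ α)) ≤ 8 := by
      rw [← index_eq_card]; exact Nat.le_of_mul_le_mul_left h8 Nat.card_pos
    have hm := map_eq_of_char β (frattini ↥(displ α)) (hN := frattini_characteristic)
    have hexp : ∀ q : ↥(displ α) ⧸ frattini ↥(displ α), q * q = 1 := fun q => by
      obtain ⟨k, rfl⟩ := QuotientGroup.mk_surjective q
      rw [← QuotientGroup.mk_mul, QuotientGroup.eq_one_iff]
      exact sq_mem_frattini hD k
    rw [index_eq_card]
    exact card_le_four_of_fpf hexp h8' (qAut_cube hβ3 _ hm) fun v hv =>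
      (hβf.quotient _ hm).fixed_eq_one (hD.to_quotient _) (exp_comm hexp) (qAut_cube hβ3 _ hm) hv
  -- `P` acts trivially on the Frattini quotient
  have hcjpow : ∀ (p : P) (m : ℕ), cj p ^ m = cj (p ^ m) := fun p m => (map_pow _ p m).symm
  have htrivh : ∀ k, k⁻¹ * cj h k ∈ frattini ↥(displ α) := by
    intro k
    have hm := map_eq_of_char β (frattini ↥(displ α)) (hN := frattini_characteristic)
    have hm' := map_eq_of_char (cj h) (frattini ↥(displ α)) (hN := frattini_characteristic)
    obtain ⟨m, hm2⟩ := exists_two_pow (hG.to_subgroup P) h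
    have hexp : ∀ q : ↥(displ α) ⧸ frattini ↥(displ α), q * q = 1 := fun q => by
      obtain ⟨k, rfl⟩ := QuotientGroup.mk_surjective q
      rw [← QuotientGroup.mk_mul, QuotientGroup.eq_one_iff]
      exact sq_mem_frattini hD k
    have hpw : ∀ n : ℕ, ∀ x : ↥(displ α), ((qAut (cj h) _ hm') ^ n) (x : ↥(displ α) ⧸ frattini ↥(displ α)) =
        (((cj h ^ n) x : ↥(displ α)) : ↥(displ α) ⧸ frattini ↥(displ α)) := by
      intro n
      induction n with
      | zero => intro x; rfl
      | succ n ih => intro x; rw [pow_succ, MulAut.mul_apply, qAut_mk, ih, pow_succ, MulAut.mul_apply]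
    have h' := fixed_all hexp (by rw [← index_eq_card]; exact h4)
      (β := qAut β _ hm)
      (fun v hv => (hβf.quotient _ hm).fixed_eq_one (hD.to_quotient _) (exp_comm hexp) (qAut_cube hβ3 _ hm) hv)
      (σ := qAut (cj h) _ hm') (m := m) (MulEquiv.ext fun q => by
        obtain ⟨x, rfl⟩ := QuotientGroup.mk_surjective q
        rw [hpw, hcjpow, ← hm2, pow_orderOf_eq_one]
        simp [cj])
      (fun v => by
        obtain ⟨x, rfl⟩ := QuotientGroup.mk_surjective v
        rw [qAut_mk, qAut_mk, qAut_mk, qAut_mk, hhc]) (k : ↥(displ α) ⧸ frattini ↥(displ α))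
    rw [qAut_mk, eq_comm, QuotientGroup.eq] at h'
    exact h'
  have hΦinv : ∀ (δ : MulAut ↥(displ α)) {f : ↥(displ α)}, f ∈ frattini ↥(displ α) →
      δ f ∈ frattini ↥(displ α) := fun δ f hf => by
    rw [← map_eq_of_char δ (frattini ↥(displ α)) (hN := frattini_characteristic)]
    exact mem_map_of_mem _ hf
  have htriv : ∀ (p : P) k, k⁻¹ * cj p k ∈ frattini ↥(displ α) := by
    let H : Subgroup P :=
      { carrier := {p | ∀ k, k⁻¹ * cj p k ∈ frattini ↥(displ α)}
        one_mem' := fun k => by simp [cj]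
        mul_mem' := fun {p q} hp hq k => by
          have e : cj (p * q) k = cj p (cj q k) := by
            simp only [cj, map_mul, MulAut.mul_apply]
          have h1 := mul_mem (hq k) (hp (cj q k))
          rwa [← e, mul_assoc, mul_inv_cancel_left] at h1
        inv_mem' := fun {p} hp k => by
          have h1 := hp (cj p⁻¹ k)
          have e : cj p (cj p⁻¹ k) = k := by
            simp only [cj, ← MulAut.mul_apply, ← map_mul, mul_inv_cancel, map_one, MulAut.one_apply]
          rw [e] at h1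
          have h2 := inv_mem h1
          rwa [mul_inv_rev, inv_inv] at h2 }
    intro p
    obtain ⟨k₁, hk₁, i, rfl⟩ := hcov p
    refine (mul_mem (?_ : k₁ ∈ H) (zpow_mem (show h ∈ H from htrivh) i) : k₁ * h ^ i ∈ H)
    intro k
    haveI := hD.isNilpotent
    have h1 : (⟨k₁, hk₁⟩ : ↥(displ α)) * k * (⟨k₁, hk₁⟩ : ↥(displ α))⁻¹ = cj k₁ k := Subtype.ext (by
      simp [cj, MulAut.conjNormal_apply])
    have h2 : ⁅k⁻¹, (⟨k₁, hk₁⟩ : ↥(displ α))⁆ ∈ frattini ↥(displ α) :=
      Core.commutator_le_frattini (by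
        rw [_root_.commutator_def]; exact commutator_mem_commutator (mem_top _) (mem_top _))
    rwa [commutatorElement_def, inv_inv, show k⁻¹ * (⟨k₁, hk₁⟩ : ↥(displ α)) * k * (⟨k₁, hk₁⟩ : ↥(displ α))⁻¹ =
      k⁻¹ * ((⟨k₁, hk₁⟩ : ↥(displ α)) * k * (⟨k₁, hk₁⟩ : ↥(displ α))⁻¹) by group, h1] at h2
  -- elements of `gP` move `k₀` modulo the Frattini subgroup
  have hmv : ∀ p : P, k₀⁻¹ * γ (cj p k₀) ∉ frattini ↥(displ α) := by
    intro p hmem
    refine hk₀ ?_
    have h1 := mul_mem hmem (inv_mem (hΦinv γ (htriv p k₀)))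
    rwa [map_mul, map_inv, mul_inv_rev, inv_inv, ← mul_assoc, mul_inv_cancel_right] at h1
  have hmvG : ∀ n : G, g⁻¹ * n ∈ P → n * ι k₀ * n⁻¹ ≠ ι k₀ := by
    intro n hn e
    refine hmv ⟨_, hn⟩ ?_
    have : γ (cj ⟨_, hn⟩ k₀) = k₀ := hιi (by
      rw [hγ, hcj]
      conv_rhs => rw [← e]
      group)
    rw [this, inv_mul_cancel]; exact one_mem _
  have hQ : ∀ n : G, g⁻¹ * n ∈ P → ∀ (N₀ : Subgroup G),
      (∀ k, ι k ∈ N₀ → k ∈ frattini ↥(displ α)) → n * ι k₀ * n⁻¹ * (ι k₀)⁻¹ ∉ N₀ := by
    intro n hn N₀ hN₀ hmem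
    have e : γ (cj ⟨_, hn⟩ k₀) * k₀⁻¹ ∈ frattini ↥(displ α) := hN₀ _ (by
      rw [map_mul, map_inv, hγ, hcj]
      convert hmem using 1
      group)
    refine hmv ⟨_, hn⟩ ?_
    have h1 := (inferInstance : (frattini ↥(displ α)).Normal).conj_mem _ e k₀⁻¹
    convert h1 using 1
    group
  rcases classify_full hD hβf hβ3 hne h4 (twoGen_of_injective hG hb hD ι hιi) with ⟨r, hr⟩ | ⟨z, hz⟩
  · -- homocyclic
    obtain ⟨s, rfl⟩ : ∃ s, r = s + 1 := ⟨r - 1, by have := hr.one_le; omega⟩
    have homega := hr.omega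
    have hker := hr.ker
    rw [Nat.add_sub_cancel] at homega hker
    set n := 2 ^ s with hn
    have hΦn : ∀ f ∈ frattini ↥(displ α), f ^ n = 1 := by
      let E : Subgroup ↥(displ α) :=
        { carrier := {f | f ^ n = 1}
          one_mem' := one_pow n
          mul_mem' := fun {p q} (hp : p ^ n = 1) (hq : q ^ n = 1) => by
            show (p * q) ^ n = 1
            rw [(show Commute p q from hr.comm p q).mul_pow, hp, hq, one_mul]
          inv_mem' := fun {p} (hp : p ^ n = 1) => by
            show p⁻¹ ^ n = 1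
            rw [inv_pow, hp, inv_one] }
      intro f hf
      exact (frattini_le_of_sq hD E fun k => by
        show (k * k) ^ n = 1
        rw [← pow_two, ← pow_mul, hn, ← pow_succ']; exact hr.exp k) hf
    have hcP : ∀ (p : P) (k : ↥(displ α)), (p : G) * ι (k ^ n) = ι (k ^ n) * p := by
      intro p k
      have h1 : cj p (k ^ n) = k ^ n := by
        rw [map_pow, ← mul_inv_cancel_left k (cj p k), (show Commute k (k⁻¹ * cj p k) from hr.comm _ _).mul_pow,
          hΦn _ (htriv p k), mul_one]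
      have h2 := hcj p (k ^ n)
      rw [h1] at h2
      calc (p : G) * ι (k ^ n) = (p : G) * ι (k ^ n) * (p : G)⁻¹ * p := by group
        _ = ι (k ^ n) * p := by rw [← h2]
    have hwmv : ∀ m : G, g⁻¹ * m ∈ P → m * ι (k₀ ^ n) * m⁻¹ ≠ ι (k₀ ^ n) := by
      intro m hm e
      refine hmv ⟨_, hm⟩ (hker _ ?_)
      have h1 : γ (cj ⟨_, hm⟩ (k₀ ^ n)) = k₀ ^ n := hιi (by
        rw [hγ, hcj]
        conv_rhs => rw [← e]
        group)
      rw [map_pow, map_pow] at h1
      rw [(show Commute k₀⁻¹ (γ (cj ⟨_, hm⟩ k₀)) from hr.comm _ _).mul_pow, h1, inv_pow, inv_mul_cancel]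
    obtain ⟨W₀, hW₀4, hW₀⟩ := hr.four
    have hW₀sq : ∀ v ∈ W₀.map ι, v * v = 1 := by
      rintro _ ⟨v, hv, rfl⟩
      rw [← map_mul, (hW₀ v).1 hv, map_one]
    have hW₀card : Nat.card (W₀.map ι) = 4 := by rw [card_map_of_injective hιi, hW₀4]
    have hW₀P : W₀.map ι ≤ P := by rintro _ ⟨v, -, rfl⟩; exact hιP v
    have hk₀n : ι (k₀ ^ n) ∈ W₀.map ι := mem_map_of_mem _ ((hW₀ _).2 (by
      rw [← pow_add, ← two_mul, hn, ← pow_succ']; exact hr.exp k₀))
    have hgmv : g * ι (k₀ ^ n) * g⁻¹ ≠ ι (k₀ ^ n) := hwmv g (by rw [inv_mul_cancel]; exact one_mem P)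
    by_cases hab : ∀ k, cj h k = k
    · -- `P` is abelian
      have hPc : ∀ p ∈ P, ∀ q ∈ P, p * q = q * p := by
        have key : ∀ p q : P, p * q = q * p := by
          intro p q
          obtain ⟨k₁, hk₁, i, rfl⟩ := hcov p
          obtain ⟨k₂, hk₂, j, rfl⟩ := hcov q
          have hch : ∀ k ∈ displ α, Commute h k := fun k hk => by
            have h1 := congrArg Subtype.val (hab ⟨k, hk⟩)
            rw [MulAut.conjNormal_apply] at h1
            exact mul_inv_eq_iff_eq_mul.1 h1
          have hkk : Commute k₁ k₂ := congrArg Subtype.val (hr.comm ⟨k₁, hk₁⟩ ⟨k₂, hk₂⟩)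
          exact ((hkk.mul_right ((hch k₁ hk₁).symm.zpow_right j)).mul_left
            (((hch k₂ hk₂).zpow_left i).mul_right ((Commute.refl h).zpow_zpow i j))).eq
        exact fun p hp q hq => congrArg Subtype.val (key ⟨p, hp⟩ ⟨q, hq⟩)
      exact vLemma hG hb hnc P (W₀.map ι) hPc hg hgP hN hW₀P hW₀sq hW₀card ⟨_, hk₀n, hgmv⟩
    rcases s with _ | s
    · refine hab fun k => ?_
      have h1 := hΦn _ (htriv h k)
      rw [hn, pow_zero, pow_one, inv_mul_eq_one] at h1
      exact h1.symm
    obtain ⟨W, hWn, hW4, hWd, hW2, hWall⟩ := exists_omega hG hb hnc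
    have hWW : W₀.map ι = W := eq_of_le_of_card_ge (by
      rintro _ ⟨v, hv, rfl⟩
      obtain ⟨m, rfl⟩ := homega v ((hW₀ v).1 hv)
      refine hWall _ ?_ (hW₀sq _ (mem_map_of_mem _ hv))
      rw [hn, pow_succ, pow_mul, pow_two, map_mul]
      exact sq_mem_frattini hG _) (by rw [hW4, hW₀card])
    have hPC : ∀ p ∈ P, ∀ w ∈ W, p * w = w * p := by
      intro p hp w hw
      rw [← hWW] at hw
      obtain ⟨v, hv, rfl⟩ := hw
      obtain ⟨m, rfl⟩ := homega v ((hW₀ v).1 hv)
      exact hcP ⟨p, hp⟩ m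
    have hC : centralizer (W : Set G) ≤ P := le_of_normalizer_inf hG
      (fun p hp => mem_centralizer_iff.2 fun w hw => (hPC p hp w hw).symm) fun m hm hmn => by
        rcases hN m hmn with h' | h'
        · exact h'
        · exfalso
          refine hwmv m h' ?_
          rw [← (mem_centralizer_iff.1 hm _ (hWW ▸ hk₀n)), mul_inv_cancel_right]
    have hPeq : P = centralizer (W : Set G) :=
      le_antisymm (fun p hp => mem_centralizer_iff.2 fun w hw => (hPC p hp w hw).symm) hC
    haveI := hWn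
    haveI hPn : P.Normal := by rw [hPeq]; infer_instance
    have hall : ∀ m : G, m ∈ P ∨ g⁻¹ * m ∈ P := fun m => hN m (normalizer_eq_top P ▸ mem_top m)
    have hgg : g * g ∈ P := (hall (g * g)).resolve_right fun h' => hgP (by rwa [inv_mul_cancel_left] at h')
    -- `h` has order at most two
    have hhh : h * h = 1 := by
      by_contra hne1
      have hne1' : (h : G) * h ≠ 1 := fun e => hne1 (Subtype.ext e)
      obtain ⟨t, ht, htmem, -, -⟩ := exists_cyclic_involution hG hne1'
      obtain ⟨i, rfl⟩ := mem_zpowers_iff.1 htmem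
      have htW : ((h : G) * h) ^ i ∈ W := hWall _ (zpow_sq_mem_frattini hG _ i)
        (by rw [← pow_two, ← ht, pow_orderOf_eq_one])
      rw [← hWW] at htW
      obtain ⟨v, -, hv⟩ := htW
      have hv' : (v : P) = (h * h) ^ i := Subtype.ext (by simpa [ι] using hv)
      have : v = 1 := hr.fix v (Subtype.ext (by
        rw [hβ, resAut_apply, hv', map_zpow, map_mul, hαh]))
      rw [this, map_one] at hv
      rw [← hv, orderOf_one] at ht
      omega
    -- elements of `P`
    have hPelt : ∀ p : P, (∃ k : ↥(displ α), p = k) ∨ ∃ k : ↥(displ α), p = k * h := by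
      intro p
      obtain ⟨k, hk, i, rfl⟩ := hcov p
      rcases Int.even_or_odd i with ⟨t, rfl⟩ | ⟨t, rfl⟩
      · exact Or.inl ⟨⟨k, hk⟩, by rw [← two_mul, zpow_mul, zpow_two, hhh, one_zpow, mul_one]⟩
      · exact Or.inr ⟨⟨k, hk⟩, by rw [zpow_add, zpow_one, zpow_mul, zpow_two, hhh, one_zpow, one_mul]⟩
    have hPsq : ∀ p : P, ∃ f ∈ frattini ↥(displ α), (p : G) * p = ι f := by
      intro p
      rcases hPelt p with ⟨k, rfl⟩ | ⟨k, rfl⟩
      · exact ⟨k * k, sq_mem_frattini hD k, map_mul ι k k⟩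
      · refine ⟨k * cj h k, ?_, ?_⟩
        · have h1 := mul_mem (sq_mem_frattini hD k) (htriv h k)
          rwa [mul_assoc k k, mul_inv_cancel_left] at h1
        · rw [map_mul, hcj]
          have e : (h : G) * h = 1 := congrArg Subtype.val hhh
          have e' : (h : G)⁻¹ = h := inv_eq_of_mul_eq_one_right e
          show (ι k * h) * (ι k * h) = _
          rw [e']; group
    have hn2 : n = 2 * 2 ^ s := by rw [hn, pow_succ']
    have hPexp : ∀ p ∈ P, p ^ (2 * n) = 1 := by
      intro p hp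
      obtain ⟨f, hf, hpf⟩ := hPsq ⟨p, hp⟩
      rw [pow_mul, pow_two, hpf, ← map_pow, hΦn f hf, map_one]
    have hout : ∀ x : G, x ∉ P → x ^ (2 * n) ∈ W ∧ g * x ^ (2 * n) = x ^ (2 * n) * g := by
      intro x hx
      have hgx : g⁻¹ * x ∈ P := (hall x).resolve_left hx
      have hxx : x * x ∈ P := by
        rcases hall (x * x) with h' | h'
        · exact h'
        · refine absurd ?_ hx
          rw [← mul_assoc] at h'
          have h3 := mul_mem (inv_mem hgx) h'
          rwa [show (g⁻¹ * x)⁻¹ * (g⁻¹ * x * x) = x by group] at h3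
      obtain ⟨f, hf, hxf⟩ := hPsq ⟨_, hxx⟩
      have e : x ^ (2 * n) = ι (f ^ 2 ^ s) := by
        rw [hn2, map_pow, ← hxf]
        show x ^ (2 * (2 * 2 ^ s)) = (x * x * (x * x)) ^ 2 ^ s
        rw [← pow_two x, ← pow_add, ← pow_mul]
        congr 1
        ring
      have hW' : x ^ (2 * n) ∈ W := by
        rw [e, ← hWW]
        refine mem_map_of_mem _ ((hW₀ _).2 ?_)
        rw [← pow_add, ← two_mul, ← hn2]; exact hΦn f hf
      refine ⟨hW', ?_⟩
      have h1 := hPC _ hgx _ hW'
      calc g * x ^ (2 * n) = x * ((g⁻¹ * x)⁻¹ * x ^ (2 * n)) := by group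
        _ = x * (x ^ (2 * n) * (g⁻¹ * x)⁻¹) := by
          rw [((show Commute (g⁻¹ * x) (x ^ (2 * n)) from h1).inv_left).eq]
        _ = x ^ (2 * n) * g := by
          rw [← mul_assoc, ((Commute.refl x).pow_right (2 * n)).eq]; group
    have hfix2 : ∀ w₁ w₂ : G, w₁ ∈ W → w₂ ∈ W → g * w₁ = w₁ * g → g * w₂ = w₂ * g → w₁ ≠ 1 → w₂ ≠ 1 →
        w₁ = w₂ := by
      intro w₁ w₂ h1 h2 hc1 hc2 hne1 hne2
      by_contra hne12
      have hcard : 4 ≤ Nat.card (W ⊓ centralizer ({g} : Set G) : Subgroup G) := by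
        classical
        haveI := Fintype.ofFinite (W ⊓ centralizer ({g} : Set G) : Subgroup G)
        have hm1 : w₁ ∈ W ⊓ centralizer ({g} : Set G) := ⟨h1, mem_centralizer_singleton_iff.2 hc1.symm⟩
        have hm2 : w₂ ∈ W ⊓ centralizer ({g} : Set G) := ⟨h2, mem_centralizer_singleton_iff.2 hc2.symm⟩
        have h12 : w₁ * w₂ ≠ 1 := fun e => hne12 (mul_left_cancel ((hW2 w₁ h1).trans e.symm))
        have hnd : ([1, ⟨w₁, hm1⟩, ⟨w₂, hm2⟩, ⟨w₁ * w₂, mul_mem hm1 hm2⟩] :
            List (W ⊓ centralizer ({g} : Set G) : Subgroup G)).Nodup := by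
          simp [Subtype.ext_iff, Ne.symm hne1, Ne.symm hne2, Ne.symm h12, hne12, hne1, hne2]
        have h' := hnd.length_le_card
        rw [← Nat.card_eq_fintype_card] at h'
        simpa using h'
      have hle := eq_of_le_of_card_ge (inf_le_left : W ⊓ centralizer ({g} : Set G) ≤ W) (by omega)
      have hk' : ι (k₀ ^ n) ∈ W ⊓ centralizer ({g} : Set G) := by rw [hle]; exact hWW ▸ hk₀n
      have hgk := mem_centralizer_singleton_iff.1 hk'.2
      exact hgmv (by rw [← hgk, mul_inv_cancel_right])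
    -- the order of the group
    have hbig : 4 * ((2 * n) * (2 * n)) ≤ Nat.card G := by
      have hDcard : Nat.card ι.range = (2 * n) * (2 * n) := by
        rw [← Nat.card_congr (MonoidHom.ofInjective hιi).toEquiv, hr.card, hn, ← pow_succ']
      have hP2 : 2 * Nat.card ι.range ≤ Nat.card P := by
        obtain ⟨c, hc⟩ := card_dvd_of_le (show ι.range ≤ P by rintro _ ⟨k, rfl⟩; exact hιP k)
        rcases c with _ | _ | c
        · have := Nat.card_pos (α := P); simp at hc; omega
        · exfalso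
          refine hab fun k => ?_
          have hmem : (h : G) ∈ ι.range := (eq_of_le_of_card_ge (show ι.range ≤ P by
            rintro _ ⟨k, rfl⟩; exact hιP k) (by rw [hc]; simp)).symm ▸ h.2
          obtain ⟨k', hk'⟩ := hmem
          refine hιi ?_
          rw [hcj, ← hk', ← map_mul, hr.comm k' k, map_mul, mul_inv_cancel_right]
        · rw [hc, mul_comm]; exact Nat.mul_le_mul_left _ (by omega)
      have hG2 : 2 * Nat.card P ≤ Nat.card G := by
        rw [← P.card_mul_index, mul_comm]
        refine Nat.mul_le_mul_left _ ?_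
        have h0 : P.index ≠ 0 := index_ne_zero_of_finite
        have h1 : P.index ≠ 1 := fun e => hgP (index_eq_one.1 e ▸ mem_top g)
        omega
      omega
    have hnpos : 0 < n := by rw [hn]; positivity
    have hord : ∀ x : G, orderOf x ≤ 2 * (2 * n) := fun x => by
      refine Nat.le_of_dvd (by omega) (orderOf_dvd_of_pow_eq_one ?_)
      rw [pow_mul]
      by_cases hx : x ∈ P
      · exact hPexp _ (pow_mem hx 2)
      · rw [← pow_mul, mul_comm, pow_mul, pow_two]; exact hW2 _ (hout x hx).1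
    have hsmall : ∀ x : G, x ^ (2 * n) = 1 → orderOf x ≤ 2 * n := fun x hx =>
      Nat.le_of_dvd (by omega) (orderOf_dvd_of_pow_eq_one hx)
    have hcard := hb.card_le
    by_cases haP : a ∈ P
    · have := Nat.mul_le_mul (hsmall a (hPexp a haP)) (hord b)
      nlinarith
    by_cases hbP : b ∈ P
    · have := Nat.mul_le_mul (hord a) (hsmall b (hPexp b hbP))
      nlinarith
    obtain ⟨haW, hag⟩ := hout a haP
    obtain ⟨hbW, hbg⟩ := hout b hbP
    by_cases ha1 : a ^ (2 * n) = 1
    · have := Nat.mul_le_mul (hsmall a ha1) (hord b)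
      nlinarith
    by_cases hb1 : b ^ (2 * n) = 1
    · have := Nat.mul_le_mul (hord a) (hsmall b hb1)
      nlinarith
    have heq := hfix2 _ _ haW hbW hag hbg ha1 hb1
    have hle : Nat.card G ≤ 2 * n * orderOf b := by
      rw [← Nat.card_zpowers b, ← Nat.card_fin (2 * n), ← Nat.card_prod]
      refine Nat.card_le_card_of_surjective (fun p : Fin (2 * n) × zpowers b => a ^ (p.1 : ℕ) * p.2) fun x => ?_
      obtain ⟨i, j, rfl⟩ := hb x
      obtain ⟨q, r', hr', hi⟩ : ∃ (q : ℤ) (r' : ℕ), r' < 2 * n ∧ i = r' + ((2 * n : ℕ) : ℤ) * q := by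
        refine ⟨i / ((2 * n : ℕ) : ℤ), (i % ((2 * n : ℕ) : ℤ)).toNat, ?_, ?_⟩
        · have := Int.emod_lt_of_pos i (b := ((2 * n : ℕ) : ℤ)) (by omega)
          omega
        · rw [Int.toNat_of_nonneg (Int.emod_nonneg i (by omega))]
          exact (Int.emod_add_ediv_mul i _).symm.trans (by ring)
      refine ⟨(⟨r', hr'⟩, ⟨(b ^ (2 * n)) ^ q * b ^ j,
        mul_mem (zpow_mem (npow_mem_zpowers b _) q) (zpow_mem_zpowers b j)⟩), ?_⟩
      show a ^ r' * ((b ^ (2 * n)) ^ q * b ^ j) = _
      rw [← heq, hi, zpow_add, zpow_natCast, zpow_mul, zpow_natCast, mul_assoc]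
    have := hord b
    nlinarith
  · -- quaternion
    set zg := ι z with hzg
    have hhcent : ∀ k, cj h k = k := by
      let χ : ↥(displ α) →* ↥(displ α) := MonoidHom.mk' (fun k => k⁻¹ * cj h k) fun p q => by
        show (p * q)⁻¹ * cj h (p * q) = p⁻¹ * cj h p * (q⁻¹ * cj h q)
        have hcen : Commute (q⁻¹) (p⁻¹ * cj h p) := by
          rcases hz.frattini_cases _ (htriv h p) with e | e
          · rw [e]; exact Commute.one_right _
          · rw [e]; exact hz.central _
        rw [map_mul, mul_inv_rev, show q⁻¹ * p⁻¹ * (cj h p * cj h q) = q⁻¹ * (p⁻¹ * cj h p) * cj h q by group,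
          hcen.eq]
        group
      intro k
      have h1 : χ k = 1 := hβf.hom_eq_one χ (fun x => by
        show (β x)⁻¹ * cj h (β x) = x⁻¹ * cj h x
        rw [hhc, ← map_inv, ← map_mul]
        rcases hz.frattini_cases _ (htriv h x) with e | e
        · rw [e, map_one]
        · rw [e]
          exact (hz.frattini_cases _ (hΦinv β hz.mem)).resolve_left
            fun e' => hz.ne ((map_eq_one_iff β β.injective).1 e')) k
      exact (inv_mul_eq_one.1 h1).symm
    have hz1 : zg ≠ 1 := fun e => hz.ne ((map_eq_one_iff ι hιi).1 e)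
    have hzz : zg * zg = 1 := by rw [hzg, ← map_mul, hz.sq, map_one]
    have hzP : zg ∈ P := hιP z
    -- the commutator of `g` and `k₀` squares to `z`
    set e := ι (k₀⁻¹ * γ k₀) with he
    have hesq : e * e = zg := by rw [he, ← map_mul, hz.sq_out _ hk₀]
    have hed : e ∈ commutator G := by
      rw [he, map_mul, map_inv, hγ, show (ι k₀)⁻¹ * (g * ι k₀ * g⁻¹) = ⁅(ι k₀)⁻¹, g⁆ by
        rw [commutatorElement_def]; group, _root_.commutator_def]
      exact commutator_mem_commutator (mem_top _) (mem_top _)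
    let SQ : Subgroup G :=
      { carrier := {x | ∃ s ∈ commutator G, s * s = x}
        one_mem' := ⟨1, one_mem _, one_mul 1⟩
        mul_mem' := by
          rintro _ _ ⟨s, hs, rfl⟩ ⟨t, ht, rfl⟩
          refine ⟨s * t, mul_mem hs ht, ?_⟩
          rw [mul_assoc, ← mul_assoc t, derived_comm hb ht hs]
          group
        inv_mem' := by
          rintro _ ⟨s, hs, rfl⟩
          exact ⟨s⁻¹, inv_mem hs, (mul_inv_rev s s).symm⟩ }
    haveI : SQ.Normal := ⟨by
      rintro _ ⟨s, hs, rfl⟩ c
      exact ⟨c * s * c⁻¹, Subgroup.Normal.conj_mem inferInstance s hs c, by group⟩⟩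
    have hzSQ : zg ∈ SQ := ⟨e, hed, hesq⟩
    obtain ⟨W, hWn, hW4, hWd, hW2, hWall⟩ := exists_omega hG hb hnc
    have hzW : zg ∈ W := hWall _ (frattini_map_le hG hD ι (mem_map_of_mem _ hz.mem)) hzz
    obtain ⟨N₀, hN₀n, hN₀P, hN₀SQ, hzN₀, hN₀2⟩ : ∃ N₀ : Subgroup G, N₀.Normal ∧ N₀ ≤ P ∧ N₀ ≤ SQ ∧
        zg ∈ N₀ ∧ ∀ x ∈ N₀, x * x = 1 := by
      have hzp : ∀ x ∈ zpowers zg, x = 1 ∨ x = zg := by
        intro x hx
        obtain ⟨i, rfl⟩ := mem_zpowers_iff.1 hx
        rcases Int.even_or_odd i with ⟨t, rfl⟩ | ⟨t, rfl⟩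
        · exact Or.inl (by rw [← two_mul, zpow_mul, zpow_two, hzz, one_zpow])
        · exact Or.inr (by rw [zpow_add, zpow_one, zpow_mul, zpow_two, hzz, one_zpow, one_mul])
      by_cases hzc : ∀ x : G, x * zg = zg * x
      · refine ⟨zpowers zg, ⟨fun y hy x => ?_⟩, zpowers_le.2 hzP, zpowers_le.2 hzSQ, mem_zpowers _,
          fun x hx => ?_⟩
        · rcases hzp y hy with rfl | rfl
          · rw [mul_one, mul_inv_cancel]; exact one_mem _
          · rw [hzc x, mul_inv_cancel_right]; exact mem_zpowers _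
        · rcases hzp x hx with rfl | rfl
          exacts [one_mul 1, hzz]
      · have hcard2 : 2 ≤ Nat.card (zpowers zg) := by
          rw [Nat.card_zpowers, orderOf_eq_prime (by rw [pow_two]; exact hzz) hz1]
        -- a central involution of `W` other than `z`
        haveI := hG.isNilpotent
        obtain ⟨w, ⟨hwW, hwc⟩, hw1⟩ := (bot_or_exists_ne_one (W ⊓ center G)).resolve_left
          (Core.inf_center_ne_bot fun e => by rw [e, card_bot] at hW4; omega)
        have hwz : w ≠ zg := fun e => hzc fun x => e ▸ mem_center_iff.1 hwc x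
        have hwP : w ∈ P := by
          rcases hN w (mem_normalizer_iff.2 fun y => by rw [← mem_center_iff.1 hwc y, mul_inv_cancel_right]) with
            h' | h'
          · exact h'
          · exfalso
            refine hmvG w h' ?_
            rw [← mem_center_iff.1 hwc, mul_inv_cancel_right]
        have hthree : ∀ H : Subgroup G, H ≤ W → zg ∈ H → w ∈ H → W ≤ H := fun H hHW h1 h2 => by
          refine (eq_of_le_of_card_ge hHW ?_).ge
          rw [hW4]
          obtain ⟨c, hc⟩ := card_dvd_of_le (zpowers_le.2 h1)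
          have hc1 : c ≠ 1 := fun e1 => by
            rw [e1, mul_one] at hc
            rcases hzp w ((eq_of_le_of_card_ge (zpowers_le.2 h1) hc.le).symm ▸ h2) with h' | h'
            exacts [hw1 h', hwz h']
          have hc0 : c ≠ 0 := fun e1 => by
            rw [e1, mul_zero] at hc; exact Nat.card_pos.ne' hc
          rw [hc]
          calc 4 = 2 * 2 := rfl
            _ ≤ _ := Nat.mul_le_mul hcard2 (by omega)
        have hWP : W ≤ P := (hthree (W ⊓ P) inf_le_left ⟨hzW, hzP⟩ ⟨hwW, hwP⟩).trans inf_le_right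
        have hWSQ : W ≤ SQ := by
          -- a normal subgroup of `W` containing the noncentral `z`
          have hle : (W ⊓ SQ : Subgroup G) ≤ W := inf_le_left
          haveI := hWn
          by_contra hns
          obtain ⟨c, hc⟩ := card_dvd_of_le (zpowers_le.2 (show zg ∈ W ⊓ SQ from ⟨hzW, hzSQ⟩))
          have hlt : Nat.card (W ⊓ SQ : Subgroup G) < 4 := by
            by_contra hge
            exact hns ((eq_of_le_of_card_ge hle (by omega)).ge.trans inf_le_right)
          have heq : zpowers zg = W ⊓ SQ := eq_of_le_of_card_ge (zpowers_le.2 (show zg ∈ W ⊓ SQ from ⟨hzW, hzSQ⟩)) (by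
            rw [hc] at hlt ⊢
            have : c < 2 := by
              by_contra hc2
              have := Nat.mul_le_mul hcard2 (not_lt.1 hc2)
              omega
            calc Nat.card (zpowers zg) * c ≤ Nat.card (zpowers zg) * 1 := Nat.mul_le_mul_left _ (by omega)
              _ = _ := mul_one _)
          refine hzc fun x => ?_
          have hmem : x * zg * x⁻¹ ∈ zpowers zg := by
            rw [heq]
            exact (inferInstance : (W ⊓ SQ).Normal).conj_mem _ ⟨hzW, hzSQ⟩ x
          rcases hzp _ hmem with h' | h'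
          · exact absurd (conj_eq_one_iff.1 h') hz1
          · exact mul_inv_eq_iff_eq_mul.1 h'
        exact ⟨W, hWn, hWP, hWSQ, hzW, hW2⟩
    haveI := hN₀n
    have hmeet : ∀ k, ι k ∈ N₀ → k ∈ frattini ↥(displ α) := fun k hk => by
      by_contra hk'
      exact hz.ne ((hz.sq_out k hk').symm.trans ((map_eq_one_iff ι hιi).1 (by rw [map_mul]; exact hN₀2 _ hk)))
    set π := QuotientGroup.mk' N₀ with hπ
    have hπs : Function.Surjective π := QuotientGroup.mk'_surjective _
    have hcyc' : ¬ IsCyclic ↥(commutator (G ⧸ N₀)) := by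
      intro hcy
      refine hnc ?_
      obtain ⟨⟨q, hq⟩, hgen⟩ := IsCyclic.exists_generator (α := ↥(commutator (G ⧸ N₀)))
      have hmap : (commutator G).map π = commutator (G ⧸ N₀) := by
        rw [_root_.commutator_def, _root_.commutator_def, map_commutator, map_top_of_surjective π hπs]
      obtain ⟨c, hc, rfl⟩ := (hmap.symm ▸ hq : q ∈ (commutator G).map π)
      have htop : zpowers (⟨c, hc⟩ : ↥(commutator G)) ⊔ frattini ↥(commutator G) = ⊤ := by
        refine eq_top_iff.2 fun x _ => ?_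
        obtain ⟨i, hi⟩ := mem_zpowers_iff.1 (hgen ⟨π x, hmap ▸ mem_map_of_mem _ x.2⟩)
        have hi' : π c ^ i = π x := by simpa using congrArg Subtype.val hi
        rw [← map_zpow] at hi'
        obtain ⟨t, ht, hts⟩ := hN₀SQ (QuotientGroup.eq.1 hi' : (c ^ i)⁻¹ * (x : G) ∈ N₀)
        have e' : x = (⟨c, hc⟩ : ↥(commutator G)) ^ i * ((⟨t, ht⟩ : ↥(commutator G)) * ⟨t, ht⟩) :=
          Subtype.ext (by simp [hts])
        rw [e']
        exact mul_mem (mem_sup_left (zpow_mem_zpowers _ i))
          (mem_sup_right (sq_mem_frattini (hG.to_subgroup _) _))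
      exact isCyclic_iff_exists_zpowers_eq_top.2 ⟨_, Core.eq_top_of_sup_frattini le_rfl htop⟩
    have hsat : ∀ x : G, π x ∈ P.map π → x ∈ P := by
      intro x hx
      obtain ⟨p, hp, hpx⟩ := hx
      have h1 := mul_mem hp (hN₀P (QuotientGroup.eq.1 hpx))
      rwa [mul_inv_cancel_left] at h1
    refine vLemma (hG.to_quotient N₀) (hb.map π hπs) hcyc' (P.map π) (ι.range.map π) (g := π g)
      ?_ ?_ ?_ ?_ ?_ ?_ ?_ ⟨π (ι k₀), mem_map_of_mem _ ⟨k₀, rfl⟩, ?_⟩
    · have key : ∀ p q : P, Commute (π p) (π q) := by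
        intro p q
        obtain ⟨k₁, hk₁, i, rfl⟩ := hcov p
        obtain ⟨k₂, hk₂, j, rfl⟩ := hcov q
        have hch : ∀ k ∈ displ α, Commute (π h) (π k) := fun k hk => by
          have h1 := hcj h ⟨k, hk⟩
          rw [hhcent] at h1
          exact (show Commute (h : G) (k : G) from mul_inv_eq_iff_eq_mul.1 h1.symm).map π
        have hkk : Commute (π k₁) (π k₂) := by
          have h1 : ⁅(⟨k₁, hk₁⟩ : ↥(displ α)), ⟨k₂, hk₂⟩⁆ ∈ frattini ↥(displ α) := by
            haveI := hD.isNilpotent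
            exact Core.commutator_le_frattini (by
              rw [_root_.commutator_def]; exact commutator_mem_commutator (mem_top _) (mem_top _))
          rw [← commutatorElement_eq_one_iff_commute, ← map_commutatorElement]
          refine (QuotientGroup.eq_one_iff _).2 ?_
          have h2 : ι ⁅(⟨k₁, hk₁⟩ : ↥(displ α)), ⟨k₂, hk₂⟩⁆ = ⁅(k₁ : G), (k₂ : G)⁆ :=
            map_commutatorElement ι _ _
          rw [← h2]
          rcases hz.frattini_cases _ h1 with e' | e' <;> rw [e']
          · rw [map_one]; exact one_mem _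
          · exact hzN₀
        simp only [Subgroup.coe_mul, Subgroup.coe_zpow, map_mul, map_zpow]
        exact (hkk.mul_right ((hch k₁ hk₁).symm.zpow_right j)).mul_left
          (((hch k₂ hk₂).zpow_left i).mul_right ((Commute.refl (π (h : G))).zpow_zpow i j))
      rintro _ ⟨p, hp, rfl⟩ _ ⟨q, hq, rfl⟩
      exact (key ⟨p, hp⟩ ⟨q, hq⟩).eq
    · refine mem_normalizer_of_conj ?_
      rintro _ ⟨p, hp, rfl⟩
      exact ⟨g⁻¹ * p * g, by
        have := (mem_normalizer_iff.1 (inv_mem hg) p).1 hp
        rwa [inv_inv] at this, by simp⟩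
    · exact fun hmem => hgP (hsat g hmem)
    · intro q hq
      obtain ⟨m, rfl⟩ := hπs q
      have hm : m ∈ normalizer (P : Set G) := mem_normalizer_of_conj fun p hp => hsat _ (by
        have h1 := (mem_normalizer_iff.1 (inv_mem hq) (π p)).1 (mem_map_of_mem _ hp)
        rw [inv_inv] at h1
        simpa using h1)
      rcases hN m hm with h' | h'
      · exact Or.inl (mem_map_of_mem _ h')
      · exact Or.inr ⟨_, h', by simp⟩
    · exact map_mono (by rintro _ ⟨k, rfl⟩; exact hιP k)
    · rintro _ ⟨_, ⟨k, rfl⟩, rfl⟩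
      rw [← map_mul, ← map_mul]
      refine (QuotientGroup.eq_one_iff _).2 ?_
      rcases hz.frattini_cases _ (sq_mem_frattini hD k) with e' | e' <;> rw [e']
      · rw [map_one]; exact one_mem _
      · exact hzN₀
    · have h1 := card_map_mul_ker π ι.range
      rw [hπ, QuotientGroup.ker_mk'] at h1
      have hint : ι.range ⊓ N₀ = zpowers zg := by
        refine le_antisymm ?_ (zpowers_le.2 (show zg ∈ ι.range ⊓ N₀ from ⟨⟨z, rfl⟩, hzN₀⟩))
        rintro x ⟨⟨k, rfl⟩, hk⟩
        rcases hz.frattini_cases _ (hmeet k hk) with e' | e' <;> rw [e']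
        · rw [map_one]; exact one_mem _
        · exact mem_zpowers _
      rw [hint, Nat.card_zpowers, orderOf_eq_prime (by rw [pow_two]; exact hzz) hz1,
        ← Nat.card_congr (MonoidHom.ofInjective hιi).toEquiv, hz.card] at h1
      rw [hπ]
      omega
    · intro h'
      refine hQ g (by rw [inv_mul_cancel]; exact one_mem P) N₀ hmeet ?_
      rw [← QuotientGroup.eq_one_iff, ← QuotientGroup.mk'_apply, map_mul, map_mul, map_mul, map_inv, map_inv,
        ← hπ, h', mul_inv_cancel]

end Cfsg.Agent.Bicyclic
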