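import Cfsg.Agent.Bicyclic.Sections
import Cfsg.Agent.Core.Ito
import Cfsg.Agent.Core.Solvable
import Cfsg.Agent.Fusion.UniqueInvolution

/-!
The derived subgroup of a bicyclic 2-group: abelian, and when it is not cyclic its involutions are
exactly those of the Frattini subgroup.
-/

set_option autoImplicit false

open Subgroup
open scoped commutatorElement

namespace Cfsg.Agent.Bicyclic

universe u

variable {G : Type u} [Group G] [Finite G] (hG : IsPGroup 2 G) {a b : G} (hb : BC a b)

include hb in
omit [Finite G] in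
/-- The derived subgroup is abelian. -/
theorem derived_comm {x y : G} (hx : x ∈ commutator G) (hy : y ∈ commutator G) : x * y = y * x := by
  have h := Core.ito_derivedSeries (A := zpowers a) (B := zpowers b) fun g => by
    obtain ⟨i, j, hij⟩ := hb g
    exact ⟨_, zpow_mem_zpowers a i, _, zpow_mem_zpowers b j, hij⟩
  rw [derivedSeries_succ, derivedSeries_one, eq_bot_iff, Subgroup.commutator_le] at h
  exact commutatorElement_eq_one_iff_mul_comm.1 (mem_bot.1 (h x hx y hy))

include hG in
theorem commutator_le_frattini : commutator G ≤ frattini G :=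
  haveI : Fact (Nat.Prime 2) := ⟨Nat.prime_two⟩
  haveI := hG.isNilpotent
  Core.commutator_le_frattini

include hG hb in
/-- The involutions of a noncyclic derived subgroup. -/
theorem exists_omega (hnc : ¬ IsCyclic ↥(commutator G)) : ∃ W : Subgroup G, W.Normal ∧ Nat.card W = 4 ∧
    W ≤ commutator G ∧ (∀ w ∈ W, w * w = 1) ∧ ∀ x ∈ frattini G, x * x = 1 → x ∈ W := by
  haveI : Fact (Nat.Prime 2) := ⟨Nat.prime_two⟩
  let W : Subgroup G :=
    { carrier := {x | x ∈ commutator G ∧ x * x = 1}
      one_mem' := ⟨one_mem _, mul_one 1⟩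
      mul_mem' := fun {x y} hx hy => ⟨mul_mem hx.1 hy.1, by
        rw [mul_assoc, ← mul_assoc y, derived_comm hb hy.1 hx.1, mul_assoc, ← mul_assoc, hx.2, hy.2, one_mul]⟩
      inv_mem' := fun {x} hx => ⟨inv_mem hx.1, by rw [← mul_inv_rev, hx.2, inv_one]⟩ }
  haveI hn : W.Normal := ⟨fun x hx g => ⟨Subgroup.Normal.conj_mem inferInstance x hx.1 g, by
    rw [show g * x * g⁻¹ * (g * x * g⁻¹) = g * (x * x) * g⁻¹ by group, hx.2, mul_one, mul_inv_cancel]⟩⟩
  have hWsq : ∀ w ∈ W, w * w = 1 := fun w hw => hw.2
  have hle4 : Nat.card W ≤ 4 :=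
    elementary_le_four hG hb (fun w hw => commutator_le_frattini hG hw.1) hWsq
  obtain ⟨u, v, hu, hv, hv1, huv, hu1⟩ : ∃ u v : G, u ∈ W ∧ v ∈ W ∧ v ≠ 1 ∧ u ≠ v ∧ u ≠ 1 := by
    by_contra hno
    push Not at hno
    refine hnc (Fusion.isCyclic_of_unique (p := 2) (hG.to_subgroup _)
      ⟨⟨fun x y => Subtype.ext (derived_comm hb x.2 y.2)⟩⟩ fun u hu v hv hvo hu2 => ?_)
    have hv2 : v ∈ W := ⟨hv, by rw [← pow_two, ← hvo, pow_orderOf_eq_one]⟩
    have hu' : u ∈ W := ⟨hu, by rw [← pow_two, hu2]⟩
    have hv1 : v ≠ 1 := fun e => by rw [e, orderOf_one] at hvo; omega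
    by_cases hu1 : u = 1
    · exact hu1 ▸ one_mem _
    · by_contra hne
      exact hu1 (hno u v hu' hv2 hv1 fun e => hne (e ▸ mem_zpowers v))
  have hcard : Nat.card W = 4 := by
    refine le_antisymm hle4 ?_
    classical
    haveI := Fintype.ofFinite W
    have huv' : u * v ≠ 1 := fun e => huv (by
      rw [← hu.2] at e
      exact (mul_left_cancel e).symm)
    have hnd : ([1, ⟨u, hu⟩, ⟨v, hv⟩, ⟨u * v, mul_mem hu hv⟩] : List W).Nodup := by
      simp [Subtype.ext_iff, Ne.symm hu1, Ne.symm hv1, Ne.symm huv', huv, hu1, hv1]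
    have h1 := hnd.length_le_card
    rw [← Nat.card_eq_fintype_card] at h1
    simpa using h1
  refine ⟨W, hn, hcard, fun w hw => hw.1, hWsq, fun x hx hx2 => ?_⟩
  by_contra hxW
  have hcomm : ∀ w ∈ W, x * w = w * x := fun w hw => frattini_centralizes hG hle4 hx hw
  let T : Subgroup G :=
    { carrier := {t | t ∈ W ∨ x * t ∈ W}
      one_mem' := Or.inl (one_mem W)
      mul_mem' := by
        rintro s t (hs | hs) (ht | ht)
        · exact Or.inl (mul_mem hs ht)
        · exact Or.inr (by rw [← mul_assoc, hcomm s hs, mul_assoc]; exact mul_mem hs ht)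
        · exact Or.inr (by rw [← mul_assoc]; exact mul_mem hs ht)
        · refine Or.inl ?_
          have e : s * t = x * s * (x * t) := by
            rw [← mul_assoc (x * s), mul_assoc x s x,
              show s * x = x * s from by
                have h := hcomm _ hs
                calc s * x = x * (x * s) * x := by rw [← mul_assoc x x, hx2, one_mul]
                  _ = x * s * x * x := by rw [h]
                  _ = x * s := by rw [mul_assoc (x * s), hx2, mul_one]]
            rw [← mul_assoc x x, hx2, one_mul]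
          rw [e]
          exact mul_mem hs ht
      inv_mem' := by
        rintro s (hs | hs)
        · exact Or.inl (inv_mem hs)
        · refine Or.inr ?_
          have h := inv_mem hs
          rw [mul_inv_rev] at h
          have h' := Subgroup.Normal.conj_mem hn _ h x
          rwa [show x * (s⁻¹ * x⁻¹) * x⁻¹ = x * s⁻¹ * (x * x)⁻¹ by group, hx2, inv_one, mul_one] at h' }
  have hWT : W ≤ T := fun w hw => Or.inl hw
  have hxT : x ∈ T := Or.inr (by rw [hx2]; exact one_mem W)
  have hTΦ : T ≤ frattini G := by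
    rintro t (ht | ht)
    · exact commutator_le_frattini hG ht.1
    · have h := mul_mem (inv_mem hx) (commutator_le_frattini hG ht.1)
      rwa [inv_mul_cancel_left] at h
  have hTsq : ∀ t ∈ T, t * t = 1 := by
    rintro t (ht | ht)
    · exact ht.2
    · have e : t = x * (x * t) := by rw [← mul_assoc, hx2, one_mul]
      rw [e]
      generalize x * t = w at ht ⊢
      rw [mul_assoc x w, ← mul_assoc w, ← hcomm w ht, mul_assoc x w, ht.2, mul_one, hx2]
  have h1 := elementary_le_four hG hb hTΦ hTsq
  exact hxW ((eq_of_le_of_card_ge hWT (h1.trans hcard.ge)).symm ▸ hxT : x ∈ W)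

end Cfsg.Agent.Bicyclic
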