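import Mathlib.GroupTheory.SpecificGroups.Quaternion
import Mathlib.GroupTheory.SpecificGroups.Dihedral
import Mathlib.GroupTheory.Subgroup.Centralizer
import Mathlib.GroupTheory.OrderOfElement
import Mathlib.Algebra.Group.End
import Mathlib.Algebra.Group.Subgroup.Map
import Mathlib.Tactic.Group

/-!
The four-group and the quaternion group of order eight with their automorphisms of order three, and the
extension of an automorphism of one factor to a product of two commuting subgroups.
-/

set_option autoImplicit false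

namespace Cfsg.Agent.Bicyclic.Models

universe u

open QuaternionGroup DihedralGroup

/-- The four-group. -/
abbrev V4 : Type := DihedralGroup 2

/-- The quaternion group of order eight. -/
abbrev Q8 : Type := QuaternionGroup 2

/-- The underlying map of the automorphism of order three of the four-group. -/
def tV : V4 → V4
  | .r i => if i = 0 then .r 0 else .sr 0
  | .sr i => if i = 0 then .sr 1 else .r 1

/-- The automorphism of order three of the four-group. -/
def τV : MulAut V4 where
  toFun := tV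
  invFun := fun x => tV (tV x)
  left_inv := by unfold Function.LeftInverse; decide
  right_inv := by unfold Function.RightInverse Function.LeftInverse; decide
  map_mul' := by decide

/-- A transposition of the four-group. -/
def φV : MulAut V4 where
  toFun := fun
    | .r i => .r i
    | .sr i => .sr (i + 1)
  invFun := fun
    | .r i => .r i
    | .sr i => .sr (i + 1)
  left_inv := by unfold Function.LeftInverse; decide
  right_inv := by unfold Function.RightInverse Function.LeftInverse; decide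
  map_mul' := by decide

/-- The underlying map of the automorphism of order three of the quaternion group. -/
def tQ : Q8 → Q8
  | .a i => if i = 0 then .a 0 else if i = 1 then .xa 0 else if i = 2 then .a 2 else .xa 2
  | .xa i => if i = 0 then .xa 3 else if i = 1 then .a 3 else if i = 2 then .xa 1 else .a 1

/-- The automorphism of order three of the quaternion group. -/
def τQ : MulAut Q8 where
  toFun := tQ
  invFun := fun x => tQ (tQ x)
  left_inv := by unfold Function.LeftInverse; decide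
  right_inv := by unfold Function.RightInverse Function.LeftInverse; decide
  map_mul' := by decide

/-- An outer involution of the quaternion group. -/
def φQ : MulAut Q8 where
  toFun := fun
    | .a i => .a i
    | .xa i => .xa (i - 1)
  invFun := fun
    | .a i => .a i
    | .xa i => .xa (i + 1)
  left_inv := by unfold Function.LeftInverse; decide
  right_inv := by unfold Function.RightInverse Function.LeftInverse; decide
  map_mul' := by decide

theorem τV_cube : τV ^ 3 = 1 := MulEquiv.ext fun x => by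
  simp only [pow_succ, pow_zero, one_mul, MulAut.mul_apply, MulAut.one_apply]
  revert x; decide

theorem τV_ne_one : τV ≠ 1 := fun h =>
  absurd (congrArg (fun e : MulAut V4 => e (.sr 0)) h) (by decide)

theorem inner_V : ∀ x : V4, φV (τV (φV.symm (τV x))) = x := by decide

theorem τQ_cube : τQ ^ 3 = 1 := MulEquiv.ext fun x => by
  simp only [pow_succ, pow_zero, one_mul, MulAut.mul_apply, MulAut.one_apply]
  revert x; decide

theorem τQ_ne_one : τQ ≠ 1 := fun h =>
  absurd (congrArg (fun e : MulAut Q8 => e (.xa 0)) h) (by decide)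

theorem inner_Q : ∀ x : Q8, φQ (τQ (φQ.symm (τQ x))) = .xa 3 * x * (.xa 3 : Q8)⁻¹ := by decide

theorem τQ_center : ∀ x : Q8, (∀ y : Q8, x * y = y * x) → τQ x = x := by decide

theorem τQ_rotate : ∀ x : Q8, (∀ y : Q8, x * y = y * x) ∨ x ∈ ({.a 1, .a 3} : Finset Q8) ∨
    τQ x ∈ ({.a 1, .a 3} : Finset Q8) ∨ τQ (τQ x) ∈ ({.a 1, .a 3} : Finset Q8) := by decide

/-- A subgroup of the quaternion group containing `a 1` and an element outside its cyclic subgroup is everything. -/
theorem eq_top_of_gen {N : Subgroup Q8} (h1 : (.a 1 : Q8) ∈ N) {j : ZMod (2 * 2)} (hj : (.xa j : Q8) ∈ N) :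
    N = ⊤ := by
  have ha : ∀ i : ZMod (2 * 2), (.a i : Q8) ∈ N := fun i => by
    have := pow_mem h1 i.val
    rwa [QuaternionGroup.a_one_pow, ZMod.natCast_zmod_val] at this
  refine eq_top_iff.2 fun x _ => ?_
  rcases x with i | i
  · exact ha i
  · have := mul_mem hj (ha (i - j))
    rwa [QuaternionGroup.xa_mul_a, add_sub_cancel] at this

variable {G : Type u} [Group G]

/-- Powers indexed by residues. -/
def pw {k : ℕ} (I : G) (i : ZMod k) : G := I ^ i.val

theorem pw_add {k : ℕ} [NeZero k] {I : G} (hI : I ^ k = 1) (i j : ZMod k) :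
    pw I (i + j) = pw I i * pw I j := by
  rw [pw, pw, pw, ← pow_add, ZMod.val_add, ← pow_eq_pow_mod _ hI]

theorem pw_zero {k : ℕ} (I : G) : pw I (0 : ZMod k) = 1 := by simp [pw]

theorem pw_sub {k : ℕ} [NeZero k] {I : G} (hI : I ^ k = 1) (i j : ZMod k) :
    pw I (j - i) = (pw I i)⁻¹ * pw I j := by
  rw [eq_inv_mul_iff_mul_eq, ← pw_add hI, add_sub_cancel]

theorem pow_swap {I J : G} (hJ : J * I * J⁻¹ = I⁻¹) (m : ℕ) : I ^ m * J = J * (I ^ m)⁻¹ := by
  have h : J * (I ^ m)⁻¹ * J⁻¹ = I ^ m := by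
    rw [← inv_inj, mul_inv_rev, mul_inv_rev, inv_inv, inv_inv, ← mul_assoc, ← conj_pow, hJ, inv_pow]
  calc I ^ m * J = J * (I ^ m)⁻¹ * J⁻¹ * J := by rw [h]
    _ = J * (I ^ m)⁻¹ := by group

theorem pw_swap {k : ℕ} {I J : G} (hJ : J * I * J⁻¹ = I⁻¹) (i : ZMod k) : pw I i * J = J * (pw I i)⁻¹ :=
  pow_swap hJ _

/-- A homomorphism from the four-group. -/
theorem exists_homV {I J : G} (hI : I * I = 1) (hJ : J * I * J⁻¹ = I⁻¹) (hJ2 : J * J = 1) :
    ∃ f : V4 →* G, (∀ i, f (.r i) = pw I i) ∧ ∀ i, f (.sr i) = J * pw I i := by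
  have hI' : I ^ 2 = 1 := by rw [pow_two, hI]
  let f : V4 → G := fun
    | .r i => pw I i
    | .sr i => J * pw I i
  refine ⟨MonoidHom.mk' f ?_, fun i => rfl, fun i => rfl⟩
  rintro (i | i) (j | j)
  · simp only [DihedralGroup.r_mul_r, f, pw_add hI']
  · simp only [DihedralGroup.r_mul_sr, f, pw_sub hI']
    rw [← mul_assoc (pw I i), pw_swap hJ]
    simp [mul_assoc]
  · simp only [DihedralGroup.sr_mul_r, f, pw_add hI', mul_assoc]
  · simp only [DihedralGroup.sr_mul_sr, f, pw_sub hI']
    rw [mul_assoc J, ← mul_assoc (pw I i), pw_swap hJ, mul_assoc J, ← mul_assoc J J, hJ2, one_mul]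

/-- A homomorphism from the quaternion group. -/
theorem exists_homQ {I J : G} (hI : I ^ 4 = 1) (hJ : J * I * J⁻¹ = I⁻¹) (hJ2 : J * J = I * I) :
    ∃ f : Q8 →* G, (∀ i, f (.a i) = pw I i) ∧ ∀ i, f (.xa i) = J * pw I i := by
  have hI' : I ^ (2 * 2) = 1 := hI
  let f : Q8 → G := fun
    | .a i => pw I i
    | .xa i => J * pw I i
  refine ⟨MonoidHom.mk' f ?_, fun i => rfl, fun i => rfl⟩
  rintro (i | i) (j | j)
  · simp only [QuaternionGroup.a_mul_a, f, pw_add hI']
  · simp only [QuaternionGroup.a_mul_xa, f, pw_sub hI']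
    rw [← mul_assoc (pw I i), pw_swap hJ]
    simp [mul_assoc]
  · simp only [QuaternionGroup.xa_mul_a, f, pw_add hI', mul_assoc]
  · simp only [QuaternionGroup.xa_mul_xa, f]
    rw [mul_assoc J, ← mul_assoc (pw I i), pw_swap hJ, mul_assoc J, ← mul_assoc J J, hJ2,
      show ((2 : ℕ) : ZMod (2 * 2)) + j - i = 1 + 1 + (j - i) by push_cast; ring, pw_add hI', pw_add hI',
      pw_sub hI']
    simp [pw, mul_assoc, show ZMod.val (1 : ZMod (2 * 2)) = 1 from rfl]

/-- Extend a map of the first factor to the product. -/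
theorem exists_hom_factor {M : Type*} [Group M] (f : M →* G) (hf : Function.Injective f) (P C : Subgroup G)
    (hfP : ∀ m, f m ∈ P) (hCP : C ≤ P) (hrep : ∀ x ∈ P, ∃ m, ∃ d ∈ C, x = f m * d)
    (hcomm : ∀ m, ∀ d ∈ C, f m * d = d * f m) (τ : MulAut M) (hfix : ∀ m, f m ∈ C → τ m = m) :
    ∃ A : P →* P, ∀ m, ∀ d ∈ C, ∀ x : P, (x : G) = f m * d → (A x : G) = f (τ m) * d := by
  choose m d hd hx using fun x : P => hrep x x.2
  have hwd : ∀ m₁ m₂, ∀ d₁ ∈ C, ∀ d₂ ∈ C, f m₁ * d₁ = f m₂ * d₂ → f (τ m₁) * d₁ = f (τ m₂) * d₂ := by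
    intro m₁ m₂ d₁ hd₁ d₂ hd₂ e
    have h1 : f (m₂⁻¹ * m₁) = d₂ * d₁⁻¹ := by
      rw [map_mul, map_inv, eq_mul_inv_iff_mul_eq, mul_assoc, e, inv_mul_cancel_left]
    have h2 := hfix _ (h1 ▸ mul_mem hd₂ (inv_mem hd₁))
    have h3 : f (τ m₁) = f (τ m₂) * (d₂ * d₁⁻¹) := by
      rw [← h1, ← map_mul f]
      refine congrArg f ?_
      rw [← h2, map_mul, map_inv, mul_inv_cancel_left]
    rw [h3, mul_assoc, inv_mul_cancel_right]
  let A : P → P := fun x => ⟨f (τ (m x)) * d x, mul_mem (hfP _) (hCP (hd x))⟩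
  have hA : ∀ m', ∀ d' ∈ C, ∀ x : P, (x : G) = f m' * d' → (A x : G) = f (τ m') * d' := fun m' d' hd' x e =>
    hwd _ _ _ (hd x) _ hd' ((hx x).symm.trans e)
  refine ⟨MonoidHom.mk' A fun x y => Subtype.ext ?_, fun m' d' hd' x e => hA m' d' hd' x e⟩
  rw [hA (m x * m y) (d x * d y) (mul_mem (hd x) (hd y)) (x * y) (by
      rw [Subgroup.coe_mul, hx x, hx y, map_mul, mul_assoc, ← mul_assoc (d x), ← hcomm _ _ (hd x)]
      simp [mul_assoc]), Subgroup.coe_mul]
  show f (τ (m x * m y)) * (d x * d y) = f (τ (m x)) * d x * (f (τ (m y)) * d y)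
  rw [map_mul τ, map_mul f, mul_assoc, mul_assoc, ← mul_assoc (f (τ (m y))), hcomm _ _ (hd x), mul_assoc]

/-- An automorphism of order three of the product. -/
theorem exists_aut_factor {M : Type*} [Group M] (f : M →* G) (hf : Function.Injective f) (P C : Subgroup G)
    (hfP : ∀ m, f m ∈ P) (hCP : C ≤ P) (hrep : ∀ x ∈ P, ∃ m, ∃ d ∈ C, x = f m * d)
    (hcomm : ∀ m, ∀ d ∈ C, f m * d = d * f m) (τ : MulAut M) (h3 : τ ^ 3 = 1) (h1 : τ ≠ 1)
    (hfix : ∀ m, f m ∈ C → τ m = m) :
    ∃ α : MulAut P, α ^ 3 = 1 ∧ α ≠ 1 ∧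
      ∀ (k : ℕ) (m : M), ∀ d ∈ C, ∀ x : P, (x : G) = f m * d → ((α ^ k) x : G) = f ((τ ^ k) m) * d := by
  obtain ⟨A, hA⟩ := exists_hom_factor f hf P C hfP hCP hrep hcomm τ hfix
  have e3 : ∀ x, A (A (A x)) = x := fun x => by
    obtain ⟨m, d, hd, hx⟩ := hrep x x.2
    refine Subtype.ext ?_
    rw [hA _ d hd _ (hA _ d hd _ (hA m d hd x hx)), hx]
    have := congrArg (fun e : MulAut M => e m) h3
    simp only [pow_succ, pow_zero, one_mul, MulAut.mul_apply, MulAut.one_apply] at this
    rw [this]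
  let α : MulAut P :=
    { toFun := A
      invFun := fun x => A (A x)
      left_inv := e3
      right_inv := e3
      map_mul' := map_mul A }
  have hα : ∀ (k : ℕ) (m : M), ∀ d ∈ C, ∀ x : P, (x : G) = f m * d → ((α ^ k) x : G) = f ((τ ^ k) m) * d := by
    intro k
    induction k with
    | zero => intro m d hd x hx; simpa using hx
    | succ k ih =>
      intro m d hd x hx
      rw [pow_succ', pow_succ', MulAut.mul_apply, MulAut.mul_apply]
      exact hA _ d hd _ (ih m d hd x hx)
  refine ⟨α, MulEquiv.ext fun x => by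
    simp only [pow_succ, pow_zero, one_mul, MulAut.mul_apply, MulAut.one_apply]
    exact e3 x, fun e => h1 (MulEquiv.ext fun m => hf ?_), hα⟩
  have h := hα 1 m 1 (one_mem C) ⟨f m, hfP m⟩ (mul_one _).symm
  rw [pow_one, pow_one, e, MulAut.one_apply, mul_one] at h
  exact h.symm

end Cfsg.Agent.Bicyclic.Models
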