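import Cfsg.Agent.FusSys.SatCriterion
import Cfsg.Agent.FusSys.Inner

/-!
The fusion system generated by the conjugations of a 2-group and one automorphism of order three of a
self-centralising subgroup, inverted modulo inner automorphisms by the normalizer, is saturated.
-/

set_option autoImplicit false

open Subgroup

namespace Cfsg.Agent.Bicyclic.Swap

open Cfsg Cfsg.FusionSystem Cfsg.Agent.FusSys

universe u

variable {Ω : Type u} [Group Ω]

/-- Data for the construction. -/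
structure Setup (S P : Subgroup Ω) (α : MulAut P) (g : Ω) : Prop where
  two : IsPGroup 2 S
  le : P ≤ S
  cent : centralizerIn S P ≤ P
  cube : α ^ 3 = 1
  ne_one : α ≠ 1
  mem : g ∈ S
  normal : g ∈ normalizer (P : Set Ω)
  notMem : g ∉ P
  cover : ∀ n ∈ S, n ∈ normalizer (P : Set Ω) → n ∈ P ∨ g⁻¹ * n ∈ P
  inner : ∀ σ : MulAut P, (∀ x ∈ P, apl σ x = g * x * g⁻¹) → σ * α * σ⁻¹ * α ∈ Inn P
  small : ∀ X ≤ P, X ≠ P → ∃ k : ℕ, ∃ s ∈ S,
    (∀ x ∈ X, apl (α ^ k) x ≠ s) ∧ ∀ x ∈ X, s * apl (α ^ k) x = apl (α ^ k) x * s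

/-- The maps generated by the conjugations and the automorphism. -/
inductive Wd (S P : Subgroup Ω) (α : MulAut P) : Subgroup Ω → (Ω → Ω) → Prop
  | base {X : Subgroup Ω} : X ≤ S → Wd S P α X id
  | cj {X : Subgroup Ω} {f : Ω → Ω} {s : Ω} : Wd S P α X f → s ∈ S → Wd S P α X (fun x => s * f x * s⁻¹)
  | al {X : Subgroup Ω} {f : Ω → Ω} : Wd S P α X f → (∀ x ∈ X, f x ∈ P) → Wd S P α X (fun x => apl α (f x))
  | congr {X : Subgroup Ω} {f f' : Ω → Ω} : Wd S P α X f → (∀ x ∈ X, f' x = f x) → Wd S P α X f'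

variable {S P X Y : Subgroup Ω} {α : MulAut P} {g : Ω} {f h : Ω → Ω}

theorem Wd.le (hf : Wd S P α X f) : X ≤ S := by
  induction hf with
  | base h => exact h
  | cj _ _ ih => exact ih
  | al _ _ ih => exact ih
  | congr _ _ ih => exact ih

theorem Wd.mem_S (hP : P ≤ S) (hf : Wd S P α X f) {x : Ω} (hx : x ∈ X) : f x ∈ S := by
  induction hf with
  | base h => exact h hx
  | cj _ hs ih => exact S.mul_mem (S.mul_mem hs ih) (S.inv_mem hs)
  | al _ hm _ => exact hP (apl_mem _ (hm _ hx))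
  | congr _ he ih => rw [he _ hx]; exact ih

theorem Wd.map_mul (hf : Wd S P α X f) {x y : Ω} (hx : x ∈ X) (hy : y ∈ X) : f (x * y) = f x * f y := by
  induction hf with
  | base _ => rfl
  | cj _ _ ih => simp only [ih]; group
  | al _ hm ih =>
    simp only [ih]
    rw [apl_apply _ (mul_mem (hm x hx) (hm y hy)), apl_apply _ (hm x hx), apl_apply _ (hm y hy),
      ← Subgroup.coe_mul, ← _root_.map_mul]
    rfl
  | congr _ he ih => rw [he _ hx, he _ hy, he _ (mul_mem hx hy), ih]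

theorem Wd.injOn (hf : Wd S P α X f) : Set.InjOn f X := by
  induction hf with
  | base _ => exact fun x _ y _ e => e
  | cj _ _ ih => exact fun x hx y hy e => ih hx hy (mul_left_cancel (mul_right_cancel e))
  | al _ hm ih =>
    intro x hx y hy e
    refine ih hx hy ?_
    have e' := congrArg (apl α⁻¹) (show apl α _ = apl α _ from e)
    rwa [apl_inv_apl α (hm x hx), apl_inv_apl α (hm y hy)] at e'
  | congr _ he ih => exact fun x hx y hy e => ih hx hy (by rw [← he _ hx, ← he _ hy]; exact e)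

theorem Wd.map_one (hf : Wd S P α X f) : f 1 = 1 := by
  have h := hf.map_mul (one_mem X) (one_mem X)
  rw [one_mul] at h
  exact left_eq_mul.1 h

theorem Wd.map_inv (hf : Wd S P α X f) {x : Ω} (hx : x ∈ X) : f x⁻¹ = (f x)⁻¹ := by
  refine eq_inv_of_mul_eq_one_left ?_
  rw [← hf.map_mul (inv_mem hx) hx, inv_mul_cancel, hf.map_one]

theorem Wd.mono (hf : Wd S P α X f) (hY : Y ≤ X) : Wd S P α Y f := by
  induction hf with
  | base h => exact .base (hY.trans h)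
  | cj _ hs ih => exact .cj ih hs
  | al _ hm ih => exact .al ih fun x hx => hm x (hY hx)
  | congr _ he ih => exact .congr ih fun x hx => he x (hY hx)

theorem Wd.comp (hf : Wd S P α X f) (hh : Wd S P α Y h) (hm : ∀ x ∈ X, f x ∈ Y) :
    Wd S P α X (fun x => h (f x)) := by
  induction hh with
  | base _ => exact hf
  | cj _ hs ih => exact ih.cj hs
  | al _ hm' ih => exact ih.al fun x hx => hm' _ (hm x hx)
  | congr _ he ih => exact ih.congr fun x hx => he _ (hm x hx)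

/-- The image. -/
def Wd.image (hf : Wd S P α X f) : Subgroup Ω where
  carrier := f '' X
  one_mem' := ⟨1, one_mem X, hf.map_one⟩
  mul_mem' := by
    rintro _ _ ⟨x, hx, rfl⟩ ⟨y, hy, rfl⟩
    exact ⟨x * y, mul_mem hx hy, hf.map_mul hx hy⟩
  inv_mem' := by
    rintro _ ⟨x, hx, rfl⟩
    exact ⟨x⁻¹, inv_mem hx, hf.map_inv hx⟩

theorem Wd.exists_inverse (hP : P ≤ S) (h3 : α ^ 3 = 1) (hf : Wd S P α X f) :
    ∀ Y : Subgroup Ω, (∀ y ∈ Y, ∃ x ∈ X, f x = y) → ∃ k, Wd S P α Y k ∧ ∀ x ∈ X, f x ∈ Y → k (f x) = x := by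
  induction hf with
  | base h =>
    intro Y hY
    refine ⟨id, .base fun y hy => ?_, fun x _ _ => rfl⟩
    obtain ⟨x, hx, rfl⟩ := hY y hy
    exact h hx
  | @cj f s hw hs ih =>
    intro Y hY
    obtain ⟨k, hk, hkx⟩ := ih hw.image fun y hy => hy
    have hYS : Y ≤ S := fun y hy => by
      obtain ⟨x, hx, rfl⟩ := hY y hy
      exact (hw.cj hs).mem_S hP hx
    refine ⟨_, ((Wd.base hYS).cj (S.inv_mem hs)).comp hk fun y hy => ?_, fun x hx hxY => ?_⟩
    · obtain ⟨x, hx, rfl⟩ := hY y hy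
      exact ⟨x, hx, by simp [mul_assoc]⟩
    · show k (s⁻¹ * (s * f x * s⁻¹) * s⁻¹⁻¹) = x
      rw [show s⁻¹ * (s * f x * s⁻¹) * s⁻¹⁻¹ = f x by group]
      exact hkx x hx ⟨x, hx, rfl⟩
  | @al f hw hm ih =>
    intro Y hY
    obtain ⟨k, hk, hkx⟩ := ih hw.image fun y hy => hy
    have hYP : Y ≤ P := fun y hy => by
      obtain ⟨x, hx, rfl⟩ := hY y hy
      exact apl_mem _ (hm x hx)
    have e2 : ∀ p ∈ P, apl α (apl α (apl α p)) = p := fun p hp => by
      rw [← apl_mul _ _ hp, ← apl_mul _ _ hp, ← pow_three α, h3, apl_one hp]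
    have hw2 : Wd S P α Y (fun y => apl α (apl α y)) :=
      ((Wd.base (hYP.trans hP)).al hYP).al fun y hy => apl_mem _ (hYP hy)
    refine ⟨_, hw2.comp hk fun y hy => ?_, fun x hx hxY => ?_⟩
    · obtain ⟨x, hx, rfl⟩ := hY y hy
      exact ⟨x, hx, (e2 _ (hm x hx)).symm⟩
    · show k (apl α (apl α (apl α (f x)))) = x
      rw [e2 _ (hm x hx)]
      exact hkx x hx ⟨x, hx, rfl⟩
  | @congr f f' hw he ih =>
    intro Y hY
    obtain ⟨k, hk, hkx⟩ := ih Y fun y hy => by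
      obtain ⟨x, hx, rfl⟩ := hY y hy
      exact ⟨x, hx, (he x hx).symm⟩
    exact ⟨k, hk, fun x hx hxY => by rw [he x hx] at hxY ⊢; exact hkx x hx hxY⟩

/-- The system. -/
noncomputable def system (hP : P ≤ S) (h3 : α ^ 3 = 1) : FusionSystem S where
  Hom X := {φ | Wd S P α X (extendFn φ)}
  le_of_mem {X φ} h := ⟨Wd.le h, fun x => by rw [← extendFn_coe]; exact Wd.mem_S hP h x.2⟩
  injective_of_mem {X φ} h x y e := Subtype.ext (Wd.injOn h x.2 y.2 (by rw [extendFn_coe, extendFn_coe, e]))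
  conj_mem {X s} hX hs := ((Wd.base hX).cj hs).congr fun x hx => extendFn_apply _ hx
  comp_mem {X Y φ ψ} hφ hψ hXY := by
    refine (Wd.comp hφ hψ fun x hx => ?_).congr fun x hx => ?_
    · rw [extendFn_apply _ hx]; exact hXY _
    · rw [extendFn_apply _ hx, extendFn_apply φ hx, extendFn_apply ψ (hXY _)]
      rfl
  inv_mem {X φ} h := by
    obtain ⟨k, hk, hkx⟩ := Wd.exists_inverse hP h3 h φ.range fun y ⟨x, hx⟩ =>
      ⟨x, x.2, (extendFn_coe φ x).trans hx⟩
    let ψ : φ.range →* Ω :=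
      { toFun := fun y => k y
        map_one' := hk.map_one
        map_mul' := fun a b => hk.map_mul a.2 b.2 }
    refine ⟨ψ, hk.congr fun y hy => extendFn_apply ψ hy, fun x => ?_⟩
    have := hkx x x.2 (by rw [extendFn_coe]; exact ⟨x, rfl⟩)
    rwa [extendFn_coe] at this

theorem mor_system {hP : P ≤ S} {h3 : α ^ 3 = 1} : Mor (system hP h3) X f ↔ Wd S P α X f := by
  constructor
  · rintro ⟨φ, hφ, hφf⟩
    exact Wd.congr hφ fun x hx => ((extendFn_apply φ hx).trans (hφf ⟨x, hx⟩)).symm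
  · intro h
    let φ : X →* Ω :=
      { toFun := fun x => f x
        map_one' := h.map_one
        map_mul' := fun a b => h.map_mul a.2 b.2 }
    exact ⟨φ, h.congr fun x hx => extendFn_apply φ hx, fun _ => rfl⟩

variable [Finite S]

/-- A map is a conjugation, or its source is conjugate into `P`. -/
theorem Wd.classify (hf : Wd S P α X f) :
    (∃ s ∈ S, ∀ x ∈ X, f x = s * x * s⁻¹) ∨ ∃ s ∈ S, ∀ x ∈ X, s * x * s⁻¹ ∈ P := by
  induction hf with
  | base _ => exact .inl ⟨1, one_mem S, fun x _ => by simp⟩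
  | cj _ hs ih =>
    rcases ih with ⟨t, ht, htx⟩ | h
    · exact .inl ⟨_, mul_mem hs ht, fun x hx => by simp only [htx x hx]; group⟩
    · exact .inr h
  | al _ hm ih =>
    rcases ih with ⟨t, ht, htx⟩ | h
    · exact .inr ⟨t, ht, fun x hx => htx x hx ▸ hm x hx⟩
    · exact .inr h
  | congr _ he ih =>
    rcases ih with ⟨t, ht, htx⟩ | h
    · exact .inl ⟨t, ht, fun x hx => (he x hx).trans (htx x hx)⟩
    · exact .inr h

/-- A subgroup of the order of `P` conjugated into `P` is carried onto it. -/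
theorem surj_conj (hP : P ≤ S) {s : Ω} (hm : ∀ x ∈ X, s * x * s⁻¹ ∈ P)
    (hc : Nat.card X = Nat.card P) {p : Ω} (hp : p ∈ P) : ∃ x ∈ X, s * x * s⁻¹ = p := by
  haveI := finite_of_le hP
  have h : X.map (MulAut.conj s).toMonoidHom = P := Subgroup.eq_of_le_of_card_ge
    (by rintro _ ⟨x, hx, rfl⟩; exact hm x hx)
    (by rw [Subgroup.card_map_of_injective (K := X) (MulAut.conj s).injective, hc])
  rw [← h] at hp
  obtain ⟨x, hx, rfl⟩ := hp
  exact ⟨x, hx, rfl⟩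

theorem mem_normalizer_of_maps (hP : P ≤ S) {t : Ω} (h : ∀ p ∈ P, t * p * t⁻¹ ∈ P) :
    t ∈ normalizer (P : Set Ω) :=
  mem_normalizer_iff.2 fun p => ⟨h p, fun hp => by
    obtain ⟨x, hx, hxp⟩ := surj_conj hP h rfl hp
    exact mul_left_cancel (mul_right_cancel hxp) ▸ hx⟩

variable (D : Setup S P α g)
include D

theorem Setup.outer {n : Ω} (hn : n ∈ S) (hnn : n ∈ normalizer (P : Set Ω)) (hnP : n ∉ P) {σ : MulAut P}
    (hσ : ∀ x ∈ P, apl σ x = n * x * n⁻¹) : ∀ j : ℕ, σ * α ^ j * σ⁻¹ * α ^ j ∈ Inn P := by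
  obtain ⟨τ, -, hτ⟩ := exists_mem_autInducedBy (P := P) D.mem D.normal
  have hp := (D.cover n hn hnn).resolve_left hnP
  have hστ : σ = τ * MulAut.conj (⟨g⁻¹ * n, hp⟩ : P) := apl_ext fun x hx => by
    rw [hσ x hx, apl_mul _ _ hx, hτ _ (apl_mem _ hx), apl_conj _ hx]
    group
  set π := MulAut.conj (⟨g⁻¹ * n, hp⟩ : P)
  have hπ : π ∈ Inn P := ⟨_, rfl⟩
  have h1 : σ * α * σ⁻¹ * α ∈ Inn P := by
    rw [hστ, show τ * π * α * (τ * π)⁻¹ * α
      = τ * (π * (α * π⁻¹ * α⁻¹)) * τ⁻¹ * (τ * α * τ⁻¹ * α) by group]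
    exact mul_mem (Subgroup.Normal.conj_mem inferInstance _
      (mul_mem hπ (Subgroup.Normal.conj_mem inferInstance _ (inv_mem hπ) α)) τ) (D.inner τ hτ)
  intro j
  induction j with
  | zero => simpa using one_mem (Inn P)
  | succ j ih =>
    rw [show σ * α ^ (j + 1) * σ⁻¹ * α ^ (j + 1)
      = σ * α ^ j * σ⁻¹ * α ^ j * ((α ^ j)⁻¹ * (σ * α * σ⁻¹ * α) * ((α ^ j)⁻¹)⁻¹) by group]
    exact mul_mem ih (Subgroup.Normal.conj_mem inferInstance _ h1 _)

theorem Setup.pow_notMem {k : ℕ} (h : α ^ k ∈ autInducedBy S P) : α ^ k = 1 := by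
  obtain ⟨m, hm⟩ := isPGroup_autInducedBy D.two ⟨α ^ k, h⟩
  have h1 : orderOf (α ^ k) ∣ 2 ^ m := orderOf_dvd_of_pow_eq_one (congrArg Subtype.val hm)
  have h2 : orderOf (α ^ k) ∣ 3 := orderOf_dvd_of_pow_eq_one (by
    rw [← pow_mul, mul_comm, pow_mul, D.cube, one_pow])
  rw [← orderOf_eq_one_iff, ← Nat.dvd_one]
  have hg : Nat.Coprime (2 ^ m) 3 := Nat.Coprime.pow_left _ (by norm_num)
  rw [← hg]
  exact Nat.dvd_gcd h1 h2

theorem Setup.swap {σ : MulAut P} (hσ : σ ∈ autInducedBy S P) (j : ℕ) :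
    ∃ k : ℕ, ∃ τ ∈ autInducedBy S P, σ * α ^ j = α ^ k * τ := by
  obtain ⟨n, hn, hnn, hnx⟩ := mem_autInducedBy_iff.1 hσ
  have hI : Inn P ≤ autInducedBy S P := inn_le_autInducedBy D.le
  by_cases hnP : n ∈ P
  · refine ⟨j, (α ^ j)⁻¹ * σ * ((α ^ j)⁻¹)⁻¹, hI (Subgroup.Normal.conj_mem inferInstance _ ?_ _), by group⟩
    exact ⟨⟨n, hnP⟩, apl_ext fun x hx => (apl_conj _ hx).trans (hnx x hx).symm⟩
  · refine ⟨2 * j, ((α ^ (2 * j))⁻¹ * (σ * α ^ j * σ⁻¹ * α ^ j) * ((α ^ (2 * j))⁻¹)⁻¹) * σ,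
      mul_mem (hI (Subgroup.Normal.conj_mem inferInstance _ (D.outer hn hnn hnP hnx j) _)) hσ, ?_⟩
    rw [show α ^ (2 * j) * ((α ^ (2 * j))⁻¹ * (σ * α ^ j * σ⁻¹ * α ^ j) * ((α ^ (2 * j))⁻¹)⁻¹ * σ)
      = σ * α ^ j * σ⁻¹ * α ^ (3 * j) * σ by rw [show 3 * j = j + 2 * j by ring, pow_add]; group,
      pow_mul, D.cube, one_pow, mul_one, inv_mul_cancel_right]

/-- The automorphism group generated by `α` and the conjugations. -/
def Setup.auts : Subgroup (MulAut P) where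
  carrier := {β | ∃ k : ℕ, ∃ σ ∈ autInducedBy S P, β = α ^ k * σ}
  one_mem' := ⟨0, 1, one_mem _, by simp⟩
  mul_mem' := by
    rintro _ _ ⟨k, σ, hσ, rfl⟩ ⟨j, τ, hτ, rfl⟩
    obtain ⟨l, ρ, hρ, e⟩ := D.swap hσ j
    exact ⟨k + l, ρ * τ, mul_mem hρ hτ, by
      rw [pow_add, mul_assoc, ← mul_assoc σ, e]; simp [mul_assoc]⟩
  inv_mem' := by
    rintro _ ⟨k, σ, hσ, rfl⟩
    have e : (α ^ k)⁻¹ = α ^ (2 * k) := by
      refine inv_eq_of_mul_eq_one_right ?_
      rw [← pow_add, show k + 2 * k = 3 * k by ring, pow_mul, D.cube, one_pow]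
    obtain ⟨l, ρ, hρ, e'⟩ := D.swap (inv_mem hσ) (2 * k)
    exact ⟨l, ρ, hρ, by rw [mul_inv_rev, e, e']⟩

theorem Setup.conj_mem_auts {σ : MulAut P} (h : σ ∈ autInducedBy S P) : σ ∈ D.auts :=
  ⟨0, σ, h, by simp⟩

theorem Setup.self_mem_auts : α ∈ D.auts := ⟨1, 1, one_mem _, by simp⟩

theorem Setup.proper : P ≠ S := fun e => D.notMem (e.symm ▸ D.mem)

/-- Maps from subgroups of the order of `P`. -/
theorem Setup.classify (hf : Wd S P α X f) (hc : Nat.card X = Nat.card P) :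
    (∃ s ∈ S, ∀ x ∈ X, f x = s * x * s⁻¹) ∨ ∃ s ∈ S, ∃ t ∈ S, ∃ β ∈ D.auts,
      (∀ x ∈ X, s * x * s⁻¹ ∈ P) ∧ ∀ x ∈ X, f x = t * apl β (s * x * s⁻¹) * t⁻¹ := by
  induction hf with
  | base _ => exact .inl ⟨1, one_mem S, fun x _ => by simp⟩
  | cj _ hs ih =>
    rcases ih with ⟨t, ht, htx⟩ | ⟨s', hs', t, ht, β, hβ, hm, hx'⟩
    · exact .inl ⟨_, mul_mem hs ht, fun x hx => by simp only [htx x hx]; group⟩
    · exact .inr ⟨s', hs', _, mul_mem hs ht, β, hβ, hm, fun x hx => by simp only [hx' x hx]; group⟩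
  | @al f hw hm ih =>
    rcases ih with ⟨t, ht, htx⟩ | ⟨s', hs', t, ht, β, hβ, hm', hx'⟩
    · exact .inr ⟨t, ht, 1, one_mem S, α, D.self_mem_auts, fun x hx => htx x hx ▸ hm x hx,
        fun x hx => by simp [htx x hx]⟩
    · have htn : t ∈ normalizer (P : Set Ω) := mem_normalizer_of_maps D.le fun p hp => by
        obtain ⟨x, hx, hxp⟩ := surj_conj D.le hm' hc (apl_mem β⁻¹ hp)
        have := hm x hx
        rwa [hx' x hx, hxp, apl_apl_inv β hp] at this
      obtain ⟨σ, hσ, hσx⟩ := exists_mem_autInducedBy (P := P) ht htn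
      refine .inr ⟨s', hs', 1, one_mem S, α * (σ * β),
        mul_mem D.self_mem_auts (mul_mem (D.conj_mem_auts hσ) hβ), hm', fun x hx => ?_⟩
      rw [one_mul, inv_one, mul_one, apl_mul _ _ (hm' x hx), apl_mul _ _ (hm' x hx),
        hσx _ (apl_mem _ (hm' x hx)), ← hx' x hx]
  | congr _ he ih =>
    rcases ih with ⟨t, ht, htx⟩ | ⟨s', hs', t, ht, β, hβ, hm, hx'⟩
    · exact .inl ⟨t, ht, fun x hx => (he x hx).trans (htx x hx)⟩
    · exact .inr ⟨s', hs', t, ht, β, hβ, hm, fun x hx => (he x hx).trans (hx' x hx)⟩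

theorem Setup.hom_top (hf : Wd S P α S f) : ∃ s ∈ S, ∀ x ∈ S, f x = s * x * s⁻¹ := by
  rcases hf.classify with h | ⟨t, ht, htx⟩
  · exact h
  · refine absurd (le_antisymm D.le fun x hx => ?_) D.proper
    have := htx _ (mul_mem (mul_mem (inv_mem ht) hx) ht)
    rwa [show t * (t⁻¹ * x * t) * t⁻¹ = x by group] at this

/-- The system of the setup. -/
noncomputable abbrev Setup.sys : FusionSystem S := system D.le D.cube

theorem Setup.mor_alpha : Iso D.sys P P (apl α) :=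
  ⟨mor_system.2 (((Wd.base D.le).al fun x hx => hx).congr fun x _ => rfl),
    fun y => ⟨fun hy => ⟨apl α⁻¹ y, apl_mem _ hy, apl_apl_inv α hy⟩,
      fun ⟨x, hx, hxy⟩ => hxy ▸ apl_mem α hx⟩⟩

theorem Setup.autGroup_eq : D.sys.autGroup P = D.auts := by
  refine le_antisymm (fun β hβ => ?_) ?_
  · have h := (mem_autGroup_iff D.le).1 hβ
    rcases D.classify (mor_system.1 h.1) rfl with ⟨s, hs, hsx⟩ | ⟨s, hs, t, ht, δ, hδ, hm, hx⟩
    · exact D.conj_mem_auts (mem_autInducedBy_iff.2 ⟨s, hs, mem_normalizer_of_maps D.le fun p hp =>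
        hsx p hp ▸ h.mem hp, hsx⟩)
    · obtain ⟨σ, hσ, hσx⟩ := exists_mem_autInducedBy (P := P) hs (mem_normalizer_of_maps D.le hm)
      obtain ⟨τ, hτ, hτx⟩ := exists_mem_autInducedBy (P := P) ht (mem_normalizer_of_maps D.le fun p hp => by
        have h1 := h.mem (apl_mem (δ * σ)⁻¹ hp)
        rwa [hx _ (apl_mem _ hp), ← hσx _ (apl_mem _ hp), ← apl_mul _ _ (apl_mem _ hp),
          apl_apl_inv _ hp] at h1)
      have e : β = τ * δ * σ := apl_ext fun x hxP => by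
        rw [mul_assoc, apl_mul _ _ hxP, apl_mul _ _ hxP, hτx _ (apl_mem _ (apl_mem _ hxP)),
          hσx x hxP, hx x hxP]
      rw [e]
      exact mul_mem (mul_mem (D.conj_mem_auts hτ) hδ) (D.conj_mem_auts hσ)
  · rintro _ ⟨k, σ, hσ, rfl⟩
    exact mul_mem (pow_mem ((mem_autGroup_iff D.le).2 D.mor_alpha) k) (autInducedBy_le_autGroup D.le hσ)

theorem Setup.fullyAutomized : D.sys.IsFullyAutomized 2 P := by
  haveI : Fact (Nat.Prime 2) := ⟨Nat.prime_two⟩
  haveI := finite_of_le D.le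
  haveI : Finite (MulAut P) := Finite.of_injective _ MulEquiv.toEquiv_injective
  refine (fullyAutomized_iff D.two D.le).2 ?_
  rw [D.autGroup_eq]
  set T := autInducedBy S P
  have hle : T ≤ D.auts := fun σ => D.conj_mem_auts
  let m : Fin 3 × T → D.auts := fun p => ⟨α ^ (p.1 : ℕ) * p.2, (p.1 : ℕ), p.2, p.2.2, rfl⟩
  have hm : Function.Bijective m := by
    refine ⟨fun p q e => ?_, ?_⟩
    · have e' : α ^ (p.1 : ℕ) * (p.2 : MulAut P) = α ^ (q.1 : ℕ) * q.2 := congrArg Subtype.val e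
      have h1 : α ^ (q.1 + 2 * p.1 : ℕ) = (p.2 : MulAut P) * (q.2 : MulAut P)⁻¹ := by
        calc α ^ (q.1 + 2 * p.1 : ℕ)
            = α ^ (2 * (p.1 : ℕ)) * (α ^ (q.1 : ℕ) * q.2) * (q.2 : MulAut P)⁻¹ := by
              rw [← mul_assoc, mul_inv_cancel_right, ← pow_add, add_comm]
          _ = α ^ (2 * (p.1 : ℕ)) * (α ^ (p.1 : ℕ) * p.2) * (q.2 : MulAut P)⁻¹ := by rw [e']
          _ = α ^ (3 * (p.1 : ℕ)) * p.2 * (q.2 : MulAut P)⁻¹ := by
              rw [← mul_assoc, ← pow_add, show 2 * (p.1 : ℕ) + p.1 = 3 * p.1 by ring]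
          _ = _ := by rw [pow_mul, D.cube, one_pow, one_mul]
      have h2 : α ^ (q.1 + 2 * p.1 : ℕ) = 1 := D.pow_notMem (by
        rw [h1]; exact mul_mem p.2.2 (inv_mem q.2.2))
      have ho : orderOf α = 3 := by
        haveI : Fact (Nat.Prime 3) := ⟨Nat.prime_three⟩
        exact orderOf_eq_prime D.cube D.ne_one
      have h3 := orderOf_dvd_of_pow_eq_one h2
      rw [ho] at h3
      have hpq : p.1 = q.1 := Fin.ext (by have := p.1.2; have := q.1.2; omega)
      refine Prod.ext hpq (Subtype.ext ?_)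
      rw [hpq] at e'
      exact mul_left_cancel e'
    · rintro ⟨_, k, σ, hσ, rfl⟩
      refine ⟨(⟨k % 3, Nat.mod_lt _ three_pos⟩, ⟨σ, hσ⟩), Subtype.ext ?_⟩
      show α ^ (k % 3) * σ = α ^ k * σ
      rw [← pow_eq_pow_mod k D.cube]
  have hcard := Nat.card_eq_of_bijective m hm
  rw [Nat.card_prod, Nat.card_fin] at hcard
  have h := (T.subgroupOf D.auts).card_mul_index
  rw [Nat.card_congr (subgroupOfEquivOfLe hle).toEquiv, ← hcard, mul_comm 3] at h
  rw [Nat.eq_of_mul_eq_mul_left Nat.card_pos h]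
  norm_num

omit D in
/-- A map that is a conjugation extends to every subgroup of `S`. -/
theorem receptive_step {F : FusionSystem S} {R : Subgroup Ω} {φ : R →* Ω} {s : Ω} (hs : s ∈ S)
    (hφ : ∀ x : R, φ x = s * x * s⁻¹) :
    ∃ ψ ∈ F.Hom (extender S R φ), ∀ (x : Ω) (hP : x ∈ R) (hN : x ∈ extender S R φ), ψ ⟨x, hN⟩ = φ ⟨x, hP⟩ := by
  refine ⟨conjHom _ s, F.conj_mem ((Subgroup.closure_le S).2 fun y hy => hy.1) hs, fun x hR hN => ?_⟩
  rw [hφ]
  rfl

theorem Setup.receptive : D.sys.IsReceptive P := by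
  refine ⟨D.le, fun R φ hφ hr => ?_⟩
  have hiso : Iso D.sys R P (extendFn φ) := by
    have h := iso_extendFn hφ
    rwa [hr] at h
  rcases D.classify (mor_system.1 hiso.1) hiso.card_eq with ⟨s, hs, hsx⟩ | ⟨s, hs, t, ht, β, hβ, hm, hx⟩
  · exact receptive_step hs fun x => by rw [← extendFn_coe φ]; exact hsx x x.2
  have htn : t ∈ normalizer (P : Set Ω) := mem_normalizer_of_maps D.le fun p hp => by
    obtain ⟨x, hxR, hxp⟩ := surj_conj D.le hm hiso.card_eq (apl_mem β⁻¹ hp)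
    have := hiso.mem hxR
    rwa [hx x hxR, hxp, apl_apl_inv β hp] at this
  obtain ⟨τ, hτ, hτx⟩ := exists_mem_autInducedBy (P := P) ht htn
  obtain ⟨k, σ, hσ, e⟩ := mul_mem (D.conj_mem_auts hτ) hβ
  obtain ⟨n, hn, hnn, hnx⟩ := mem_autInducedBy_iff.1 hσ
  -- `φ` is `α ^ k` after conjugation by `v`
  set v := n * s
  have hv : v ∈ S := mul_mem hn hs
  have hvP : ∀ x ∈ R, v * x * v⁻¹ ∈ P := fun x hxR => by
    rw [show v * x * v⁻¹ = n * (s * x * s⁻¹) * n⁻¹ by simp only [v]; group]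
    exact (mem_normalizer_iff.1 hnn _).1 (hm x hxR)
  have hφv : ∀ (x : Ω) (hxR : x ∈ R), φ ⟨x, hxR⟩ = apl (α ^ k) (v * x * v⁻¹) := fun x hxR => by
    rw [← extendFn_apply φ hxR, hx x hxR, ← hτx _ (apl_mem _ (hm x hxR)), ← apl_mul _ _ (hm x hxR), e,
      apl_mul _ _ (hm x hxR), hnx _ (hm x hxR)]
    simp only [v, mul_inv_rev, mul_assoc]
  by_cases hk : α ^ k = 1
  · exact receptive_step hv fun x => by rw [hφv x x.2, hk, apl_one (hvP x x.2)]
  have hext : extender S R φ ≤ R := by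
    refine (Subgroup.closure_le R).2 ?_
    rintro y ⟨hyS, hyn, q, hq, hqx⟩
    have hR : ∀ p ∈ P, v⁻¹ * p * v ∈ R := fun p hp => by
      obtain ⟨x, hxR, rfl⟩ := surj_conj D.le hvP hiso.card_eq hp
      rwa [show v⁻¹ * (v * x * v⁻¹) * v = x by group]
    have hyR : ∀ x ∈ R, y * x * y⁻¹ ∈ R := fun x hxR => (mem_normalizer_iff.1 hyn x).1 hxR
    set m := v * y * v⁻¹
    have hmS : m ∈ S := mul_mem (mul_mem hv hyS) (inv_mem hv)
    have hmn : m ∈ normalizer (P : Set Ω) := mem_normalizer_of_maps D.le fun p hp => by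
      rw [show m * p * m⁻¹ = v * (y * (v⁻¹ * p * v) * y⁻¹) * v⁻¹ by simp only [m]; group]
      exact hvP _ (hyR _ (hR p hp))
    have hkey : ∀ p ∈ P, apl (α ^ k) (m * p * m⁻¹) = q * apl (α ^ k) p * q⁻¹ := fun p hp => by
      have h1 := hqx ⟨v⁻¹ * p * v, hR p hp⟩ (hyR _ (hR p hp))
      rw [hφv _ _, hφv _ _] at h1
      simp only at h1
      rwa [show v * (y * (v⁻¹ * p * v) * y⁻¹) * v⁻¹ = m * p * m⁻¹ by simp only [m]; group,
        show v * (v⁻¹ * p * v) * v⁻¹ = p by group] at h1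
    have hqn : q ∈ normalizer (P : Set Ω) := mem_normalizer_of_maps D.le fun p hp => by
      rw [← apl_apl_inv (α ^ k) hp, ← hkey _ (apl_mem _ hp)]
      exact apl_mem _ ((mem_normalizer_iff.1 hmn _).1 (apl_mem _ hp))
    obtain ⟨μ, hμ, hμx⟩ := exists_mem_autInducedBy (P := P) hmS hmn
    obtain ⟨ν, hν, hνx⟩ := exists_mem_autInducedBy (P := P) hq hqn
    have heq : α ^ k * μ = ν * α ^ k := apl_ext fun p hp => by
      rw [apl_mul _ _ hp, apl_mul _ _ hp, hμx p hp, hνx _ (apl_mem _ hp), hkey p hp]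
    have hmP : m ∈ P := by
      by_contra hmP
      have h1 := inn_le_autInducedBy D.le (D.outer hmS hmn hmP hμx k)
      have h2 : α ^ (2 * k) = 1 := D.pow_notMem (by
        have hν' : ν = α ^ k * μ * (α ^ k)⁻¹ := by rw [heq, mul_inv_cancel_right]
        rw [show α ^ (2 * k) = ν * μ⁻¹ * (μ * α ^ k * μ⁻¹ * α ^ k) by rw [hν', two_mul, pow_add]; group]
        exact mul_mem (mul_mem hν (inv_mem hμ)) h1)
      refine hk ?_
      have h3 : α ^ (3 * k) = 1 := by rw [pow_mul, D.cube, one_pow]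
      rwa [show 3 * k = 2 * k + k by ring, pow_add, h2, one_mul] at h3
    have := hR m hmP
    rwa [show v⁻¹ * m * v = y by simp only [m]; group] at this
  obtain ⟨ψ, hψ, hψx⟩ := hiso.1.mono hext
  exact ⟨ψ, hψ, fun x hR hN => (hψx ⟨x, hN⟩).trans (extendFn_apply φ hR)⟩

theorem Setup.conj_shape {Q : Subgroup Ω} (h : D.sys.IsConj P Q) :
    ∃ t ∈ S, Q = P.map (MulAut.conj t).toMonoidHom := by
  haveI := finite_of_le D.le
  obtain ⟨f, hf⟩ := FusSys.isConj_iff.1 h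
  haveI := finite_of_le hf.right_le
  obtain ⟨t, ht, htx⟩ : ∃ t ∈ S, ∀ x ∈ P, ∃ p ∈ P, f x = t * p * t⁻¹ := by
    rcases D.classify (mor_system.1 hf.1) rfl with ⟨t, ht, htx⟩ | ⟨s, hs, t, ht, β, hβ, hm, hx⟩
    · exact ⟨t, ht, fun x hxP => ⟨x, hxP, htx x hxP⟩⟩
    · exact ⟨t, ht, fun x hxP => ⟨_, apl_mem β (hm x hxP), hx x hxP⟩⟩
  haveI := finite_of_le (S := S) (isConj_le_right (F := D.sys) (isConj_conj D.le ht))
  refine ⟨t, ht, Subgroup.eq_of_le_of_card_ge (fun y hy => ?_) ?_⟩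
  · obtain ⟨x, hx, rfl⟩ := hf.exists_eq hy
    obtain ⟨p, hp, e⟩ := htx x hx
    exact ⟨p, hp, e.symm⟩
  · rw [Subgroup.card_map_of_injective (K := P) (MulAut.conj t).injective, hf.card_eq]

theorem Setup.sat_top : SatClass D.sys 2 S := by
  haveI : Fact (Nat.Prime 2) := ⟨Nat.prime_two⟩
  refine ⟨S, isConj_refl le_rfl, (fullyAutomized_iff D.two le_rfl).2 ?_, le_rfl, fun R φ hφ hr => ?_⟩
  · have e : D.sys.autGroup S ≤ autInducedBy S S := fun β hβ => by
      obtain ⟨s, hs, hsx⟩ := D.hom_top (mor_system.1 ((mem_autGroup_iff le_rfl).1 hβ).1)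
      exact mem_autInducedBy_iff.2 ⟨s, hs, Subgroup.le_normalizer hs, hsx⟩
    rw [subgroupOf_eq_top.2 e, index_top]
    norm_num
  · obtain rfl : R = S := by
      have h := iso_extendFn hφ
      rw [hr] at h
      exact eq_of_le_of_card le_rfl h.left_le h.card_eq.ge
    obtain ⟨s, hs, hsx⟩ := D.hom_top (mor_system.1 (mor_extendFn hφ))
    exact receptive_step hs fun x => by rw [← extendFn_coe φ]; exact hsx x x.2

/-- The subgroups outside the family are never centric unless their automorphisms come from `S`. -/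
theorem Setup.star {X : Subgroup Ω} (hc : D.sys.IsCentric X) (hXS : X ≠ S)
    (hXP : ∀ t ∈ S, X ≠ P.map (MulAut.conj t).toMonoidHom) :
    ¬ (autInducedBy S X ⊓ coreAut D.sys 2 X ≤ Inn X) := by
  haveI : Fact (Nat.Prime 2) := ⟨Nat.prime_two⟩
  haveI := finite_of_le D.le
  have hconj : ¬ ∃ s ∈ S, ∀ x ∈ X, s * x * s⁻¹ ∈ P := by
    rintro ⟨t, ht, htx⟩
    set Y := X.map (MulAut.conj t).toMonoidHom with hY
    have hYP : Y ≤ P := by
      rintro _ ⟨x, hx, rfl⟩
      exact htx x hx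
    by_cases hne : Y = P
    · refine hXP t⁻¹ (inv_mem ht) ?_
      rw [← hne, hY, map_map]
      refine (map_id X).symm.trans (congrArg X.map ?_)
      ext x
      simp [mul_assoc]
    obtain ⟨k, s, hs, hsne, hsc⟩ := D.small Y hYP hne
    have hYS : Y ≤ S := hYP.trans D.le
    have hmor : Mor D.sys Y (apl (α ^ k)) :=
      (iso_apl D.le (pow_mem ((mem_autGroup_iff D.le).2 D.mor_alpha) k)).1.mono hYP
    obtain ⟨Z, hZ⟩ := hmor.exists_iso
    have hXZ : D.sys.IsConj X Z := isConj_trans (isConj_conj hc.1 ht) hZ.isConj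
    have hsZ : s ∈ centralizerIn S Z := ⟨hs, mem_centralizer_iff.2 fun z hz => by
      obtain ⟨y, hy, rfl⟩ := hZ.exists_eq hz
      exact (hsc y hy).symm⟩
    obtain ⟨y, hy, hys⟩ := hZ.exists_eq (hc.2 Z hXZ hsZ)
    exact hsne y hy hys
  have hle : D.sys.autGroup X ≤ autInducedBy S X := fun β hβ => by
    have h := (mem_autGroup_iff hc.1).1 hβ
    rcases (mor_system.1 h.1).classify with ⟨s, hs, hsx⟩ | h'
    · refine mem_autInducedBy_iff.2 ⟨s, hs, mem_normalizer_iff.2 fun x => ⟨fun hx => hsx x hx ▸ h.mem hx,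
        fun hx => ?_⟩, hsx⟩
      obtain ⟨y, hy, hyx⟩ := h.exists_eq hx
      rw [hsx y hy] at hyx
      exact mul_left_cancel (mul_right_cancel hyx) ▸ hy
    · exact absurd h' hconj
  have hcore : autInducedBy S X ≤ coreAut D.sys 2 X := by
    haveI := finite_of_le hc.1
    rw [coreAut, Cfsg.Agent.Core.pCore_eq_top ((isPGroup_autInducedBy D.two).to_le hle), ← MonoidHom.range_eq_map,
      Subgroup.range_subtype]
    exact autInducedBy_le_autGroup hc.1
  intro hinn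
  obtain ⟨n, hn, hnX⟩ := SetLike.exists_of_lt (lt_normalizerIn D.two (lt_of_le_of_ne hc.1 hXS))
  obtain ⟨σ, hσ, hσx⟩ := exists_mem_autInducedBy (P := X) hn.1 hn.2
  exact hnX (mem_of_conj_mem_inn (centric_self hc) hc.1 hn.1 hσx (hinn ⟨hσ, hcore hσ⟩))

theorem Setup.saturated : D.sys.IsSaturated 2 := by
  haveI : Fact (Nat.Prime 2) := ⟨Nat.prime_two⟩
  refine saturated_of_family D.two (ℋ := {X | X = S ∨ ∃ t ∈ S, X = P.map (MulAut.conj t).toMonoidHom})
    ?_ ?_ ?_ ?_ ?_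
  · rintro X (rfl | ⟨t, ht, rfl⟩)
    · exact le_rfl
    · exact isConj_le_right (F := D.sys) (isConj_conj D.le ht)
  · rintro X (rfl | ⟨t, ht, rfl⟩) Q hQ
    · exact .inl (eq_of_le_of_card le_rfl (isConj_le_right hQ) (isConj_card_eq hQ).le)
    · exact .inr (D.conj_shape (isConj_trans (isConj_conj D.le ht) hQ))
  · rintro X (rfl | ⟨t, ht, rfl⟩)
    · exact D.sat_top
    · exact ⟨P, isConj_symm (isConj_conj D.le ht), D.fullyAutomized, D.receptive⟩
  · intro E hE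
    refine le_iff_mor.2 fun X f hf => ?_
    have hα : Mor E P (apl α) := by
      obtain ⟨φ, hφ, hx⟩ := D.mor_alpha.1
      exact ⟨φ, hE P (.inr ⟨1, one_mem S, by ext x; simp⟩) hφ, hx⟩
    induction mor_system.1 hf with
    | base h => exact mor_id h
    | cj hw hs ih => exact (ih (mor_system.2 hw)).conjComp hs
    | al hw hm ih => exact (ih (mor_system.2 hw)).comp hα hm
    | congr hw he ih => exact (ih (mor_system.2 hw)).congr he
  · intro X hc hX
    exact ⟨X, isConj_refl hc.1, D.star hc (fun e => hX (.inl e)) fun t ht e => hX (.inr ⟨t, ht, e⟩)⟩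

theorem Setup.ne_inner : D.sys ≠ innerFusionSystem S := by
  intro e
  have h := D.mor_alpha
  rw [e] at h
  obtain ⟨-, s, hs, hsx⟩ := mor_inner.1 h.1
  refine D.ne_one ?_
  have h1 := D.pow_notMem (k := 1) (by
    rw [pow_one]
    exact mem_autInducedBy_iff.2 ⟨s, hs, mem_normalizer_of_maps D.le fun p hp =>
      hsx p hp ▸ apl_mem α hp, hsx⟩)
  rwa [pow_one] at h1

omit D in
/-- Setups inside `S` itself give systems on `S`. -/
theorem exists_noninner (hS : IsPGroup 2 S) (P : Subgroup S) (α : MulAut P) (g : S) (h3 : α ^ 3 = 1)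
    (h1 : α ≠ 1) (hcent : ∀ x : S, (∀ p ∈ P, p * x = x * p) → x ∈ P) (hgn : g ∈ normalizer (P : Set S))
    (hgP : g ∉ P) (hcov : ∀ n ∈ normalizer (P : Set S), n ∈ P ∨ g⁻¹ * n ∈ P)
    (hinn : ∃ q : P, ∀ x y : P, (y : S) = g⁻¹ * (α x : S) * g →
      g * (α y : S) * g⁻¹ = q * x * (q : S)⁻¹)
    (hsmall : ∀ X ≤ P, X ≠ P → ∃ k : ℕ, ∃ s : S, (∀ x : P, (x : S) ∈ X → ((α ^ k) x : S) ≠ s) ∧
      ∀ x : P, (x : S) ∈ X → s * ((α ^ k) x : S) = ((α ^ k) x : S) * s) :
    ∃ F : FusionSystem S, F.IsSaturated 2 ∧ F ≠ innerFusionSystem S := by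
  set e := P.equivMapOfInjective S.subtype S.subtype_injective
  set α' := MulAut.congr e α with hα'
  have he : ∀ x : P, ((e x : P.map S.subtype) : Ω) = ((x : S) : Ω) := fun x => rfl
  have hap : ∀ (k : ℕ) (x : P), apl (α' ^ k) ((x : S) : Ω) = (((α ^ k) x : S) : Ω) := fun k x => by
    rw [← he x, apl_coe, ← map_pow, ← he]
    simp
  have hmem : ∀ x : S, (x : Ω) ∈ P.map S.subtype ↔ x ∈ P := fun x =>
    mem_map_iff_mem S.subtype_injective
  have hnorm : ∀ n : S, (n : Ω) ∈ normalizer (P.map S.subtype : Set Ω) → n ∈ normalizer (P : Set S) :=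
    fun n hn => mem_normalizer_iff.2 fun x => by
      rw [← hmem, ← hmem]
      simpa using mem_normalizer_iff.1 hn x
  have hle : P.map S.subtype ≤ S := map_subtype_le P
  have hgmaps : ∀ p ∈ P.map S.subtype, (g : Ω) * p * (g : Ω)⁻¹ ∈ P.map S.subtype := by
    rintro _ ⟨p, hp, rfl⟩
    exact ⟨g * p * g⁻¹, (mem_normalizer_iff.1 hgn p).1 hp, by simp⟩
  have D' : Setup S (P.map S.subtype) α' (g : Ω) :=
    { two := hS
      le := hle
      cent := fun x hx => (hmem ⟨x, hx.1⟩).2 (hcent _ fun p hp => Subtype.ext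
        (mem_centralizer_iff.1 hx.2 p ((hmem p).2 hp)))
      cube := by rw [hα', ← map_pow, h3, _root_.map_one]
      ne_one := fun h => h1 ((MulAut.congr e).injective (h.trans (_root_.map_one _).symm))
      mem := g.2
      normal := mem_normalizer_of_maps hle hgmaps
      notMem := fun h => hgP ((hmem g).1 h)
      cover := fun n hn hnn => (hcov ⟨n, hn⟩ (hnorm ⟨n, hn⟩ hnn)).imp (fun h => (hmem ⟨n, hn⟩).2 h)
        fun h => (hmem (g⁻¹ * ⟨n, hn⟩)).2 h
      inner := ?_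
      small := ?_ }
  · exact ⟨D'.sys, D'.saturated, D'.ne_inner⟩
  · intro σ hσ
    obtain ⟨q, hq⟩ := hinn
    refine ⟨e q, apl_ext fun x hx => ?_⟩
    obtain ⟨x, hx, rfl⟩ := hx
    show apl _ ((x : S) : Ω) = apl _ ((x : S) : Ω)
    set x' : P := ⟨x, hx⟩
    have hyP : g⁻¹ * (α x' : S) * g ∈ P := by
      have h := (mem_normalizer_iff.1 (inv_mem hgn) _).1 (α x').2
      rwa [inv_inv] at h
    set y : P := ⟨_, hyP⟩
    have hxm : ((x : S) : Ω) ∈ P.map S.subtype := (hmem x).2 hx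
    have hym : ((y : S) : Ω) ∈ P.map S.subtype := (hmem _).2 y.2
    have h1' : ∀ z : P, apl α' ((z : S) : Ω) = ((α z : S) : Ω) := fun z => by simpa using hap 1 z
    have hσy : apl σ⁻¹ ((α x' : S) : Ω) = ((y : S) : Ω) := by
      have h := hσ _ hym
      rw [show (g : Ω) * ((y : S) : Ω) * (g : Ω)⁻¹ = ((α x' : S) : Ω) by simp [y, mul_assoc]] at h
      rw [← h, apl_inv_apl σ hym]
    rw [apl_conj _ hxm, apl_mul _ _ hxm, h1' x', apl_mul _ _ ((hmem _).2 (α x').2), hσy,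
      apl_mul _ _ hym, h1' y, hσ _ ((hmem _).2 (α y).2), he]
    exact (congrArg Subtype.val (hq x' y rfl)).symm
  · intro X hX hne
    obtain ⟨k, s, hs1, hs2⟩ := hsmall (X.subgroupOf S) (fun x hx => (hmem x).1 (hX hx)) (fun e' => hne
      (le_antisymm hX (map_le_iff_le_comap.2 e'.ge)))
    refine ⟨k, s, s.2, fun x hx hxs => ?_, fun x hx => ?_⟩
    · obtain ⟨p, hp, rfl⟩ := hX hx
      exact hs1 ⟨p, hp⟩ hx (Subtype.ext ((hap k ⟨p, hp⟩).symm.trans hxs))
    · obtain ⟨p, hp, rfl⟩ := hX hx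
      rw [show S.subtype p = (((⟨p, hp⟩ : P) : S) : Ω) from rfl, hap]
      exact congrArg Subtype.val (hs2 ⟨p, hp⟩ hx)

end Cfsg.Agent.Bicyclic.Swap
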