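import Cfsg.Agent.Bicyclic.Shape
import Cfsg.Agent.Bicyclic.Models
import Cfsg.Agent.Bicyclic.SwapSystem

/-!
A nonmetacyclic bicyclic 2-group with cyclic derived subgroup has a saturated system other than the inner one.
-/

set_option autoImplicit false

open Subgroup
open scoped commutatorElement

namespace Cfsg.Agent.Bicyclic

universe u

namespace Shape

variable {G : Type u} [Group G] {c y w a : G} {n r : ℕ} {μ e : ℤ}
variable (sh : Shape c y w a n r μ e)
include sh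

theorem zpow_eq_one {x : ℤ} : c ^ x = 1 ↔ (2 : ℤ) ^ n ∣ x := by
  rw [← orderOf_dvd_iff_zpow_eq_one, sh.ord]; push_cast; rfl

theorem yc (i : ℤ) : y * c ^ i = c ^ (-i) * y := by
  calc y * c ^ i = y * c ^ i * y⁻¹ * y := by group
    _ = _ := by rw [← conj_zpow, sh.conj_yc, inv_zpow, zpow_neg]

theorem ac (i : ℤ) : a * c ^ i = c ^ (μ * i) * a := by
  calc a * c ^ i = a * c ^ i * a⁻¹ * a := by group
    _ = _ := by rw [← conj_zpow, sh.conj_ac, ← zpow_mul]

theorem wc (i : ℤ) : w * c ^ i = c ^ (μ * μ * i) * w := by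
  rw [sh.w_def]
  calc c ^ e * (a * a) * c ^ i = c ^ e * (a * (a * c ^ i)) := by group
    _ = c ^ e * ((a * c ^ (μ * i)) * a) := by rw [sh.ac]; group
    _ = c ^ e * c ^ (μ * (μ * i)) * (a * a) := by rw [sh.ac]; group
    _ = _ := by rw [← zpow_add, add_comm, zpow_add, ← mul_assoc μ]; group

theorem y2c : Commute (y * y) c := by
  obtain ⟨q, hq⟩ := sh.y_sq
  rw [hq]
  exact (Commute.refl c).zpow_left _

theorem mk_comm (x x' : G) :
    QuotientGroup.mk' (commutator G) x * QuotientGroup.mk' (commutator G) x'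
      = QuotientGroup.mk' (commutator G) x' * QuotientGroup.mk' (commutator G) x := by
  rw [← commutatorElement_eq_one_iff_mul_comm, ← map_commutatorElement]
  exact (QuotientGroup.eq_one_iff _).2 (by
    rw [_root_.commutator_def]; exact commutator_mem_commutator (mem_top x) (mem_top x'))

theorem mem_c {x : G} : x ∈ zpowers c ↔ QuotientGroup.mk' (commutator G) x = 1 := by
  rw [sh.derived]; exact (QuotientGroup.eq_one_iff x).symm

theorem mk_c : QuotientGroup.mk' (commutator G) c = 1 := sh.mem_c.1 (mem_zpowers c)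

theorem mk_w : QuotientGroup.mk' (commutator G) w
    = QuotientGroup.mk' (commutator G) a * QuotientGroup.mk' (commutator G) a := by
  rw [sh.w_def, map_mul, map_zpow, sh.mk_c, one_zpow, one_mul, map_mul]

theorem indep' {ε l : ℤ} (h : y ^ ε * w ^ l ∈ zpowers c) : 2 ∣ ε ∧ (2 : ℤ) ^ r ∣ 2 * l := by
  refine sh.indep ε (2 * l) (sh.mem_c.2 ?_)
  have h1 := sh.mem_c.1 h
  rw [map_mul, map_zpow, map_zpow, sh.mk_w] at h1
  rwa [map_mul, map_zpow, map_zpow, zpow_mul, zpow_two]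

/-- Every element, with the factor outside `⟨c, y, w⟩` first. -/
theorem exists_form (g : G) : ∃ p ε l δ : ℤ, (δ = 0 ∨ δ = 1) ∧ g = c ^ p * a ^ δ * (y ^ ε * w ^ l) := by
  obtain ⟨p, ε, j, rfl⟩ := sh.cover g
  obtain ⟨l, δ, hδ, rfl⟩ : ∃ l δ : ℤ, (δ = 0 ∨ δ = 1) ∧ j = 2 * l + δ :=
    ⟨j / 2, j % 2, Int.emod_two_eq_zero_or_one j, (Int.mul_ediv_add_emod j 2).symm⟩
  have h : c ^ p * y ^ ε * a ^ (2 * l + δ) * (a ^ δ * (y ^ ε * w ^ l))⁻¹ ∈ zpowers c := by
    rw [sh.mem_c, map_mul, map_inv, mul_inv_eq_one]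
    simp only [map_mul, map_zpow, sh.mk_c, one_zpow, one_mul, sh.mk_w]
    have hc : Commute (QuotientGroup.mk' (commutator G) y) (QuotientGroup.mk' (commutator G) a) :=
      sh.mk_comm y a
    rw [← zpow_two, ← zpow_mul, (hc.zpow_zpow ε (2 * l)).eq, ← mul_assoc, ← zpow_add, add_comm δ,
      ← (hc.zpow_zpow ε (2 * l + δ)).eq]
  obtain ⟨p', hp'⟩ := mem_zpowers_iff.1 h
  exact ⟨p', ε, l, δ, hδ, by rw [mul_assoc (c ^ p'), hp', inv_mul_cancel_right]⟩

theorem conj_y {p ε l δ : ℤ} (hδ : δ = 0 ∨ δ = 1) :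
    c ^ p * a ^ δ * (y ^ ε * w ^ l) * y * (c ^ p * a ^ δ * (y ^ ε * w ^ l))⁻¹ = c ^ (2 * p + δ) * y := by
  have h0 : Commute (y ^ ε * w ^ l) y :=
    ((Commute.refl y).zpow_left ε).mul_left ((show Commute w y from sh.wy).zpow_left l)
  have h1 : a ^ δ * y * (a ^ δ)⁻¹ = c ^ δ * y := by
    rcases hδ with rfl | rfl
    · simp
    · rw [zpow_one, zpow_one, sh.conj_ay]
  calc c ^ p * a ^ δ * (y ^ ε * w ^ l) * y * (c ^ p * a ^ δ * (y ^ ε * w ^ l))⁻¹
      = c ^ p * (a ^ δ * y * (a ^ δ)⁻¹) * (c ^ p)⁻¹ := by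
        rw [mul_assoc _ (y ^ ε * w ^ l) y, h0.eq]; group
    _ = c ^ p * c ^ δ * (y * c ^ (-p)) := by rw [h1, zpow_neg]; group
    _ = _ := by rw [sh.yc, neg_neg, two_mul, ← mul_assoc, ← zpow_add, ← zpow_add, add_right_comm]

theorem exists_conj (g : G) : ∃ m : ℤ, g * y * g⁻¹ = c ^ m * y := by
  obtain ⟨p, ε, l, δ, hδ, rfl⟩ := sh.exists_form g
  exact ⟨_, sh.conj_y hδ⟩

theorem half_dvd_of_two_mul {x : ℤ} (h : (2 : ℤ) ^ n ∣ 2 * x) : (2 : ℤ) ^ (n - 1) ∣ x := by
  rw [show n = n - 1 + 1 from (Nat.sub_add_cancel sh.npos).symm, pow_succ'] at h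
  exact Int.dvd_of_mul_dvd_mul_left two_ne_zero h

theorem cent_y {g : G} (hg : g * y = y * g) :
    ∃ k ε l : ℤ, g = c ^ ((2 : ℤ) ^ (n - 1) * k) * (y ^ ε * w ^ l) := by
  obtain ⟨p, ε, l, δ, hδ, rfl⟩ := sh.exists_form g
  have h := sh.conj_y (p := p) (ε := ε) (l := l) hδ
  rw [hg, mul_inv_cancel_right] at h
  have h2 := sh.zpow_eq_one.1 (mul_eq_right.1 h.symm)
  rcases hδ with rfl | rfl
  · rw [add_zero] at h2
    obtain ⟨k, rfl⟩ := sh.half_dvd_of_two_mul h2
    exact ⟨k, ε, l, by rw [zpow_zero, mul_one]⟩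
  · exfalso
    have h3 : (2 : ℤ) ∣ 2 * p + 1 := (dvd_pow_self (2 : ℤ) (by have := sh.npos; omega)).trans h2
    omega

theorem w_top : w ^ (2 ^ (r - 1)) ∈ zpowers c ∧ w ^ (2 ^ (r - 1)) * w ^ (2 ^ (r - 1)) = 1 := by
  have hm : w ^ (2 ^ (r - 1)) ∈ zpowers c := by
    obtain ⟨p, hp⟩ := sh.a_pow
    have : 2 * 2 ^ (r - 1) = 2 ^ r := by rw [← pow_succ', Nat.sub_add_cancel (by have := sh.two_le; omega)]
    rw [sh.mem_c, map_pow, sh.mk_w, ← pow_two, ← pow_mul, this, ← map_pow, hp, map_zpow, sh.mk_c, one_zpow]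
  refine ⟨hm, ?_⟩
  obtain ⟨i, hi⟩ := mem_zpowers_iff.1 hm
  have h1 : y * c ^ i = c ^ i * y := by
    rw [hi]; exact ((show Commute w y from sh.wy).pow_left _).eq.symm
  rw [sh.yc] at h1
  rw [← hi, ← zpow_add]
  have h2 := mul_right_cancel h1
  rw [zpow_add]
  nth_rw 1 [← h2]
  rw [← zpow_add, neg_add_cancel, zpow_zero]

theorem z_sq : c ^ ((2 : ℤ) ^ (n - 1)) * c ^ ((2 : ℤ) ^ (n - 1)) = 1 := by
  rw [← zpow_add, sh.zpow_eq_one, ← two_mul, ← pow_succ', Nat.sub_add_cancel sh.npos]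

/-- An element of `c ^ m * y` lying in the standard set has `m` divisible by the step. -/
theorem dvd_of_form {h m k ε l : ℤ} (hh : h ∣ (2 : ℤ) ^ (n - 1))
    (e' : c ^ m * y = c ^ (h * k) * (y ^ ε * w ^ l)) : h ∣ m := by
  have hwy : Commute w y := sh.wy
  have hx : c ^ (m - h * k) = y ^ (ε - 1) * w ^ l := by
    calc c ^ (m - h * k) = (c ^ (h * k))⁻¹ * (c ^ m * y) * y⁻¹ := by group
      _ = y ^ ε * (w ^ l * y⁻¹) := by rw [e']; group
      _ = y ^ ε * (y⁻¹ * w ^ l) := by rw [((hwy.zpow_left l).inv_right).eq]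
      _ = _ := by rw [← mul_assoc, ← zpow_sub_one]
  obtain ⟨⟨t, ht⟩, hl⟩ := sh.indep' (hx ▸ zpow_mem_zpowers c _)
  obtain ⟨hwm, hw2⟩ := sh.w_top
  obtain ⟨s, rfl⟩ : (2 : ℤ) ^ (r - 1) ∣ l := by
    rw [show r = r - 1 + 1 from (Nat.sub_add_cancel (by have := sh.two_le; omega)).symm, pow_succ'] at hl
    exact Int.dvd_of_mul_dvd_mul_left two_ne_zero hl
  set W := w ^ (2 ^ (r - 1))
  have hW : w ^ ((2 : ℤ) ^ (r - 1) * s) = W ^ s := by
    rw [zpow_mul]; congr 1; simp [W, ← zpow_natCast]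
  have hsq : c ^ (2 * (m - h * k)) = 1 := by
    rw [two_mul, zpow_add, hx, ht, zpow_mul, zpow_two, hW]
    have hc1 : Commute (y * y) W := ((hwy.pow_left _).mul_right (hwy.pow_left _)).symm
    rw [(hc1.zpow_zpow t s).symm.mul_mul_mul_comm, ← (Commute.refl (y * y)).mul_zpow, sh.y_four,
      ← (Commute.refl W).mul_zpow, hw2, one_zpow, one_zpow, one_mul]
  exact (dvd_sub_left (dvd_mul_right h k)).1 (hh.trans (sh.half_dvd_of_two_mul (sh.zpow_eq_one.1 hsq)))

end Shape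

variable {G : Type u} [Group G] {c y w a : G} {n r : ℕ} {μ e : ℤ}

theorem y_push (sh : Shape c y w a n r μ e) (ε i : ℤ) :
    ∃ s : ℤ, (s = 1 ∨ s = -1) ∧ y ^ ε * c ^ i = c ^ (s * i) * y ^ ε := by
  have h2 : ∀ t : ℤ, Commute ((y * y) ^ t) (c ^ i) := fun t => sh.y2c.zpow_zpow t i
  rcases Int.even_or_odd ε with ⟨t, rfl⟩ | ⟨t, rfl⟩
  · exact ⟨1, .inl rfl, by rw [one_mul, ← two_mul, zpow_mul, zpow_two, (h2 t).eq]⟩
  · exact ⟨-1, .inr rfl, by
      rw [zpow_add, zpow_one, zpow_mul, zpow_two, mul_assoc, sh.yc, ← mul_assoc,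
        (sh.y2c.zpow_zpow t (-i)).eq, neg_one_mul, mul_assoc]⟩

/-- The subgroup `⟨c ^ h, y, w⟩`. -/
def Shape.sub (sh : Shape c y w a n r μ e) (h : ℤ) (hwh : Commute w (c ^ h)) : Subgroup G where
  carrier := {x | ∃ k ε l : ℤ, x = c ^ (h * k) * (y ^ ε * w ^ l)}
  one_mem' := ⟨0, 0, 0, by simp⟩
  mul_mem' := by
    rintro _ _ ⟨k, ε, l, rfl⟩ ⟨k', ε', l', rfl⟩
    obtain ⟨s, -, hs⟩ := y_push sh ε (h * k')
    have hc : Commute (w ^ l) (c ^ (h * k')) := by rw [zpow_mul]; exact hwh.zpow_zpow l k'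
    have hy' : Commute (w ^ l) (y ^ ε') := (show Commute w y from sh.wy).zpow_zpow l ε'
    refine ⟨k + s * k', ε + ε', l + l', ?_⟩
    calc c ^ (h * k) * (y ^ ε * w ^ l) * (c ^ (h * k') * (y ^ ε' * w ^ l'))
        = c ^ (h * k) * (y ^ ε * (w ^ l * c ^ (h * k'))) * y ^ ε' * w ^ l' := by group
      _ = c ^ (h * k) * (y ^ ε * c ^ (h * k')) * (w ^ l * y ^ ε') * w ^ l' := by rw [hc.eq]; group
      _ = c ^ (h * k) * c ^ (s * (h * k')) * (y ^ ε * y ^ ε') * (w ^ l * w ^ l') := by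
        rw [hs, hy'.eq]; group
      _ = _ := by rw [← zpow_add, ← zpow_add, ← zpow_add, mul_assoc]; ring_nf
  inv_mem' := by
    rintro _ ⟨k, ε, l, rfl⟩
    obtain ⟨s, -, hs⟩ := y_push sh (-ε) (-(h * k))
    have hc : Commute (w ^ (-l)) (c ^ (-(h * k))) := by
      rw [show -(h * k) = h * -k by ring, zpow_mul]; exact hwh.zpow_zpow (-l) (-k)
    have hy' : Commute (w ^ (-l)) (y ^ (-ε)) := (show Commute w y from sh.wy).zpow_zpow _ _
    refine ⟨-(s * k), -ε, -l, ?_⟩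
    calc (c ^ (h * k) * (y ^ ε * w ^ l))⁻¹ = (w ^ (-l) * y ^ (-ε)) * c ^ (-(h * k)) := by group
      _ = y ^ (-ε) * (w ^ (-l) * c ^ (-(h * k))) := by rw [hy'.eq, mul_assoc]
      _ = c ^ (s * -(h * k)) * y ^ (-ε) * w ^ (-l) := by rw [hc.eq, ← mul_assoc, hs]
      _ = _ := by rw [mul_assoc]; ring_nf

section Core

variable (sh : Shape c y w a n r μ e) {h : ℤ} {hwh : Commute w (c ^ h)}

theorem Shape.y_mem : y ∈ sh.sub h hwh := ⟨0, 1, 0, by simp⟩

theorem Shape.w_mem : w ∈ sh.sub h hwh := ⟨0, 0, 1, by simp⟩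

theorem Shape.c_mem : c ^ h ∈ sh.sub h hwh := ⟨1, 0, 0, by simp⟩

theorem Shape.cent_mem (hh : h ∣ (2 : ℤ) ^ (n - 1)) {g : G} (hg : g * y = y * g) : g ∈ sh.sub h hwh := by
  obtain ⟨k, ε, l, rfl⟩ := sh.cent_y hg
  obtain ⟨d, hd⟩ := hh
  exact ⟨d * k, ε, l, by rw [hd, mul_assoc]⟩

variable {g : G} (hgy : g * y * g⁻¹ = c ^ h * y) (hgc : Commute g (c ^ h)) (hgw : Commute g w)
include hgy hgc hgw

omit hgc hgw in
theorem Shape.g_notMem (hh : h ∣ (2 : ℤ) ^ (n - 1)) : g ∉ sh.sub h hwh := by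
  rintro ⟨k, ε, l, e'⟩
  have h1 := sh.conj_y (p := h * k) (ε := ε) (l := l) (δ := 0) (.inl rfl)
  rw [zpow_zero, mul_one, add_zero, ← e', hgy] at h1
  have h2 : (2 : ℤ) ^ n ∣ h * (2 * k - 1) := by
    rw [← sh.zpow_eq_one, mul_sub, mul_one, zpow_sub, show h * (2 * k) = 2 * (h * k) by ring,
      ← mul_right_cancel h1, mul_inv_cancel]
  have hco : IsCoprime ((2 : ℤ) ^ n) (2 * k - 1) :=
    (show IsCoprime (2 : ℤ) (2 * k - 1) from ⟨k, -1, by ring⟩).pow_left
  have h3 := Int.le_of_dvd (by positivity) ((hco.dvd_of_dvd_mul_right h2).trans hh)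
  have h4 : (2 : ℤ) ^ n = 2 * 2 ^ (n - 1) := by rw [← pow_succ', Nat.sub_add_cancel sh.npos]
  have : (0 : ℤ) < 2 ^ (n - 1) := by positivity
  omega

theorem Shape.g_normal [Finite G] : g ∈ normalizer (sh.sub h hwh : Set G) := by
  have hle : (sh.sub h hwh).map (MulAut.conj g).toMonoidHom ≤ sh.sub h hwh := by
    rintro _ ⟨x, ⟨k, ε, l, rfl⟩, rfl⟩
    show MulAut.conj g (c ^ (h * k) * (y ^ ε * w ^ l)) ∈ _
    rw [zpow_mul, map_mul, map_mul, map_zpow _ (c ^ h) k, map_zpow _ y ε, map_zpow _ w l, MulAut.conj_apply,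
      MulAut.conj_apply,
      MulAut.conj_apply, hgy, hgc.eq, mul_inv_cancel_right, hgw.eq, mul_inv_cancel_right]
    exact mul_mem (zpow_mem sh.c_mem k) (mul_mem (zpow_mem (mul_mem sh.c_mem sh.y_mem) ε) (zpow_mem sh.w_mem l))
  have heq := Subgroup.eq_of_le_of_card_ge hle
    (Subgroup.card_map_of_injective (K := sh.sub h hwh) (MulAut.conj g).injective).ge
  refine mem_normalizer_iff.2 fun x => ⟨fun hx => hle ⟨x, hx, rfl⟩, fun hx => ?_⟩
  rw [← heq] at hx
  obtain ⟨x', hx', hxx⟩ := hx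
  exact mul_left_cancel (mul_right_cancel hxx) ▸ hx'

omit hgw in
theorem Shape.g_cover (hh : h ∣ (2 : ℤ) ^ (n - 1)) {x : G} (hx : x ∈ normalizer (sh.sub h hwh : Set G)) :
    x ∈ sh.sub h hwh ∨ g⁻¹ * x ∈ sh.sub h hwh := by
  have key : ∀ v : G, ∀ j : ℤ, v * y * v⁻¹ = c ^ (h * (2 * j)) * y → v ∈ sh.sub h hwh := fun v j hv => by
    have h1 : (c ^ (h * j))⁻¹ * v * y = y * ((c ^ (h * j))⁻¹ * v) := by
      calc (c ^ (h * j))⁻¹ * v * y = (c ^ (h * j))⁻¹ * (v * y * v⁻¹) * v := by group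
        _ = c ^ (h * j) * y * v := by rw [hv]; group
        _ = y * c ^ (-(h * j)) * v := by rw [sh.yc, neg_neg]
        _ = _ := by group
    have := mul_mem (⟨j, 0, 0, by simp⟩ : c ^ (h * j) ∈ sh.sub h hwh) (sh.cent_mem (hwh := hwh) hh h1)
    rwa [mul_inv_cancel_left] at this
  obtain ⟨m, hm⟩ := sh.exists_conj x
  obtain ⟨k, ε, l, hk⟩ : x * y * x⁻¹ ∈ sh.sub h hwh := (mem_normalizer_iff.1 hx y).1 sh.y_mem
  obtain ⟨i, rfl⟩ := sh.dvd_of_form hh (hm ▸ hk)
  rcases Int.even_or_odd i with ⟨j, rfl⟩ | ⟨j, rfl⟩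
  · exact .inl (key x j (by rw [hm, two_mul]))
  · refine .inr (key _ j ?_)
    have hgy' : g⁻¹ * y * g = c ^ (-h) * y := by
      calc g⁻¹ * y * g = g⁻¹ * ((c ^ h)⁻¹ * (g * y * g⁻¹)) * g := by rw [hgy]; group
        _ = (g⁻¹ * (c ^ h)⁻¹) * g * y := by group
        _ = _ := by rw [(hgc.inv_inv).eq, inv_mul_cancel_right, zpow_neg]
    calc g⁻¹ * x * y * (g⁻¹ * x)⁻¹ = g⁻¹ * (x * y * x⁻¹) * g := by group
      _ = g⁻¹ * c ^ (h * (2 * j + 1)) * y * g := by rw [hm]; group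
      _ = c ^ (h * (2 * j + 1)) * g⁻¹ * y * g := by rw [zpow_mul c h, ((hgc.inv_left).zpow_right _).eq]
      _ = c ^ (h * (2 * j + 1)) * (g⁻¹ * y * g) := by group
      _ = _ := by rw [hgy', ← mul_assoc, ← zpow_add]; ring_nf

end Core

section Build

variable {Ω : Type u} [Group Ω] {S : Subgroup Ω} [Finite S] {c y w a : S}

/-- The system from a model of the automorphism. -/
theorem noninner_of_model (hS : IsPGroup 2 S) (sh : Shape c y w a n r μ e) {h : ℤ} (hh : h ∣ (2 : ℤ) ^ (n - 1))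
    (hwh : Commute w (c ^ h)) {g : S} (hgy : g * y * g⁻¹ = c ^ h * y) (hgc : Commute g (c ^ h))
    (hgw : Commute g w) {M : Type*} [Group M] (f : M →* S) (hf : Function.Injective f) (C : Subgroup S)
    (τ φ : MulAut M) (qM : M) (hfP : ∀ m, f m ∈ sh.sub h hwh) (hCP : C ≤ sh.sub h hwh)
    (hrep : ∀ x ∈ sh.sub h hwh, ∃ m, ∃ d ∈ C, x = f m * d)
    (hcomm : ∀ m, ∀ d ∈ C, f m * d = d * f m) (hCC : ∀ d ∈ C, ∀ d' ∈ C, d * d' = d' * d)
    (h3 : τ ^ 3 = 1) (h1 : τ ≠ 1) (hfix : ∀ m, f m ∈ C → τ m = m)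
    (hgf : ∀ m, g * f m * g⁻¹ = f (φ m)) (hgC : ∀ d ∈ C, g * d = d * g)
    (hinn : ∀ m, φ (τ (φ.symm (τ m))) = qM * m * qM⁻¹)
    (hsmall : ∀ M₀ : Subgroup M, M₀ ≠ ⊤ → ∃ k : ℕ, ∃ s : S, ∀ m ∈ M₀, ∀ d ∈ C,
      f ((τ ^ k) m) * d ≠ s ∧ Commute s (f ((τ ^ k) m) * d)) :
    ∃ F : FusionSystem S, F.IsSaturated 2 ∧ F ≠ innerFusionSystem S := by
  set P := sh.sub h hwh with hP
  obtain ⟨α, hα3, hα1, hα⟩ := Models.exists_aut_factor f hf P C hfP hCP hrep hcomm τ h3 h1 hfix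
  refine Swap.exists_noninner hS P α g hα3 hα1 (fun x hx => sh.cent_mem hh (hx y sh.y_mem).symm)
    (sh.g_normal hgy hgc hgw) (sh.g_notMem hgy hh) (fun x hx => sh.g_cover hgy hgc hh hx) ?_ ?_
  · refine ⟨⟨f qM, hfP qM⟩, fun x v hv => ?_⟩
    obtain ⟨m, d, hd, hx⟩ := hrep x x.2
    have hαx : (α x : S) = f (τ m) * d := by simpa using hα 1 m d hd x hx
    have hgi : g⁻¹ * f (τ m) * g = f (φ.symm (τ m)) := by
      conv_lhs => rw [← φ.apply_symm_apply (τ m), ← hgf]
      group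
    have hv' : (v : S) = f (φ.symm (τ m)) * d := by
      rw [hv, hαx, mul_assoc, mul_assoc (f (τ m)), ← hgC d hd, ← hgi]
      group
    have hαv : (α v : S) = f (τ (φ.symm (τ m))) * d := by simpa using hα 1 _ d hd v hv'
    rw [hαv, hx]
    show g * (f (τ (φ.symm (τ m))) * d) * g⁻¹ = f qM * (f m * d) * (f qM)⁻¹
    rw [show g * (f (τ (φ.symm (τ m))) * d) * g⁻¹ = (g * f (τ (φ.symm (τ m))) * g⁻¹) * (g * d * g⁻¹) by group,
      hgf, hinn, hgC d hd, mul_inv_cancel_right, map_mul, map_mul, map_inv,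
      mul_assoc (f qM) (f m * d), mul_assoc (f m) d, ← map_inv f, ← hcomm _ d hd]
    group
  · intro X hX hne
    by_cases hCX : C ≤ X
    · have hM : X.comap f ≠ ⊤ := fun htop => hne (le_antisymm hX fun x hx => by
        obtain ⟨m, d, hd, rfl⟩ := hrep x hx
        exact mul_mem (show m ∈ X.comap f from htop ▸ mem_top m) (hCX hd))
      obtain ⟨k, s, hks⟩ := hsmall _ hM
      have hdec : ∀ x : P, (x : S) ∈ X → ∃ m ∈ X.comap f, ∃ d ∈ C, ((α ^ k) x : S) = f ((τ ^ k) m) * d := by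
        intro x hx
        obtain ⟨m, d, hd, hx'⟩ := hrep x x.2
        refine ⟨m, ?_, d, hd, hα k m d hd x hx'⟩
        rw [hx'] at hx
        simpa using mul_mem hx (inv_mem (hCX hd))
      refine ⟨k, s, fun x hx => ?_, fun x hx => ?_⟩
      · obtain ⟨m, hm, d, hd, e'⟩ := hdec x hx
        rw [e']; exact (hks m hm d hd).1
      · obtain ⟨m, hm, d, hd, e'⟩ := hdec x hx
        rw [e']; exact (hks m hm d hd).2
    · obtain ⟨d, hd, hdX⟩ := SetLike.not_le_iff_exists.1 hCX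
      refine ⟨0, d, fun x hx e' => hdX (e' ▸ by simpa using hx), fun x hx => ?_⟩
      obtain ⟨m, d', hd', hx'⟩ := hrep x x.2
      simp only [pow_zero, MulAut.one_apply, hx']
      rw [← mul_assoc, ← hcomm m d hd, mul_assoc, hCC d hd d' hd', mul_assoc]

theorem pw_one {k : ℕ} [Fact (1 < k)] (I : S) : Models.pw I (1 : ZMod k) = I := by
  rw [Models.pw, ZMod.val_one, pow_one]

/-- The case of a four-group. -/
theorem noninner_caseA (hS : IsPGroup 2 S) (sh : Shape c y w a n r μ e) (hy : y * y = 1)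
    (hw : w ^ (2 ^ (r - 1)) = 1) :
    ∃ F : FusionSystem S, F.IsSaturated 2 ∧ F ≠ innerFusionSystem S := by
  set h : ℤ := (2 : ℤ) ^ (n - 1) with hh
  set z := c ^ h with hzdef
  have hz2 : z * z = 1 := sh.z_sq
  have hzi : z⁻¹ = z := inv_eq_of_mul_eq_one_right hz2
  have hodd : ∀ m : ℤ, Odd m → c ^ (m * h) = z := fun m hm => by
    obtain ⟨t, rfl⟩ := hm
    rw [show (2 * t + 1) * h = (h + h) * t + h by ring, zpow_add, zpow_mul, zpow_add, ← hzdef, hz2, one_zpow,
      one_mul]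
  have hyz : y * z = z * y := by rw [hzdef, sh.yc, zpow_neg, ← hzdef, hzi]
  have hwz : Commute w z := by
    show w * z = z * w
    rw [hzdef, sh.wc, hodd _ (sh.odd.mul sh.odd)]
  obtain ⟨g, hgy, hgz, hgw⟩ : ∃ g : S, g * y * g⁻¹ = z * y ∧ Commute g z ∧ Commute g w := by
    by_cases hn : n = 1
    · have hz : z = c := by rw [hzdef, hh, hn]; simp
      have hac : Commute a c := by
        show a * c = c * a
        have hm : c ^ μ = c := by simpa [hh, hn, ← hz] using hodd μ sh.odd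
        calc a * c = a * c * a⁻¹ * a := by group
          _ = c * a := by rw [sh.conj_ac, hm]
      refine ⟨a, by rw [hz, sh.conj_ay], hz ▸ hac, ?_⟩
      rw [sh.w_def]
      exact (hac.zpow_right _).mul_right ((Commute.refl a).mul_right (Commute.refl a))
    · obtain ⟨n', rfl⟩ : ∃ n', n = n' + 2 := ⟨n - 2, by have := sh.npos; omega⟩
      have h2 : h = 2 * 2 ^ n' := by rw [hh, show n' + 2 - 1 = n' + 1 by omega, pow_succ']
      refine ⟨c ^ ((2 : ℤ) ^ n'), ?_, ((Commute.refl c).zpow_zpow _ _), ?_⟩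
      · rw [hzdef, h2, two_mul, zpow_add, mul_assoc (c ^ _) y, ← zpow_neg, sh.yc, neg_neg, ← mul_assoc]
      · show _ * w = w * _
        rw [sh.wc]
        congr 1
        rw [← mul_inv_eq_one, ← zpow_neg, ← zpow_add, sh.zpow_eq_one]
        obtain ⟨t, rfl⟩ := sh.odd
        exact ⟨-(t * t + t), by ring⟩
  obtain ⟨f, hfr, hfs⟩ := Models.exists_homV (I := z) (J := y) hz2 (by rw [hyz, mul_inv_cancel_right, hzi]) hy
  haveI : Fact (1 < 2) := ⟨one_lt_two⟩
  have hr1 : f (.r 1) = z := by rw [hfr, pw_one]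
  have hs0 : f (.sr 0) = y := by rw [hfs, Models.pw_zero, mul_one]
  have hzc : ∀ i : ZMod 2, Models.pw z i ∈ zpowers c := fun i => pow_mem (zpow_mem_zpowers c h) _
  have hz1 : z ≠ 1 := fun e' => by
    have := Int.le_of_dvd (by positivity) (sh.zpow_eq_one.1 e')
    have h4 : (2 : ℤ) ^ n = 2 * 2 ^ (n - 1) := by rw [← pow_succ', Nat.sub_add_cancel sh.npos]
    have : (0 : ℤ) < 2 ^ (n - 1) := by positivity
    omega
  have hC1 : ∀ m, f m ∈ zpowers w → m = 1 := by
    intro m hm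
    obtain ⟨l, hl⟩ := mem_zpowers_iff.1 hm
    rcases m with i | i
    · have h1 : y ^ (0 : ℤ) * w ^ l ∈ zpowers c := by rw [zpow_zero, one_mul, hl, hfr]; exact hzc i
      obtain ⟨s, rfl⟩ : (2 : ℤ) ^ (r - 1) ∣ l := by
        have h2 := (sh.indep' h1).2
        rw [show r = r - 1 + 1 from (Nat.sub_add_cancel (by have := sh.two_le; omega)).symm, pow_succ'] at h2
        exact Int.dvd_of_mul_dvd_mul_left two_ne_zero h2
      rw [zpow_mul, show w ^ ((2 : ℤ) ^ (r - 1)) = 1 by rw [← hw, ← zpow_natCast]; push_cast; rfl, one_zpow,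
        hfr] at hl
      have : ∀ i : ZMod 2, i = 0 ∨ i = 1 := by decide
      rcases this i with rfl | rfl
      · rfl
      · rw [pw_one] at hl; exact absurd hl.symm hz1
    · exfalso
      have h1 : y ^ (-1 : ℤ) * w ^ l ∈ zpowers c := by
        rw [hl, hfs, zpow_neg_one, inv_mul_cancel_left]; exact hzc i
      have := (sh.indep' h1).1
      omega
  have hinj : Function.Injective f := (injective_iff_map_eq_one f).2 fun m hm => hC1 m (hm ▸ one_mem _)
  have hcomm : ∀ m, Commute (f m) w := by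
    rintro (i | i)
    · rw [hfr]; exact (hwz.symm.pow_left _)
    · rw [hfs]; exact (show Commute y w from sh.wy.symm).mul_left (hwz.symm.pow_left _)
  have hgf : ∀ m, g * f m * g⁻¹ = f (Models.φV m) := by
    rintro (i | i)
    · show g * f (.r i) * g⁻¹ = f (.r i)
      rw [hfr, (show Commute g (Models.pw z i) from hgz.pow_right _).eq, mul_inv_cancel_right]
    · show g * f (.sr i) * g⁻¹ = f (.sr (i + 1))
      rw [hfs, hfs, add_comm, Models.pw_add (by rw [pow_two, hz2]), pw_one,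
        show g * (y * Models.pw z i) * g⁻¹ = (g * y * g⁻¹) * (g * Models.pw z i * g⁻¹) by group, hgy,
        (show Commute g (Models.pw z i) from hgz.pow_right _).eq, mul_inv_cancel_right, ← hyz, mul_assoc]
  refine noninner_of_model hS sh dvd_rfl hwz hgy hgz hgw f hinj (zpowers w) Models.τV Models.φV 1 ?_ ?_ ?_
    ?_ ?_ Models.τV_cube Models.τV_ne_one (fun m hm => by rw [hC1 m hm, map_one]) hgf ?_
    (fun m => by rw [Models.inner_V, one_mul, inv_one, mul_one]) ?_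
  · rintro (i | i)
    · rw [hfr]; exact pow_mem sh.c_mem _
    · rw [hfs]; exact mul_mem sh.y_mem (pow_mem sh.c_mem _)
  · exact zpowers_le.2 sh.w_mem
  · rintro x ⟨k, ε, l, rfl⟩
    exact ⟨(.r 1) ^ k * (.sr 0) ^ ε, w ^ l, zpow_mem_zpowers w l, by
      rw [map_mul, map_zpow, map_zpow, hr1, hs0, zpow_mul, mul_assoc]⟩
  · rintro m _ ⟨l, rfl⟩
    exact ((hcomm m).zpow_right l).eq
  · rintro _ ⟨i, rfl⟩ _ ⟨j, rfl⟩
    exact ((Commute.refl w).zpow_zpow i j).eq
  · rintro _ ⟨l, rfl⟩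
    exact (hgw.zpow_right l).eq
  · intro M₀ hM
    obtain ⟨m₁, hm₁⟩ : ∃ m, m ∉ M₀ := by
      by_contra! hall
      exact hM (eq_top_iff.2 fun x _ => hall x)
    refine ⟨0, f m₁, fun m hm d hd => ⟨fun e' => hm₁ ?_, ?_⟩⟩
    · rw [pow_zero, MulAut.one_apply] at e'
      have : m⁻¹ * m₁ = 1 := hC1 _ (by rw [map_mul, map_inv, ← e', inv_mul_cancel_left]; exact hd)
      rwa [← inv_mul_eq_one.1 this]
    · obtain ⟨l, rfl⟩ := hd
      rw [pow_zero, MulAut.one_apply]
      have hV : ∀ p q : Models.V4, p * q = q * p := by decide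
      exact (show Commute (f m₁) (f m) by
        show _ = _; rw [← map_mul, hV, map_mul]).mul_right ((hcomm m₁).zpow_right l)

/-- The case of a quaternion group. -/
theorem noninner_caseB (hS : IsPGroup 2 S) {n : ℕ} (sh : Shape c y w a (n + 2) r μ e) {t : ℤ}
    (hJ : (y * w ^ t) * (y * w ^ t) = c ^ ((2 : ℤ) ^ (n + 1))) :
    ∃ F : FusionSystem S, F.IsSaturated 2 ∧ F ≠ innerFusionSystem S := by
  set h : ℤ := (2 : ℤ) ^ n with hh
  set i := c ^ h with hidef
  have hi2 : i * i = c ^ ((2 : ℤ) ^ (n + 1)) := by rw [hidef, ← zpow_add, hh, pow_succ, mul_two]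
  have hi4 : i ^ 4 = 1 := by
    rw [hidef, ← zpow_natCast, ← zpow_mul, sh.zpow_eq_one, hh, pow_succ, pow_succ]
    exact ⟨1, by push_cast; ring⟩
  obtain ⟨v, hv⟩ := sh.odd
  have hμμ : μ * μ = 1 + 8 * (((v * v + v) / 2)) := by
    obtain ⟨s, hs⟩ : (2 : ℤ) ∣ v * v + v := by
      have : Even (v * (v + 1)) := Int.even_mul_succ_self v
      obtain ⟨s, hs⟩ := this
      exact ⟨s, by linarith⟩
    rw [hs, Int.mul_ediv_cancel_left _ two_ne_zero, hv]
    linarith
  have hwi : Commute w i := by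
    show w * c ^ h = c ^ h * w
    rw [sh.wc]
    congr 1
    rw [← mul_inv_eq_one, ← zpow_neg, ← zpow_add, sh.zpow_eq_one, hμμ, hh, pow_succ, pow_succ]
    exact ⟨2 * ((v * v + v) / 2), by ring⟩
  obtain ⟨g, hgy, hgi, hgw⟩ : ∃ g : S, g * y * g⁻¹ = i * y ∧ Commute g i ∧ Commute g w := by
    by_cases hn : n = 0
    · subst hn
      have hic : i = c := by rw [hidef, hh, pow_zero, zpow_one]
      have h4 : ∀ x : ℤ, c ^ x = 1 ↔ (4 : ℤ) ∣ x := fun x => by rw [sh.zpow_eq_one]; norm_num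
      obtain ⟨v', hv' | hv'⟩ : ∃ v', v = 2 * v' ∨ v = 2 * v' + 1 := ⟨v / 2, by omega⟩
      · have hac : Commute a c := by
          show a * c = c * a
          calc a * c = a * c * a⁻¹ * a := by group
            _ = c * a := by
              rw [sh.conj_ac]; congr 1
              rw [← mul_inv_eq_one, ← zpow_sub_one, h4, hv, hv']
              exact ⟨v', by ring⟩
        refine ⟨a, by rw [hic, sh.conj_ay], hic ▸ hac, ?_⟩
        rw [sh.w_def]
        exact (hac.zpow_right _).mul_right ((Commute.refl a).mul_right (Commute.refl a))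
      · have hμc : ∀ x : ℤ, c ^ (-(μ * x)) = c ^ x := fun x => by
          rw [← mul_inv_eq_one, ← zpow_neg, ← zpow_add, h4, hv, hv']
          exact ⟨-(v' * x + x), by ring⟩
        refine ⟨a * y, ?_, ?_, ?_⟩
        · rw [hic, show a * y * y * (a * y)⁻¹ = a * y * a⁻¹ by group, sh.conj_ay]
        · rw [hic]
          show a * y * c = c * (a * y)
          conv_lhs => rw [mul_assoc, ← zpow_one c, sh.yc, ← mul_assoc, sh.ac, mul_neg, hμc, zpow_one]
          exact mul_assoc c a y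
        · refine Commute.mul_left ?_ (show Commute y w from sh.wy.symm)
          rw [sh.w_def]
          refine Commute.mul_right ?_ ((Commute.refl a).mul_right (Commute.refl a))
          show a * c ^ e = c ^ e * a
          rw [sh.ac]
          congr 1
          rw [← mul_inv_eq_one, ← zpow_neg, ← zpow_add, h4]
          have he : e = -(2 * v' + 2) := by have := sh.e_def; rw [hv, hv'] at this; linarith
          exact ⟨-((2 * v' + 1) * (v' + 1)), by rw [he, hv, hv']; ring⟩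
    · obtain ⟨n', rfl⟩ : ∃ n', n = n' + 1 := ⟨n - 1, by omega⟩
      have h2 : h = 2 * 2 ^ n' := by rw [hh, pow_succ']
      refine ⟨c ^ ((2 : ℤ) ^ n'), ?_, ((Commute.refl c).zpow_zpow _ _), ?_⟩
      · rw [hidef, h2, two_mul, zpow_add, mul_assoc (c ^ _) y, ← zpow_neg, sh.yc, neg_neg, ← mul_assoc]
      · show _ * w = w * _
        rw [sh.wc]
        congr 1
        rw [← mul_inv_eq_one, ← zpow_neg, ← zpow_add, sh.zpow_eq_one, hμμ]
        exact ⟨-((v * v + v) / 2), by rw [pow_succ, pow_succ, pow_succ]; ring⟩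
  set J := y * w ^ t with hJdef
  have hyi : y * i * y⁻¹ = i⁻¹ := by rw [hidef, ← conj_zpow, sh.conj_yc, inv_zpow]
  have hJi : J * i * J⁻¹ = i⁻¹ := by
    rw [hJdef, show y * w ^ t * i * (y * w ^ t)⁻¹ = y * (w ^ t * i * (w ^ t)⁻¹) * y⁻¹ by group,
      (hwi.zpow_left t).eq, mul_inv_cancel_right, hyi]
  obtain ⟨f, hfa, hfx⟩ := Models.exists_homQ hi4 hJi (hJ.trans hi2.symm)
  haveI : Fact (1 < 2 * 2) := ⟨by norm_num⟩
  have hf1 : f (.a 1) = i := by rw [hfa, pw_one]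
  have hfJ : f (.xa 0) = J := by rw [hfx, Models.pw_zero, mul_one]
  have hJc : J ∉ zpowers c := fun hm => by
    have h1 : y ^ (1 : ℤ) * w ^ t ∈ zpowers c := by rwa [zpow_one]
    have := (sh.indep' h1).1
    omega
  have hio : ∀ k : ℕ, k < 4 → i ^ k = 1 → k = 0 := fun k hk hik => by
    rw [hidef, ← zpow_natCast, ← zpow_mul, sh.zpow_eq_one, hh, pow_succ, pow_succ, mul_assoc] at hik
    have := Int.dvd_of_mul_dvd_mul_left (by positivity) hik
    omega
  have hinj : Function.Injective f := (injective_iff_map_eq_one f).2 fun m hm => by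
    rcases m with k | k
    · rw [hfa] at hm
      have : k = 0 := (ZMod.val_eq_zero k).1 (hio _ k.val_lt hm)
      rw [this]; rfl
    · rw [hfx] at hm
      refine absurd ?_ hJc
      rw [eq_inv_of_mul_eq_one_left hm]
      exact inv_mem (pow_mem (zpow_mem_zpowers c h) _)
  set z := c ^ ((2 : ℤ) ^ (n + 1)) with hzdef
  set C := zpowers w ⊔ zpowers z with hC
  have hzf : f (.a 1 * .a 1) = z := by rw [map_mul, hf1, hi2]
  have hwJ : Commute w J := (show Commute w y from sh.wy).mul_right ((Commute.refl w).zpow_right t)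
  have hCcomm : ∀ x : S, Commute x w → Commute x i → ∀ d ∈ C, Commute x d := fun x h1 h2 d hd => by
    have hle : C ≤ centralizer ({x} : Set S) := sup_le
      (zpowers_le.2 (mem_centralizer_singleton_iff.2 h1.eq.symm))
      (zpowers_le.2 (mem_centralizer_singleton_iff.2 ((h2.mul_right h2).eq.symm |> fun e' => hi2 ▸ e')))
    exact (mem_centralizer_singleton_iff.1 (hle hd)).symm
  have hzy : Commute y z := by
    show y * z = z * y
    rw [hzdef, sh.yc]
    congr 1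
    rw [← mul_inv_eq_one, ← zpow_neg, ← zpow_add, sh.zpow_eq_one]
    exact ⟨-1, by rw [pow_succ (2 : ℤ) (n + 1)]; ring⟩
  have hwz : Commute w z := hi2 ▸ hwi.mul_right hwi
  have hcomm : ∀ m, ∀ d ∈ C, f m * d = d * f m := by
    have hi : ∀ k : ℕ, ∀ d ∈ C, Commute (i ^ k) d := fun k d hd =>
      (hCcomm i hwi.symm (Commute.refl i) d hd).pow_left k
    have hJz : Commute J z := hzy.mul_left (hwz.zpow_left t)
    have hJd : ∀ d ∈ C, Commute J d := fun d hd => by
      have hle : C ≤ centralizer ({J} : Set S) := sup_le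
        (zpowers_le.2 (mem_centralizer_singleton_iff.2 hwJ.eq))
        (zpowers_le.2 (mem_centralizer_singleton_iff.2 hJz.eq.symm))
      exact (mem_centralizer_singleton_iff.1 (hle hd)).symm
    rintro (k | k) d hd
    · rw [hfa]; exact (hi _ d hd).eq
    · rw [hfx]; exact ((hJd d hd).mul_left (hi _ d hd)).eq
  have hCC : ∀ d ∈ C, ∀ d' ∈ C, d * d' = d' * d := fun d hd d' hd' => by
    have h1 : Commute d w := (hCcomm w (Commute.refl w) hwi d hd).symm
    have h2 : Commute d i := (hCcomm i hwi.symm (Commute.refl i) d hd).symm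
    exact (hCcomm d h1 h2 d' hd').eq
  have hcen : ∀ m, f m ∈ C → ∀ m', m * m' = m' * m := fun m hm m' => hinj (by
    rw [map_mul, map_mul, hcomm m' (f m) hm])
  have hgf : ∀ m, g * f m * g⁻¹ = f (Models.φQ m) := by
    rintro (k | k)
    · show g * f (.a k) * g⁻¹ = f (.a k)
      rw [hfa, (show Commute g (Models.pw i k) from hgi.pow_right _).eq, mul_inv_cancel_right]
    · show g * f (.xa k) * g⁻¹ = f (.xa (k - 1))
      rw [hfx, hfx, Models.pw_sub hi4, pw_one, hJdef,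
        show g * (y * w ^ t * Models.pw i k) * g⁻¹
          = (g * y * g⁻¹) * (g * w ^ t * g⁻¹) * (g * Models.pw i k * g⁻¹) by group,
        hgy, (hgw.zpow_right t).eq, mul_inv_cancel_right,
        (show Commute g (Models.pw i k) from hgi.pow_right _).eq, mul_inv_cancel_right,
        ← mul_assoc, ← hJdef]
      congr 1
      rw [mul_assoc i, ← hJdef]
      calc i * J = J * (J⁻¹ * i * J) := by group
        _ = J * i⁻¹ := by
          congr 1
          calc J⁻¹ * i * J = J⁻¹ * (J * i * J⁻¹)⁻¹ * J := by rw [hJi, inv_inv]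
            _ = i⁻¹ := by group
  have hgP := sh.g_notMem (hwh := hwi) hgy
    (show h ∣ (2 : ℤ) ^ (n + 2 - 1) from ⟨2, by rw [hh, show n + 2 - 1 = n + 1 by omega, pow_succ]⟩)
  have hfP : ∀ m, f m ∈ sh.sub h hwi := by
    rintro (k | k)
    · rw [hfa]; exact pow_mem sh.c_mem _
    · rw [hfx]; exact mul_mem (mul_mem sh.y_mem (zpow_mem sh.w_mem t)) (pow_mem sh.c_mem _)
  have hCP : C ≤ sh.sub h hwi :=
    sup_le (zpowers_le.2 sh.w_mem) (zpowers_le.2 (hzf ▸ hfP _))
  refine noninner_of_model hS sh ⟨2, by rw [hh, show n + 2 - 1 = n + 1 by omega, pow_succ]⟩ hwi hgy hgi hgw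
    f hinj C Models.τQ Models.φQ (.xa 3) hfP hCP ?_ hcomm hCC Models.τQ_cube Models.τQ_ne_one
    (fun m hm => Models.τQ_center m (hcen m hm)) hgf (fun d hd => (hCcomm g hgw hgi d hd).eq)
    Models.inner_Q ?_
  · rintro x ⟨k, ε, l, rfl⟩
    refine ⟨(.a 1) ^ k * (.xa 0) ^ ε, w ^ (-(t * ε) + l), mem_sup_left (zpow_mem_zpowers w _), ?_⟩
    rw [map_mul, map_zpow, map_zpow, hf1, hfJ, zpow_mul, hJdef,
      (show Commute y (w ^ t) from (show Commute y w from sh.wy.symm).zpow_right t).mul_zpow, ← zpow_mul w t ε,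
      mul_assoc, mul_assoc (y ^ ε), ← zpow_add, ← add_assoc, add_neg_cancel, zero_add]
  · intro M₀ hM
    by_cases hall : ∀ m ∈ M₀, ∀ m', m * m' = m' * m
    · refine ⟨0, i, fun m hm d hd => ⟨fun e' => ?_, ?_⟩⟩
      · rw [pow_zero, MulAut.one_apply] at e'
        have h1 : f (m⁻¹ * .a 1) ∈ C := by rw [map_mul, map_inv, hf1, ← e', inv_mul_cancel_left]; exact hd
        have h2 := hcen _ h1 (.xa 0)
        have h3 := hall m hm (.xa 0)
        have h4 : (.a 1 : Models.Q8) * .xa 0 = .xa 0 * .a 1 := by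
          calc (.a 1 : Models.Q8) * .xa 0 = m * ((m⁻¹ * .a 1) * .xa 0) := by group
            _ = m * .xa 0 * (m⁻¹ * .a 1) := by rw [h2]; group
            _ = _ := by rw [h3]; group
        exact absurd h4 (by decide)
      · rw [pow_zero, MulAut.one_apply]
        refine Commute.mul_right ?_ (hCcomm i hwi.symm (Commute.refl i) d hd)
        show i * f m = f m * i
        rw [← hf1, ← map_mul, ← map_mul, hall m hm]
    · push Not at hall
      obtain ⟨m₁, hm₁, m', hne⟩ := hall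
      obtain ⟨k, hk⟩ : ∃ k : ℕ, (Models.τQ ^ k) m₁ ∈ ({.a 1, .a 3} : Finset Models.Q8) := by
        rcases Models.τQ_rotate m₁ with h' | h' | h' | h'
        · exact absurd (h' m') hne
        · exact ⟨0, h'⟩
        · exact ⟨1, by rwa [pow_one]⟩
        · exact ⟨2, by rwa [pow_two, MulAut.mul_apply]⟩
      set N := M₀.map (Models.τQ ^ k).toMonoidHom with hN
      have hN1 : (.a 1 : Models.Q8) ∈ N := by
        have h1 : (Models.τQ ^ k) m₁ ∈ N := mem_map_of_mem _ hm₁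
        simp only [Finset.mem_insert, Finset.mem_singleton] at hk
        rcases hk with e' | e' <;> rw [e'] at h1
        · exact h1
        · have : (.a 1 : Models.Q8) = (.a 3 : Models.Q8)⁻¹ := by decide
          rw [this]; exact inv_mem h1
      refine ⟨k, g, fun m hm d hd => ⟨fun e' => hgP (e' ▸ mul_mem (hfP _) (hCP hd)), ?_⟩⟩
      refine Commute.mul_right ?_ (hCcomm g hgw hgi d hd)
      rcases hmk : (Models.τQ ^ k) m with j | j
      · rw [hfa]; exact hgi.pow_right _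
      · exfalso
        have hj : (.xa j : Models.Q8) ∈ N := hmk ▸ mem_map_of_mem _ hm
        have htop := Models.eq_top_of_gen hN1 hj
        refine hM (eq_top_iff.2 fun x _ => ?_)
        obtain ⟨x', hx', hxx⟩ := (htop ▸ mem_top ((Models.τQ ^ k) x) : (Models.τQ ^ k) x ∈ N)
        exact (Models.τQ ^ k).injective hxx ▸ hx'

/-- The backward direction. -/
theorem noninner_of_derived_cyclic (hS : IsPGroup 2 S) {a₀ b₀ : S} (hb : BC a₀ b₀)
    (hcyc : IsCyclic ↥(commutator S)) (hnm : ¬ Cfsg.IsMetacyclic S) :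
    ∃ F : FusionSystem S, F.IsSaturated 2 ∧ F ≠ innerFusionSystem S := by
  obtain ⟨c, y, w, a, n, r, μ, e, sh⟩ := exists_shape hS hb hcyc hnm
  obtain ⟨q, hq⟩ := sh.y_sq
  obtain ⟨hwm, hw2⟩ := sh.w_top
  obtain ⟨i, hi⟩ := mem_zpowers_iff.1 hwm
  have hz : ∀ x : ℤ, c ^ x * c ^ x = 1 → c ^ x = 1 ∨ c ^ x = c ^ ((2 : ℤ) ^ (n - 1)) := fun x hx => by
    rw [← zpow_add, ← two_mul, sh.zpow_eq_one] at hx
    obtain ⟨s, rfl⟩ := sh.half_dvd_of_two_mul hx
    rcases Int.even_or_odd s with ⟨s', rfl⟩ | ⟨s', rfl⟩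
    · exact .inl (by rw [← two_mul, ← mul_assoc, zpow_mul, mul_comm, two_mul, zpow_add, sh.z_sq, one_zpow])
    · exact .inr (by
        rw [mul_add, mul_one, zpow_add, ← mul_assoc, zpow_mul, mul_comm ((2 : ℤ) ^ (n - 1)) 2, two_mul,
          zpow_add, sh.z_sq, one_zpow, one_mul])
  have hy4 := sh.y_four
  rw [hq] at hy4
  rcases hz _ hy4 with hy | hy
  · rw [← hq] at hy
    rw [← hi] at hw2
    rcases hz _ hw2 with hw | hw
    · exact noninner_caseA hS sh hy (hi.symm.trans hw)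
    · -- then `n ≥ 2`
      obtain ⟨n, rfl⟩ : ∃ n', n = n' + 2 := ⟨n - 2, by
        by_contra hn
        obtain rfl : n = 1 := by have := sh.npos; omega
        have hac : Commute a c := by
          show a * c = c * a
          calc a * c = a * c * a⁻¹ * a := by group
            _ = c * a := by
              rw [sh.conj_ac]; congr 1
              obtain ⟨v, hv⟩ := sh.odd
              rw [← mul_inv_eq_one, ← zpow_sub_one, sh.zpow_eq_one]
              exact ⟨v, by rw [hv]; ring⟩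
        obtain ⟨p, hp⟩ := sh.a_pow
        obtain ⟨r', hr'⟩ : ∃ r', r = r' + 2 := ⟨r - 2, by have := sh.two_le; omega⟩
        have h1 : w ^ (2 ^ (r - 1)) = 1 := by
          rw [sh.w_def, ((hac.symm.zpow_left e).mul_right (hac.symm.zpow_left e)).mul_pow, ← pow_two, ← pow_mul,
            show 2 * 2 ^ (r - 1) = 2 ^ r by rw [← pow_succ']; congr 1; omega, hp, ← zpow_natCast,
            ← zpow_mul, ← zpow_add, sh.zpow_eq_one, hr', show r' + 2 - 1 = r' + 1 by omega]
          exact ⟨e * 2 ^ r' + p, by push_cast [pow_succ]; ring⟩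
        have h2 := Int.le_of_dvd (by positivity) (sh.zpow_eq_one.1 (hw.symm.trans (hi.trans h1)))
        norm_num at h2⟩
      refine noninner_caseB hS sh (t := (2 : ℤ) ^ (r - 2)) ?_
      have hc1 : Commute y (w ^ ((2 : ℤ) ^ (r - 2))) := (show Commute y w from sh.wy.symm).zpow_right _
      rw [hc1.symm.mul_mul_mul_comm, hy, one_mul, ← zpow_add, ← two_mul, ← pow_succ',
        show r - 2 + 1 = r - 1 by have := sh.two_le; omega]
      have : w ^ ((2 : ℤ) ^ (r - 1)) = w ^ (2 ^ (r - 1)) := by rw [← zpow_natCast]; push_cast; rfl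
      rw [this, ← hi, hw]
      rfl
  · obtain ⟨n, rfl⟩ : ∃ n', n = n' + 2 := ⟨n - 2, by
      by_contra hn
      obtain rfl : n = 1 := by have := sh.npos; omega
      rw [← mul_inv_eq_one, ← zpow_neg, ← zpow_add, sh.zpow_eq_one] at hy
      norm_num at hy
      skip⟩
    refine noninner_caseB hS sh (t := 0) ?_
    rw [zpow_zero, mul_one, hq, hy]
    rfl

end Build

end Cfsg.Agent.Bicyclic
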