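import Cfsg.Agent.Bicyclic.Config
import Cfsg.Agent.FusSys.Inner
import Cfsg.Agent.FGS.AutFrattini

/-!
A bicyclic 2-group carrying a saturated system other than the inner one has cyclic derived subgroup.
-/

set_option autoImplicit false

open Subgroup

namespace Cfsg.Agent.Bicyclic

universe u

/-- A subgroup that is not a 2-group has a nontrivial element of odd order. -/
theorem exists_odd {A : Type u} [Group A] [Finite A] {H : Subgroup A} (h : ¬ IsPGroup 2 H) :
    ∃ x ∈ H, Odd (orderOf x) ∧ x ≠ 1 := by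
  by_contra! hall
  refine h fun x => ?_
  obtain ⟨k, m, hm, hkm⟩ := Nat.exists_eq_pow_mul_and_not_dvd (orderOf_pos (x : A)).ne' 2 (by norm_num)
  refine ⟨k, Subtype.ext ?_⟩
  rw [SubmonoidClass.coe_pow, OneMemClass.coe_one]
  refine hall _ (pow_mem x.2 _) ?_
  rw [orderOf_pow_of_dvd (by positivity) (hkm ▸ Dvd.intro m rfl), hkm,
    Nat.mul_div_cancel_left _ (by positivity)]
  exact Nat.not_even_iff_odd.1 fun h => hm (even_iff_two_dvd.1 h)

theorem eq_one_of_odd_of_two {A : Type u} [Group A] {x : A} {k : ℕ} (h : Odd (orderOf x))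
    (h2 : x ^ 2 ^ k = 1) : x = 1 := by
  obtain ⟨i, -, hi⟩ := (Nat.dvd_prime_pow Nat.prime_two).1 (orderOf_dvd_of_pow_eq_one h2)
  rcases i with _ | i
  · rwa [pow_zero, orderOf_eq_one_iff] at hi
  · rw [hi] at h
    exact absurd ((Nat.even_pow).2 ⟨even_two, Nat.succ_ne_zero i⟩) (Nat.not_even_iff_odd.2 h)

variable {K : Type u} [Group K] [Finite K] (hK : IsPGroup 2 K)

include hK in
/-- Automorphisms trivial on the Frattini quotient form a 2-group. -/
theorem isPGroup_of_trivial (A : Subgroup (MulAut K)) (hA : ∀ β ∈ A, ∀ x : K, x⁻¹ * β x ∈ frattini K) :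
    IsPGroup 2 A := by
  haveI : Fact (Nat.Prime 2) := ⟨Nat.prime_two⟩
  obtain ⟨n, hn⟩ := IsPGroup.iff_card.1 hK
  have hd := Dvd.intro_left (Nat.card (frattini K)) (frattini K).card_mul_index
  rw [hn] at hd
  obtain ⟨r, -, hr⟩ := (Nat.dvd_prime_pow Nat.prime_two).1 hd
  have h := FGS.card_dvd_of_trivial_on_frattini_quotient hn hr A fun β hβ x => by
    have h1 := (inferInstance : (frattini K).Normal).conj_mem _ (hA β hβ x) x
    rwa [mul_inv_cancel_left] at h1
  obtain ⟨i, -, hi⟩ := (Nat.dvd_prime_pow Nat.prime_two).1 h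
  exact IsPGroup.of_card hi

include hK in
theorem eq_one_of_trivial {β : MulAut K} (ho : Odd (orderOf β)) (h : ∀ x : K, x⁻¹ * β x ∈ frattini K) :
    β = 1 := by
  let A : Subgroup (MulAut K) :=
    { carrier := {δ | ∀ x : K, x⁻¹ * δ x ∈ frattini K}
      one_mem' := fun x => by simp
      mul_mem' := fun {δ ε} hδ hε x => by
        have := mul_mem (hε x) (hδ (ε x))
        rwa [mul_assoc, mul_inv_cancel_left] at this
      inv_mem' := fun {δ} hδ x => by
        have := inv_mem (hδ (δ⁻¹ x))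
        rwa [mul_inv_rev, inv_inv, MulAut.inv_apply, MulEquiv.apply_symm_apply] at this }
  obtain ⟨k, hk⟩ := isPGroup_of_trivial hK A (fun δ hδ => hδ) ⟨β, h⟩
  exact eq_one_of_odd_of_two ho (congrArg Subtype.val hk)

/-- The action on the Frattini quotient. -/
noncomputable def fratHom (K : Type u) [Group K] [Finite K] : MulAut K →* MulAut (K ⧸ frattini K) where
  toFun β := qAut β (frattini K) (map_eq_of_char β (frattini K) (hN := frattini_characteristic))
  map_one' := MulEquiv.ext fun q => by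
    obtain ⟨x, rfl⟩ := QuotientGroup.mk_surjective q
    rfl
  map_mul' β δ := MulEquiv.ext fun q => by
    obtain ⟨x, rfl⟩ := QuotientGroup.mk_surjective q
    rfl

omit hK in
theorem fratHom_mk (β : MulAut K) (x : K) :
    fratHom K β (x : K ⧸ frattini K) = ((β x : K) : K ⧸ frattini K) := rfl

include hK in
theorem frattini_quot_exp (q : K ⧸ frattini K) : q * q = 1 := by
  obtain ⟨x, rfl⟩ := QuotientGroup.mk_surjective q
  rw [← QuotientGroup.mk_mul, QuotientGroup.eq_one_iff]
  exact sq_mem_frattini hK x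

include hK in
/-- A bicyclic 2-group with an automorphism of odd order has cyclic derived subgroup. -/
theorem derived_cyclic_of_aut {a b : K} (hb : BC a b) {α : MulAut K} (ho : Odd (orderOf α)) (hα : α ≠ 1) :
    IsCyclic ↥(commutator K) := by
  haveI : Fact (Nat.Prime 2) := ⟨Nat.prime_two⟩
  have hexp := frattini_quot_exp hK
  have h4 := frattini_index_le hK hb
  set σ := fratHom K α with hσ
  have hne2 : σ ^ 2 ≠ 1 := fun e => hα (eq_one_of_trivial hK ho fun x => by
    have h1 : σ = 1 := eq_one_of_odd_of_two (k := 1) (Odd.of_dvd_nat ho (orderOf_map_dvd _ α)) (by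
      rw [pow_one]; exact e)
    have h2 := congrArg (fun f : MulAut (K ⧸ frattini K) => f (x : K ⧸ frattini K)) h1
    simp only [hσ, fratHom_mk, MulAut.one_apply] at h2
    exact QuotientGroup.eq.1 h2.symm)
  obtain ⟨h3q, v, hnd, hcov⟩ := FusSys.MetaTwo.aut_small (by rw [← index_eq_card]; exact h4) hne2
  have h3 : α ^ 3 = 1 := eq_one_of_trivial hK (Odd.of_dvd_nat ho (orderOf_pow_dvd 3)) fun x => by
    have h1 : fratHom K (α ^ 3) = 1 := by rw [map_pow, ← hσ, h3q]
    have h2 := congrArg (fun f : MulAut (K ⧸ frattini K) => f (x : K ⧸ frattini K)) h1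
    simp only [fratHom_mk, MulAut.one_apply] at h2
    exact QuotientGroup.eq.1 h2.symm
  have hf : Full α := by
    refine Core.eq_top_of_sup_frattini (le_rfl : frattini K ≤ frattini K) (eq_top_iff.2 fun x _ => ?_)
    -- the displacement map is surjective on the Frattini quotient
    let d : K ⧸ frattini K → K ⧸ frattini K := fun q => q⁻¹ * σ q
    have hc := exp_comm hexp
    have hfix : ∀ q, σ q = q → q = 1 := by
      intro q hq
      simp only [List.nodup_cons, List.mem_cons, List.not_mem_nil, or_false, not_or] at hnd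
      obtain ⟨⟨-, -, -⟩, ⟨h12, -⟩, h23, -⟩ := hnd
      rcases hcov q with rfl | rfl | rfl | rfl
      · rfl
      · exact absurd hq.symm h12
      · exact absurd hq.symm h23
      · exact absurd (σ.injective hq).symm h23
    have hinj : Function.Injective d := fun p q e => by
      have e1 : σ (p * q⁻¹) = p * q⁻¹ := by
        have h' : p⁻¹ * σ p = q⁻¹ * σ q := e
        rw [map_mul, map_inv, show σ p = p * (q⁻¹ * σ q) by rw [← h', mul_inv_cancel_left]]
        group
      exact mul_inv_eq_one.1 (hfix _ e1)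
    obtain ⟨q, hq⟩ := (Finite.injective_iff_surjective.1 hinj) (x : K ⧸ frattini K)
    obtain ⟨y, rfl⟩ := QuotientGroup.mk_surjective q
    have h' : ((y⁻¹ * α y : K) : K ⧸ frattini K) = (x : K ⧸ frattini K) := hq
    rw [← mul_inv_cancel_left (y⁻¹ * α y) x]
    exact mul_mem (mem_sup_left (mem_displ α y)) (mem_sup_right (QuotientGroup.eq.1 h'))
  have hne : Nontrivial K := by
    by_contra hh
    rw [not_nontrivial_iff_subsingleton] at hh
    exact hα (MulEquiv.ext fun x => Subsingleton.elim _ _)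
  rcases classify_full hK hf h3 hne h4 (twoGen_frattini hK hb) with ⟨r, hr⟩ | ⟨z, hz⟩
  · have : commutator K = ⊥ := by
      rw [eq_bot_iff, _root_.commutator_def, Subgroup.commutator_le]
      exact fun p _ q _ => mem_bot.2 (commutatorElement_eq_one_iff_mul_comm.2 (hr.comm p q))
    rw [this]; infer_instance
  · have hle : commutator K ≤ zpowers z := fun x hx => by
      rcases hz.frattini_cases x (commutator_le_frattini hK hx) with rfl | rfl
      exacts [one_mem _, mem_zpowers _]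
    exact (subgroupOfEquivOfLe hle).isCyclic.1 inferInstance

variable {Ω : Type u} [Group Ω] {S : Subgroup Ω} [Finite S]

open Cfsg Cfsg.FusionSystem Cfsg.Agent.FusSys

/-- An essential subgroup forces a cyclic derived subgroup. -/
theorem derived_cyclic_of_essential (hS : IsPGroup 2 S) {a b : S} (hb : BC a b) {F : FusionSystem S}
    (hF : F.IsSaturated 2) {P : Subgroup Ω} (hE : F.IsEssential 2 P) (hPS : P ≠ S) :
    IsCyclic ↥(commutator S) := by
  classical
  by_contra hnc
  haveI : Fact (Nat.Prime 2) := ⟨Nat.prime_two⟩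
  have hle : P ≤ S := hE.1.1
  haveI := finite_of_le hle
  have hP : IsPGroup 2 P := hS.to_le hle
  haveI : Finite (MulAut P) := Finite.of_injective _ MulEquiv.toEquiv_injective
  have hC : centralizerIn S P ≤ P := centric_self hE.1
  have hPn := hE.2.1
  have hrad := (essential_radical hS hF hE).2
  obtain ⟨-, -, _, E, hEE⟩ := hE
  haveI := innIn_normal F P
  set X := F.autGroup P ⧸ innIn F P
  obtain ⟨T, hT⟩ := exists_sylow_out hS hF hPn
  obtain ⟨Y, hY, hN⟩ := exists_proper_of_stronglyPEmbedded hEE T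
  set π := QuotientGroup.mk' (innIn F P) with hπ
  have hπs : Function.Surjective π := QuotientGroup.mk'_surjective _
  -- the representation
  set φ := (fratHom P).comp (F.autGroup P).subtype with hφ
  have hexp := frattini_quot_exp hP
  have hIφ : innIn F P ≤ φ.ker := fun β hβ => by
    obtain ⟨p, hp⟩ := (mem_subgroupOf.1 hβ : (β : MulAut P) ∈ Inn P)
    refine MulEquiv.ext fun q => ?_
    obtain ⟨x, rfl⟩ := QuotientGroup.mk_surjective q
    show fratHom P (β : MulAut P) x = (x : P ⧸ frattini P)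
    rw [fratHom_mk, ← hp, MulAut.conj_apply, QuotientGroup.mk_mul, QuotientGroup.mk_mul, QuotientGroup.mk_inv,
      exp_comm hexp (p : P ⧸ frattini P), mul_inv_cancel_right]
  have hkerI : φ.ker ≤ innIn F P := by
    have hp2 : IsPGroup 2 φ.ker := by
      have h1 := isPGroup_of_trivial hP (φ.ker.map (F.autGroup P).subtype) (by
        rintro _ ⟨β, hβ, rfl⟩ x
        have h2 := congrArg (fun f : MulAut (P ⧸ frattini P) => f (x : P ⧸ frattini P)) (MonoidHom.mem_ker.1 hβ)
        simp only [hφ, MonoidHom.comp_apply, fratHom_mk, MulAut.one_apply] at h2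
        exact QuotientGroup.eq.1 h2.symm)
      exact h1.of_equiv (φ.ker.equivMapOfInjective _ (F.autGroup P).subtype_injective).symm
    intro β hβ
    refine mem_subgroupOf.2 ?_
    rw [← hrad]
    exact mem_map_of_mem _ (Core.le_pCore hp2 hβ)
  set ρ : X →* MulAut (P ⧸ frattini P) := QuotientGroup.lift (innIn F P) φ hIφ with hρ
  have hρi : Function.Injective ρ := (injective_iff_map_eq_one ρ).2 fun x hx => by
    obtain ⟨β, rfl⟩ := hπs x
    exact (QuotientGroup.eq_one_iff _).2 (hkerI hx)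
  have hρπ : ∀ β, ρ (π β) = φ β := fun β => rfl
  -- the Frattini quotient is small
  set P' := P.subgroupOf S with hP'
  set e := subgroupOfEquivOfLe hle
  have hP't : P' ≠ ⊤ := fun h => hPS (le_antisymm hle (subgroupOf_eq_top.1 h))
  have hA8 : Nat.card (P ⧸ frattini P) ≤ 8 := by
    have hle' : (frattini P).map (inclusion hle) ≤ P' := by
      rintro _ ⟨x, -, rfl⟩
      exact x.2
    have h8 := card_le_eight hS hb hP't hle' (fun t ht => ⟨⟨(t : Ω), ht⟩ * ⟨(t : Ω), ht⟩,
      sq_mem_frattini hP _, Subtype.ext (by simp)⟩)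
    rw [card_map_of_injective (inclusion_injective hle), Nat.card_congr e.toEquiv,
      ← (frattini P).card_mul_index, index_eq_card, mul_comm 8] at h8
    exact Nat.le_of_mul_le_mul_left h8 Nat.card_pos
  -- an element of the normalizer outside
  obtain ⟨c, hcN, hcP⟩ := SetLike.exists_of_lt (lt_normalizerIn hS (lt_of_le_of_ne hle hPS))
  have hconj : ∀ {n : Ω}, n ∈ S → n ∈ normalizer (P : Set Ω) →
      ∃ σ : F.autGroup P, π σ ∈ (T : Subgroup X) ∧ ∀ x ∈ P, apl (σ : MulAut P) x = n * x * n⁻¹ := by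
    intro n hn hnn
    obtain ⟨σ, hσ, hσx⟩ := exists_mem_autInducedBy (P := P) hn hnn
    refine ⟨⟨σ, autInducedBy_le_autGroup hle hσ⟩, ?_, hσx⟩
    rw [hT]
    exact mem_map_of_mem _ hσ
  have hTne : (T : Subgroup X) ≠ ⊥ := fun hbot => by
    obtain ⟨σ, hσT, hσx⟩ := hconj hcN.1 hcN.2
    rw [hbot, mem_bot, hπ, QuotientGroup.mk'_apply, QuotientGroup.eq_one_iff] at hσT
    exact hcP (mem_of_conj_mem_inn hC hle hcN.1 hσx hσT)
  obtain ⟨t, θ, htT, htt, hTt, hθ3, hθ1, hinv, a', b', ha1, hb1, hab, hta, htb, hθa, hθb, hθv⟩ :=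
    transvection_pair hN hexp hA8 ρ hρi hY hTne
  -- the element `g` and the automorphism
  have ht1 : t ≠ 1 := fun h => by
    rw [h, map_one, MulAut.one_apply, left_eq_mul] at htb
    exact ha1 htb
  obtain ⟨σ₀, hσ₀, hσt⟩ : ∃ σ ∈ (autInducedBy S P).subgroupOf (F.autGroup P), π σ = t := by
    have := htT
    rw [hT] at this
    exact this
  obtain ⟨g₀, hg₀, hg₀n, hg₀x⟩ := mem_autInducedBy_iff.1 (mem_subgroupOf.1 hσ₀)
  have hg₀P : g₀ ∉ P := fun hmem => ht1 (by
    rw [← hσt, hπ, QuotientGroup.mk'_apply, QuotientGroup.eq_one_iff]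
    refine mem_subgroupOf.2 ?_
    exact ⟨⟨g₀, hmem⟩, apl_ext fun x hx => (apl_conj ⟨g₀, hmem⟩ hx).trans (hg₀x x hx).symm⟩)
  obtain ⟨β₀, hβ₀⟩ := hπs θ
  obtain ⟨m, u, hu, hmu⟩ := Nat.exists_eq_pow_mul_and_not_dvd (orderOf_pos β₀).ne' 2 (by norm_num)
  set α₁ := β₀ ^ 4 ^ m with hα₁
  have hα₁θ : π α₁ = θ := by
    rw [hα₁, map_pow, hβ₀]
    have h4 : ∀ k : ℕ, θ ^ 4 ^ k = θ := fun k => by
      induction k with
      | zero => simp
      | succ k ih => rw [pow_succ, pow_mul, ih, pow_succ, hθ3, one_mul]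
    exact h4 m
  set α : MulAut P := (α₁ : MulAut P) with hα
  have hαodd : Odd (orderOf α) := by
    refine Odd.of_dvd_nat (Nat.not_even_iff_odd.1 fun h => hu (even_iff_two_dvd.1 h)) ?_
    rw [hα, Subgroup.orderOf_coe]
    refine orderOf_dvd_of_pow_eq_one ?_
    rw [hα₁, ← pow_mul, show 4 ^ m * u = 2 ^ m * u * 2 ^ m by
      rw [show (4 : ℕ) = 2 * 2 from rfl, mul_pow]; ring, pow_mul, ← hmu, pow_orderOf_eq_one, one_pow]
  have hα3 : α ^ 3 = 1 := by
    refine eq_one_of_trivial hP (Odd.of_dvd_nat hαodd (orderOf_pow_dvd 3)) fun x => ?_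
    have h1 : φ (α₁ ^ 3) = 1 := by
      rw [← hρπ, map_pow, hα₁θ, hθ3, map_one]
    have h2 := congrArg (fun f : MulAut (P ⧸ frattini P) => f (x : P ⧸ frattini P)) h1
    simp only [hφ, MonoidHom.comp_apply, fratHom_mk, MulAut.one_apply] at h2
    exact QuotientGroup.eq.1 h2.symm
  have hαv : ∀ x : P, ρ θ (x : P ⧸ frattini P) = ((α x : P) : P ⧸ frattini P) := fun x => by
    rw [← hα₁θ, hρπ]; rfl
  -- the image of the displacement subgroup
  set K := displ α with hK
  haveI hKn : K.Normal := displ_normal α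
  have hdis : ∀ w, ∃ k ∈ K, (k : P ⧸ frattini P) = w⁻¹ * ρ θ w := fun w => by
    obtain ⟨x, rfl⟩ := QuotientGroup.mk_surjective w
    exact ⟨x⁻¹ * α x, mem_displ α x, by rw [hαv, QuotientGroup.mk_mul, QuotientGroup.mk_inv]⟩
  have hc := exp_comm hexp
  have hinvq : ∀ q : P ⧸ frattini P, q⁻¹ = q := fun q => inv_eq_of_mul_eq_one_right (hexp q)
  obtain ⟨ka, hkaK, hka⟩ : ∃ k ∈ K, (k : P ⧸ frattini P) = a' := by
    obtain ⟨k, hk, hke⟩ := hdis b'
    exact ⟨k, hk, by rw [hke, hθb, hinvq, hc a' b', ← mul_assoc, hexp, one_mul]⟩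
  obtain ⟨kb, hkbK, hkb⟩ : ∃ k ∈ K, (k : P ⧸ frattini P) = b' := by
    obtain ⟨k, hk, hke⟩ := hdis a'
    exact ⟨k * ka, mul_mem hk hkaK, by
      rw [QuotientGroup.mk_mul, hke, hka, hθa, hinvq, hc a' b', mul_assoc, hexp, mul_one]⟩
  set π₁ := QuotientGroup.mk' (frattini P)
  have h4 : 4 ≤ Nat.card (K.map π₁) := by
    haveI := Fintype.ofFinite (K.map π₁)
    have hA : a' ∈ K.map π₁ := ⟨ka, hkaK, hka⟩
    have hB : b' ∈ K.map π₁ := ⟨kb, hkbK, hkb⟩
    have hab1 : a' * b' ≠ 1 := fun h' => hab (mul_left_cancel ((hexp a').trans h'.symm))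
    have hnd : ([1, ⟨a', hA⟩, ⟨b', hB⟩, ⟨a' * b', mul_mem hA hB⟩] : List (K.map π₁)).Nodup := by
      simp [Subtype.ext_iff, Ne.symm ha1, Ne.symm hb1, Ne.symm hab1, hab, ha1, hb1]
    have h' := hnd.length_le_card
    rw [← Nat.card_eq_fintype_card] at h'
    simpa using h'
  obtain ⟨h, hαh, htop⟩ : ∃ h : P, α h = h ∧ K ⊔ zpowers h = ⊤ := by
    have hkey : ∀ h : P, (K ⊔ zpowers h).map π₁ = ⊤ → K ⊔ zpowers h = ⊤ := fun h hh => by
      refine Core.eq_top_of_sup_frattini (le_rfl : frattini P ≤ frattini P) ?_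
      have h1 := Subgroup.comap_map_eq π₁ (K ⊔ zpowers h)
      rw [hh, comap_top, QuotientGroup.ker_mk'] at h1
      exact h1.symm
    by_cases hK1 : K.map π₁ = ⊤
    · refine ⟨1, map_one α, hkey 1 ?_⟩
      rw [zpowers_one_eq_bot, sup_bot_eq, hK1]
    · obtain ⟨p₀, hp₀⟩ : ∃ p₀ : P, π₁ p₀ ∉ K.map π₁ := by
        by_contra! hall
        refine hK1 (eq_top_iff.2 fun q _ => ?_)
        obtain ⟨p, rfl⟩ := QuotientGroup.mk'_surjective _ q
        exact hall p
      obtain ⟨k, hk, h, hh, rfl⟩ := exists_decomposition hP hα3 p₀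
      refine ⟨h, hh, hkey h ?_⟩
      by_contra hne
      have hlt : K.map π₁ ≠ (K ⊔ zpowers h).map π₁ := fun he => hp₀ (by
        rw [he]; exact mem_map_of_mem _ (mul_mem (mem_sup_left hk) (mem_sup_right (mem_zpowers h))))
      have hle₁ : K.map π₁ ≤ (K ⊔ zpowers h).map π₁ := map_mono le_sup_left
      obtain ⟨c₁, hc₁⟩ := card_dvd_of_le hle₁
      obtain ⟨c₂, hc₂⟩ := card_subgroup_dvd_card ((K ⊔ zpowers h).map π₁)
      have hc₁2 : 2 ≤ c₁ := by
        rcases c₁ with _ | _ | c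
        · rw [Nat.mul_zero] at hc₁; exact absurd hc₁ Nat.card_pos.ne'
        · rw [zero_add, mul_one] at hc₁; exact absurd (eq_of_le_of_card_ge hle₁ hc₁.le) hlt
        · omega
      have hc₂2 : 2 ≤ c₂ := by
        rcases c₂ with _ | _ | c
        · rw [Nat.mul_zero] at hc₂; exact absurd hc₂ Nat.card_pos.ne'
        · rw [zero_add, mul_one] at hc₂; exact absurd (eq_top_of_card_eq _ hc₂.symm) hne
        · omega
      have := Nat.mul_le_mul (Nat.mul_le_mul h4 hc₁2) hc₂2
      rw [← hc₁, ← hc₂] at this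
      omega
  have hcyc : ∀ p : P, ∃ k ∈ K, ∃ i : ℤ, p = k * h ^ i := fun p => by
    obtain ⟨k, hk, y, hy, hky⟩ := mem_sup_of_normal_left.1 (htop ▸ mem_top p : p ∈ K ⊔ zpowers h)
    obtain ⟨i, rfl⟩ := mem_zpowers_iff.1 hy
    exact ⟨k, hk, i, hky.symm⟩
  -- `g` normalises the displacement subgroup
  set σ : MulAut P := (σ₀ : MulAut P) with hσ
  have hσK : ∀ k ∈ K, σ k ∈ K := by
    have hinn : (α₁ * (σ₀ * α₁ * σ₀⁻¹) : F.autGroup P) ∈ innIn F P := by
      rw [← QuotientGroup.eq_one_iff, ← QuotientGroup.mk'_apply, ← hπ, map_mul, map_mul, map_mul, map_inv,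
        hσt, hα₁θ, inv_eq_of_mul_eq_one_right htt, hinv, mul_inv_cancel]
    obtain ⟨p, hp⟩ := (mem_subgroupOf.1 hinn : _ ∈ Inn P)
    have hp' : ∀ x : P, α (σ (α (σ⁻¹ x))) = p * x * p⁻¹ := fun x => by
      have h1 := congrArg (fun f : MulAut P => f x) hp
      simpa [hα, hσ, MulAut.conj_apply] using h1.symm
    set π₂ := QuotientGroup.mk' K with hπ₂
    have hαK : ∀ x : P, π₂ (α x) = π₂ x := fun x => by
      rw [eq_comm, hπ₂, QuotientGroup.mk'_apply, QuotientGroup.mk'_apply, QuotientGroup.eq]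
      exact mem_displ α x
    have hβ : ∀ x : P, π₂ (σ (α (σ⁻¹ x))) = π₂ p * π₂ x * (π₂ p)⁻¹ := fun x => by
      rw [← hαK, hp', map_mul, map_mul, map_inv]
    have hpc : ∀ x : P, π₂ p * π₂ x = π₂ x * π₂ p := by
      have h3 : ∀ x : P, π₂ p ^ 3 * π₂ x * (π₂ p ^ 3)⁻¹ = π₂ x := fun x => by
        have e1 : σ (α (σ⁻¹ (σ (α (σ⁻¹ (σ (α (σ⁻¹ x)))))))) = x := by
          simp only [MulAut.inv_apply, MulEquiv.symm_apply_apply, cube_apply hα3, MulEquiv.apply_symm_apply]
        calc π₂ p ^ 3 * π₂ x * (π₂ p ^ 3)⁻¹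
            = π₂ p * (π₂ p * (π₂ p * π₂ x * (π₂ p)⁻¹) * (π₂ p)⁻¹) * (π₂ p)⁻¹ := by
              simp [pow_succ, mul_assoc]
          _ = π₂ x := by rw [← hβ, ← hβ, ← hβ, e1]
      intro x
      obtain ⟨j, hj⟩ := exists_two_pow hP p
      obtain ⟨A, B, hAB⟩ : ∃ A B : ℤ, (1 : ℤ) = A * 3 + B * (2 ^ j : ℕ) := by
        have hcop : Nat.Coprime 3 (2 ^ j) := Nat.Coprime.pow_right _ (by norm_num)
        obtain ⟨A, B, h⟩ := Nat.isCoprime_iff_coprime.2 hcop
        exact ⟨A, B, by push_cast at h ⊢; linarith⟩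
      have h2 : π₂ p ^ ((2 ^ j : ℕ) : ℤ) = 1 := by
        rw [zpow_natCast, ← map_pow, ← hj, pow_orderOf_eq_one, map_one]
      have hc3 : Commute (π₂ p ^ (3 : ℤ)) (π₂ x) := by
        show _ = _
        rw [show π₂ p ^ (3 : ℤ) = π₂ p ^ 3 from zpow_natCast _ 3]
        exact mul_inv_eq_iff_eq_mul.1 (h3 x)
      have e : π₂ p = (π₂ p ^ (3 : ℤ)) ^ A := by
        conv_lhs => rw [← zpow_one (π₂ p), hAB]
        rw [zpow_add, mul_comm B, zpow_mul (π₂ p) _ B, h2, one_zpow, mul_one, mul_comm A, zpow_mul]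
      rw [e]
      exact (hc3.zpow_left A).eq
    intro k hk
    rw [hK] at hk
    induction hk using closure_induction with
    | mem y hy =>
      obtain ⟨x, rfl⟩ := hy
      show σ (x⁻¹ * α x) ∈ K
      rw [← QuotientGroup.eq_one_iff, ← QuotientGroup.mk'_apply, ← hπ₂, map_mul, map_inv, map_mul, map_inv]
      have h1 := hβ (σ x)
      rw [MulAut.inv_apply, MulEquiv.symm_apply_apply, hpc, mul_inv_cancel_right] at h1
      rw [h1, inv_mul_cancel]
    | one => rw [map_one]; exact one_mem _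
    | mul y z _ _ ihy ihz => rw [map_mul]; exact mul_mem ihy ihz
    | inv y _ ih => rw [map_inv]; exact inv_mem ih
  have hσx : ∀ x : P, ((σ x : P) : Ω) = g₀ * (x : Ω) * g₀⁻¹ := fun x => by
    rw [← apl_coe, hσ, hg₀x _ x.2]
  -- transport to the subgroup of `S`
  set α' : MulAut P' := MulAut.congr e.symm α with hα'
  have hα'x : ∀ x : P', e (α' x) = α (e x) := fun x => by simp [hα']
  have hmem : ∀ {x : P'}, x ∈ displ α' ↔ e x ∈ K := by
    intro x
    have hmap : (displ α').map e.toMonoidHom = K := by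
      rw [displ, MonoidHom.map_closure, ← Set.range_comp, hK, displ]
      refine congrArg Subgroup.closure (Set.ext fun y => ?_)
      constructor
      · rintro ⟨z, rfl⟩
        exact ⟨e z, by simp [hα'x]⟩
      · rintro ⟨z, rfl⟩
        exact ⟨e.symm z, by simp [hα'x]⟩
    constructor
    · intro hx; rw [← hmap]; exact mem_map_of_mem _ hx
    · intro hx
      rw [← hmap] at hx
      obtain ⟨y, hy, hyx⟩ := hx
      exact e.injective hyx ▸ hy
  have hnorm : ∀ n : S, n ∈ normalizer (P' : Set S) → (n : Ω) ∈ normalizer (P : Set Ω) := fun n hn =>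
    mem_normalizer_iff.2 fun y => ⟨fun hy => mem_subgroupOf.1 ((mem_normalizer_iff.1 hn ⟨y, hle hy⟩).1 hy),
      fun hy => by
        have hyS : y ∈ S := by
          have := mul_mem (mul_mem (inv_mem n.2) (hle hy)) n.2
          rwa [show (n : Ω)⁻¹ * ((n : Ω) * y * (n : Ω)⁻¹) * n = y by group] at this
        exact mem_subgroupOf.1 ((mem_normalizer_iff.1 hn ⟨y, hyS⟩).2 hy)⟩
  refine no_config hS hb hnc P' α' ?_ ⟨g₀, hg₀⟩ ?_ (fun h => hg₀P h) ?_ ?_ ?_ ?_
  · rw [hα', ← map_pow, hα3, map_one]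
  · exact mem_normalizer_iff.2 fun y => by
      simpa [hP', mem_subgroupOf] using mem_normalizer_iff.1 hg₀n (y : Ω)
  · intro n hn
    obtain ⟨σn, hσnT, hσnx⟩ := hconj n.2 (hnorm n hn)
    rcases hTt _ hσnT with h1 | h1
    · refine Or.inl (mem_of_conj_mem_inn hC hle n.2 hσnx ?_)
      exact mem_subgroupOf.1 ((QuotientGroup.eq_one_iff _).1 h1)
    · refine Or.inr (mem_of_conj_mem_inn (a := g₀⁻¹ * n) hC hle (mul_mem (inv_mem hg₀) n.2)
        (α := ((σ₀⁻¹ * σn : F.autGroup P) : MulAut P)) ?_ ?_)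
      · intro x hx
        have hy : (n : Ω) * x * (n : Ω)⁻¹ ∈ P := (mem_normalizer_iff.1 (hnorm n hn) x).1 hx
        rw [Subgroup.coe_mul, apl_mul _ _ hx, hσnx x hx]
        have hz : g₀⁻¹ * n * x * (g₀⁻¹ * n)⁻¹ ∈ P := by
          have h1 := (mem_normalizer_iff.1 (inv_mem hg₀n) _).1 hy
          convert h1 using 1
          group
        have h1 := hg₀x _ hz
        rw [show g₀ * (g₀⁻¹ * n * x * (g₀⁻¹ * n)⁻¹) * g₀⁻¹ = (n : Ω) * x * (n : Ω)⁻¹ by group] at h1
        have h2 := apl_inv_apl (σ₀ : MulAut P) hz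
        rw [h1] at h2
        simpa using h2
      · exact mem_subgroupOf.1 ((QuotientGroup.eq_one_iff _).1 (by
          rw [← QuotientGroup.mk'_apply, ← hπ, map_mul, map_inv, hσt, h1, inv_mul_cancel]))
  · refine ⟨e.symm h, e.injective (by rw [hα'x, MulEquiv.apply_symm_apply, hαh]), fun p => ?_⟩
    obtain ⟨k, hk, i, hki⟩ := hcyc (e p)
    exact ⟨e.symm k, hmem.2 (by rwa [MulEquiv.apply_symm_apply]), i, e.injective (by
      rw [map_mul, map_zpow, MulEquiv.apply_symm_apply, MulEquiv.apply_symm_apply, hki])⟩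
  · intro k hk
    refine ⟨e.symm (σ (e k)), hmem.2 (by rw [MulEquiv.apply_symm_apply]; exact hσK _ (hmem.1 hk)),
      Subtype.ext ?_⟩
    exact hσx (e k)
  · refine ⟨e.symm kb, hmem.2 (by rwa [MulEquiv.apply_symm_apply]), fun k' hk' hmem' => ?_⟩
    have hek : e k' = σ kb := Subtype.ext (by
      rw [hσx]; exact congrArg Subtype.val hk')
    have h1 : e ((e.symm kb)⁻¹ * k') ∈ frattini P := by
      have hm := Core.map_frattini_le_of_surjective (f := e.toMonoidHom) e.surjective
        (mem_map_of_mem _ hmem')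
      exact hm
    rw [map_mul, map_inv, MulEquiv.apply_symm_apply, hek] at h1
    have h2 : ρ t b' = b' := by
      rw [← hkb, ← hσt, hρπ]
      show fratHom P σ (kb : P ⧸ frattini P) = _
      rw [fratHom_mk, eq_comm, QuotientGroup.eq]
      exact h1
    rw [htb, mul_eq_left] at h2
    exact ha1 h2

/-- A noninner saturated system forces a cyclic derived subgroup. -/
theorem derived_cyclic_of_noninner (hS : IsPGroup 2 S) {a b : S} (hb : BC a b) {F : FusionSystem S}
    (hF : F.IsSaturated 2) (hne : F ≠ innerFusionSystem S) : IsCyclic ↥(commutator S) := by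
  haveI : Fact (Nat.Prime 2) := ⟨Nat.prime_two⟩
  haveI : Finite (MulAut S) := Finite.of_injective _ MulEquiv.toEquiv_injective
  by_cases htop : IsPGroup 2 (F.autGroup S)
  · obtain ⟨P, hP⟩ : ∃ P, F.IsEssential 2 P := by
      by_contra! h
      exact hne (eq_inner_of_no_essential hS hF htop h)
    refine derived_cyclic_of_essential hS hb hF hP fun e => ?_
    subst e
    exact not_essential_of_isPGroup hS hF htop hP
  · obtain ⟨x, -, hodd, hx1⟩ := exists_odd htop
    exact derived_cyclic_of_aut hS hb hodd hx1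

end Cfsg.Agent.Bicyclic
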