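import Cfsg.Agent.Bicyclic.Sections
import Mathlib.GroupTheory.Perm.Cycle.Type

/-!
Automorphisms of order three of finite 2-groups: the subgroup of displacements and fixed points.
-/

set_option autoImplicit false

open Subgroup

namespace Cfsg.Agent.Bicyclic

universe u

variable {K : Type u} [Group K] (α : MulAut K)

/-- The subgroup generated by the elements `x⁻¹ α x`. -/
def displ : Subgroup K := closure (Set.range fun x => x⁻¹ * α x)

/-- `[K, α] = K`. -/
def Full : Prop := displ α = ⊤

theorem mem_displ (x : K) : x⁻¹ * α x ∈ displ α := subset_closure ⟨x, rfl⟩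

theorem displ_map {x : K} (hx : x ∈ displ α) : α x ∈ displ α := by
  induction hx using closure_induction with
  | mem y hy =>
    obtain ⟨x, rfl⟩ := hy
    exact subset_closure ⟨α x, by simp⟩
  | one => rw [map_one]; exact one_mem _
  | mul y z _ _ ihy ihz => rw [map_mul]; exact mul_mem ihy ihz
  | inv y _ ih => rw [map_inv]; exact inv_mem ih

theorem displ_normal : (displ α).Normal := by
  refine ⟨fun n hn g => ?_⟩
  induction hn using closure_induction with
  | mem y hy =>
    obtain ⟨x, rfl⟩ := hy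
    have h := mul_mem (mem_displ α (x * g⁻¹)) (inv_mem (mem_displ α g⁻¹))
    rwa [show (x * g⁻¹)⁻¹ * α (x * g⁻¹) * ((g⁻¹)⁻¹ * α g⁻¹)⁻¹ = g * (x⁻¹ * α x) * g⁻¹ by
      rw [map_mul]; group] at h
  | one => rw [mul_one, mul_inv_cancel]; exact one_mem _
  | mul y z _ _ ihy ihz =>
    rw [show g * (y * z) * g⁻¹ = g * y * g⁻¹ * (g * z * g⁻¹) by group]; exact mul_mem ihy ihz
  | inv y _ ih =>
    rw [show g * y⁻¹ * g⁻¹ = (g * y * g⁻¹)⁻¹ by group]; exact inv_mem ih

variable {α}

/-- A homomorphism invariant under a full automorphism is trivial. -/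
theorem Full.hom_eq_one (hf : Full α) {A : Type*} [Group A] (χ : K →* A) (h : ∀ x, χ (α x) = χ x)
    (k : K) : χ k = 1 := by
  have hle : displ α ≤ χ.ker := (closure_le _).2 (by
    rintro _ ⟨x, rfl⟩
    show χ (x⁻¹ * α x) = 1
    rw [map_mul, map_inv, h, inv_mul_cancel])
  exact hle (hf ▸ mem_top k)

theorem cube_apply (h3 : α ^ 3 = 1) (x : K) : α (α (α x)) = x := by
  have h := congrArg (fun f : MulAut K => f x) h3
  simpa [pow_succ] using h

/-- In an abelian 2-group a full automorphism of order three fixes only the identity. -/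
theorem Full.fixed_eq_one (hK : IsPGroup 2 K) (hc : ∀ x y : K, x * y = y * x) (hf : Full α)
    (h3 : α ^ 3 = 1) {v : K} (hv : α v = v) : v = 1 := by
  let N : K →* K := MonoidHom.mk' (fun x => x * α x * α (α x)) fun x y => by
    show x * y * α (x * y) * α (α (x * y)) = x * α x * α (α x) * (y * α y * α (α y))
    letI : CommGroup K := { (inferInstance : Group K) with mul_comm := hc }
    rw [map_mul, map_mul]
    ac_rfl
  have hN : N v = 1 := hf.hom_eq_one N (fun x => by
    show α x * α (α x) * α (α (α x)) = x * α x * α (α x)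
    rw [cube_apply h3, hc _ x, ← mul_assoc]) v
  have h : v * v * v = 1 := by
    have h' : v * α v * α (α v) = 1 := hN
    rwa [hv, hv] at h'
  obtain ⟨k, hk⟩ := hK v
  have h2 : orderOf v ∣ Nat.gcd (2 ^ k) 3 :=
    Nat.dvd_gcd (orderOf_dvd_of_pow_eq_one hk) (orderOf_dvd_of_pow_eq_one (by rw [pow_succ, pow_two]; exact h))
  rwa [show Nat.gcd (2 ^ k) 3 = 1 from Nat.Coprime.pow_left _ (by norm_num), Nat.dvd_one,
    orderOf_eq_one_iff] at h2

/-- The automorphism induced on a quotient. -/
noncomputable def qAut (α : MulAut K) (N : Subgroup K) [N.Normal] (h : N.map α.toMonoidHom = N) :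
    MulAut (K ⧸ N) :=
  QuotientGroup.congr N N α h

theorem qAut_mk (α : MulAut K) (N : Subgroup K) [N.Normal] (h : N.map α.toMonoidHom = N) (x : K) :
    qAut α N h (x : K ⧸ N) = ((α x : K) : K ⧸ N) := rfl

theorem qAut_cube (h3 : α ^ 3 = 1) (N : Subgroup K) [N.Normal] (h : N.map α.toMonoidHom = N) :
    qAut α N h ^ 3 = 1 := by
  refine MulEquiv.ext fun q => ?_
  obtain ⟨x, rfl⟩ := QuotientGroup.mk_surjective q
  simp only [pow_succ, pow_zero, one_mul, MulAut.mul_apply, MulAut.one_apply, qAut_mk, cube_apply h3]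

theorem Full.quotient (hf : Full α) (N : Subgroup K) [N.Normal] (h : N.map α.toMonoidHom = N) :
    Full (qAut α N h) := by
  refine eq_top_iff.2 ?_
  intro q hq
  clear hq
  obtain ⟨x, rfl⟩ := QuotientGroup.mk_surjective q
  have hx : x ∈ displ α := hf ▸ mem_top x
  induction hx using closure_induction with
  | mem y hy =>
    obtain ⟨x, rfl⟩ := hy
    exact subset_closure ⟨(x : K ⧸ N), by simp [qAut_mk]⟩
  | one => exact one_mem _
  | mul y z _ _ ihy ihz => rw [QuotientGroup.mk_mul]; exact mul_mem ihy ihz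
  | inv y _ ih => rw [QuotientGroup.mk_inv]; exact inv_mem ih

theorem map_eq_of_char (α : MulAut K) (N : Subgroup K) [hN : N.Characteristic] :
    N.map α.toMonoidHom = N :=
  Subgroup.characteristic_iff_map_eq.1 hN α

theorem map_eq_of_mapsTo [Finite K] (α : MulAut K) {H : Subgroup K} (h : ∀ x ∈ H, α x ∈ H) :
    H.map α.toMonoidHom = H :=
  eq_of_le_of_card_ge (by rintro _ ⟨x, hx, rfl⟩; exact h x hx) (card_map_of_injective α.injective).ge

/-- Automorphisms preserving a subgroup, restricted to it. -/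
noncomputable def resAut [Finite K] (α : MulAut K) (H : Subgroup K) (h : ∀ x ∈ H, α x ∈ H) : MulAut H :=
  MulEquiv.ofBijective ((α.toMonoidHom.comp H.subtype).codRestrict H fun x => h x x.2)
    (Finite.injective_iff_bijective.1 fun x y e => Subtype.ext (α.injective (congrArg Subtype.val e)))

theorem resAut_apply [Finite K] (α : MulAut K) (H : Subgroup K) (h : ∀ x ∈ H, α x ∈ H) (x : H) :
    (resAut α H h x : K) = α x := rfl

theorem resAut_cube [Finite K] (h3 : α ^ 3 = 1) (H : Subgroup K) (h : ∀ x ∈ H, α x ∈ H) :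
    resAut α H h ^ 3 = 1 := by
  refine MulEquiv.ext fun x => Subtype.ext ?_
  simp only [pow_succ, pow_zero, one_mul, MulAut.mul_apply, MulAut.one_apply, resAut_apply, cube_apply h3]

variable [Finite K] (hK : IsPGroup 2 K) (h3 : α ^ 3 = 1)
include hK h3

/-- Coprime action: an invariant coset contains a fixed point. -/
theorem exists_fixed_in_coset {H : Subgroup K} (hH : ∀ x ∈ H, α x ∈ H) {x : K} (hx : x⁻¹ * α x ∈ H) :
    ∃ h ∈ H, α (x * h) = x * h := by
  haveI : Fact (Nat.Prime 3) := ⟨Nat.prime_three⟩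
  haveI : Fact (Nat.Prime 2) := ⟨Nat.prime_two⟩
  haveI := Fintype.ofFinite H
  let f : H → H := fun h => ⟨x⁻¹ * α (x * h), by
    rw [map_mul, ← mul_assoc]; exact mul_mem hx (hH h h.2)⟩
  have hf : ∀ h, f (f (f h)) = h := fun h => Subtype.ext (by
    simp only [f, mul_inv_cancel_left, cube_apply h3, inv_mul_cancel_left])
  let σ : Equiv.Perm H := ⟨f, fun h => f (f h), hf, hf⟩
  have hn : ¬ 3 ∣ Fintype.card H := by
    rw [← Nat.card_eq_fintype_card]
    obtain ⟨m, hm⟩ := IsPGroup.iff_card.1 (hK.to_subgroup H)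
    rw [hm]
    intro hd
    have := Nat.le_of_dvd two_pos (Nat.prime_three.dvd_of_dvd_pow hd)
    omega
  obtain ⟨h, hh⟩ := σ.exists_fixed_point_of_prime (p := 3) (n := 1) hn (Equiv.ext fun h => by
    rw [pow_one]; exact hf h)
  refine ⟨h, h.2, ?_⟩
  have := congrArg Subtype.val hh
  calc α (x * h) = x * (x⁻¹ * α (x * h)) := (mul_inv_cancel_left _ _).symm
    _ = x * h := by rw [show x⁻¹ * α (x * h) = (h : K) from this]

/-- Every element is a displacement times a fixed point. -/
theorem exists_decomposition (x : K) : ∃ k ∈ displ α, ∃ c, α c = c ∧ x = k * c := by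
  obtain ⟨h, hh, hfix⟩ := exists_fixed_in_coset hK h3 (fun y hy => displ_map α hy) (mem_displ α x)
  refine ⟨x * h⁻¹ * x⁻¹, (displ_normal α).conj_mem _ (inv_mem hh) x, x * h, hfix, by group⟩

theorem full_displ : Full (resAut α (displ α) fun _ hx => displ_map α hx) := by
  set β := resAut α (displ α) fun _ hx => displ_map α hx with hβ
  set D := (displ β).map (displ α).subtype with hD
  have hgen : ∀ k ∈ displ α, k⁻¹ * α k ∈ D := fun k hk =>
    ⟨(⟨k, hk⟩ : displ α)⁻¹ * β ⟨k, hk⟩, mem_displ β _, by simp [hβ, resAut_apply]⟩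
  have hconj : ∀ c, α c = c → ∀ y ∈ D, c * y * c⁻¹ ∈ D := by
    rintro c hc _ ⟨y, hy, rfl⟩
    induction hy using closure_induction with
    | mem z hz =>
      obtain ⟨k, rfl⟩ := hz
      have h := hgen (c * k * c⁻¹) ((displ_normal α).conj_mem _ k.2 c)
      have e : (c * k * c⁻¹)⁻¹ * α (c * k * c⁻¹) = c * ((k : K)⁻¹ * α k) * c⁻¹ := by
        rw [map_mul, map_mul, map_inv, hc]; group
      rw [e] at h
      simpa [hβ, resAut_apply] using h
    | one => simp
    | mul y z _ _ ihy ihz =>
      rw [map_mul, show c * ((displ α).subtype y * (displ α).subtype z) * c⁻¹ =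
        c * (displ α).subtype y * c⁻¹ * (c * (displ α).subtype z * c⁻¹) by group]
      exact mul_mem ihy ihz
    | inv y _ ih =>
      rw [map_inv, show c * ((displ α).subtype y)⁻¹ * c⁻¹ = (c * (displ α).subtype y * c⁻¹)⁻¹ by group]
      exact inv_mem ih
  have hle : displ α ≤ D := (closure_le _).2 (by
    rintro _ ⟨x, rfl⟩
    obtain ⟨k, hk, c, hc, rfl⟩ := exists_decomposition hK h3 x
    have h := hconj c⁻¹ (by rw [map_inv, hc]) _ (hgen k hk)
    show (k * c)⁻¹ * α (k * c) ∈ D
    rwa [show c⁻¹ * (k⁻¹ * α k) * c⁻¹⁻¹ = (k * c)⁻¹ * α (k * c) by rw [map_mul, hc]; group] at h)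
  refine eq_top_iff.2 fun y _ => ?_
  obtain ⟨w, hw, hwy⟩ := hle y.2
  rwa [← Subtype.ext hwy]

end Cfsg.Agent.Bicyclic
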