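import Cfsg.Agent.FusSys.Embedded
import Cfsg.Agent.Bicyclic.VLemma

/-!
Groups of automorphisms of an elementary abelian group of order at most eight with a strongly 2-embedded
subgroup: the Sylow 2-subgroups have order two and two involutions generate a dihedral group of order six.
-/

set_option autoImplicit false

open Subgroup

namespace Cfsg.Agent.Bicyclic

universe u v

section Auto

variable {A : Type u} [Group A] [Finite A] (hexp : ∀ v : A, v * v = 1) (hA : Nat.card A ≤ 8)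

include hexp in
omit [Finite A] in
theorem exp_comm (v w : A) : v * w = w * v := by
  have hi : ∀ z : A, z⁻¹ = z := fun z => inv_eq_of_mul_eq_one_right (hexp z)
  calc v * w = (v * w)⁻¹ := (hi _).symm
    _ = w * v := by rw [mul_inv_rev, hi, hi]

include hexp hA

/-- An involution is a transvection. -/
theorem exists_centre (σ : MulAut A) (h2 : σ * σ = 1) (h1 : σ ≠ 1) :
    ∃ a : A, a ≠ 1 ∧ σ a = a ∧ (∀ v, σ v = v ∨ σ v = v * a) ∧ ∃ v, σ v = v * a := by
  have hc := exp_comm hexp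
  let f : A →* A := MonoidHom.mk' (fun v => v * σ v) fun v w => by
    show v * w * σ (v * w) = v * σ v * (w * σ w)
    rw [map_mul, mul_assoc, ← mul_assoc w, hc w (σ v), mul_assoc, ← mul_assoc, ← mul_assoc]
  have hle : f.range ≤ f.ker := by
    rintro _ ⟨v, rfl⟩
    show v * σ v * σ (v * σ v) = 1
    rw [map_mul, show σ (σ v) = v from congrArg (fun g : MulAut A => g v) h2, hc v (σ v), hexp]
  have hr : Nat.card f.range ≤ 2 := by
    have h := f.ker.card_mul_index
    rw [index_ker] at h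
    have := Nat.mul_le_mul_right (Nat.card f.range) (card_le_of_le hle)
    rw [h] at this
    nlinarith
  obtain ⟨v, hv⟩ : ∃ v, f v ≠ 1 := by
    by_contra hall
    push Not at hall
    refine h1 (MulEquiv.ext fun v => ?_)
    show σ v = v
    calc σ v = v * (v * σ v) := by rw [← mul_assoc, hexp, one_mul]
      _ = v := by rw [show v * σ v = 1 from hall v, mul_one]
  have hall : ∀ w, f w = 1 ∨ f w = f v := by
    intro w
    by_contra hno
    push Not at hno
    have hinj : Function.Injective (![1, ⟨f v, v, rfl⟩, ⟨f w, w, rfl⟩] : Fin 3 → f.range) := by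
      intro i j hij
      fin_cases i <;> fin_cases j <;>
        simp_all [Subtype.ext_iff, Ne.symm hv, Ne.symm hno.1, Ne.symm hno.2]
    have := Nat.card_le_card_of_injective _ hinj
    rw [Nat.card_eq_fintype_card, Fintype.card_fin] at this
    omega
  have hσ : ∀ w, σ w = w * f w := fun w => by
    show σ w = w * (w * σ w)
    rw [← mul_assoc, hexp, one_mul]
  refine ⟨f v, hv, ?_, fun w => ?_, v, hσ v⟩
  · rw [hσ (f v), show f (f v) = 1 from hle ⟨v, rfl⟩, mul_one]
  · rcases hall w with h | h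
    · exact Or.inl (by rw [hσ, h, mul_one])
    · exact Or.inr (by rw [hσ, h])

omit hA [Finite A] in
/-- Two transvections, the first fixing the centre of the second: the product has order dividing four. -/
theorem pow_four {t s : MulAut A} {a b : A} (ht : ∀ v, t v = v ∨ t v = v * a) (hta : t a = a)
    (hs : ∀ v, s v = v ∨ s v = v * b) (hsb : s b = b) (htb : t b = b) : (t * s) ^ 4 = 1 := by
  have hc := exp_comm hexp
  set φ := t * s with hφ
  have hφb : φ b = b := by rw [hφ, MulAut.mul_apply, hsb, htb]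
  have hφa : φ a = a ∨ φ a = a * b := by
    rcases hs a with h | h
    · exact Or.inl (by rw [hφ, MulAut.mul_apply, h, hta])
    · exact Or.inr (by rw [hφ, MulAut.mul_apply, h, map_mul, hta, htb])
  have hφv : ∀ v, φ v = v ∨ φ v = v * a ∨ φ v = v * b ∨ φ v = v * a * b := by
    intro v
    rcases hs v with h | h <;> rcases ht v with h' | h' <;>
      simp [hφ, MulAut.mul_apply, h, h', htb]
  have h2 : ∀ v, φ (φ v) = v ∨ φ (φ v) = v * b := by
    intro v
    rcases hφv v with h | h | h | h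
    · exact Or.inl (by rw [h, h])
    · rcases hφa with h' | h'
      · exact Or.inl (by rw [h, map_mul, h, h', mul_assoc, hexp, mul_one])
      · exact Or.inr (by rw [h, map_mul, h, h', mul_assoc, ← mul_assoc a, hexp, one_mul])
    · exact Or.inl (by rw [h, map_mul, h, hφb, mul_assoc, hexp, mul_one])
    · rcases hφa with h' | h'
      · refine Or.inl ?_
        rw [h, map_mul, map_mul, h, h', hφb, mul_assoc _ a b]
        simp only [mul_assoc]
        rw [← mul_assoc a b, hc a b, hexp, mul_one]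
      · refine Or.inr ?_
        rw [h, map_mul, map_mul, h, h', hφb, mul_assoc (v * a * b), mul_assoc a b b, hexp, mul_one,
          mul_assoc, hc b a, ← mul_assoc, mul_assoc v, hexp, mul_one]
  refine MulEquiv.ext fun v => ?_
  show φ (φ (φ (φ v))) = v
  rcases h2 v with h | h
  · rw [h, h]
  · rw [h, map_mul, map_mul, hφb, hφb, h, mul_assoc, hexp, mul_one]

end Auto

variable {X : Type u} [Group X] [Finite X] {T : Sylow 2 X} {Y : Subgroup X}
  (hN : ∀ Q : Subgroup X, Q ≤ T → Q ≠ ⊥ → Subgroup.normalizer (Q : Set X) ≤ Y)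

theorem isPGroup_zpowers_sq {c : X} (hc : c * c = 1) : IsPGroup 2 (zpowers c) := by
  intro y
  refine ⟨1, ?_⟩
  obtain ⟨k, hk⟩ := mem_zpowers_iff.1 y.2
  refine Subtype.ext ?_
  rw [pow_one, SubmonoidClass.coe_pow, ← hk, pow_two, ← (Commute.refl c).mul_zpow, hc, one_zpow,
    OneMemClass.coe_one]

omit hN in
/-- With a unique involution in a Sylow subgroup, commuting involutions coincide. -/
theorem commuting_involutions_eq {t : X} (huniq : ∀ γ ∈ (T : Subgroup X), γ * γ = 1 → γ = 1 ∨ γ = t)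
    {c d : X} (hc : c * c = 1) (hd : d * d = 1) (hc1 : c ≠ 1) (hd1 : d ≠ 1) (hcd : c * d = d * c) :
    c = d := by
  haveI : Fact (Nat.Prime 2) := ⟨Nat.prime_two⟩
  have hnorm : zpowers d ≤ normalizer (zpowers c : Set X) := by
    refine zpowers_le.2 (mem_normalizer_of_conj ?_)
    intro p hp
    obtain ⟨k, rfl⟩ := mem_zpowers_iff.1 hp
    rw [mul_assoc, ((show Commute c d from hcd).zpow_left k).eq, inv_mul_cancel_left]
    exact zpow_mem_zpowers c k
  obtain ⟨T', hT'⟩ := ((isPGroup_zpowers_sq hc).to_sup_of_normal_left' (isPGroup_zpowers_sq hd) hnorm).exists_le_sylow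
  obtain ⟨x, hx⟩ := MulAction.exists_smul_eq X T' T
  have hm : ∀ e ∈ zpowers c ⊔ zpowers d, x * e * x⁻¹ ∈ (T : Subgroup X) := fun e he => by
    rw [← hx]
    exact mem_map_of_mem _ (hT' he)
  have key : ∀ e, e * e = 1 → e ≠ 1 → x * e * x⁻¹ ∈ (T : Subgroup X) → e = x⁻¹ * t * x := by
    intro e he he1 heT
    rcases huniq _ heT (by rw [show x * e * x⁻¹ * (x * e * x⁻¹) = x * (e * e) * x⁻¹ by group, he, mul_one,
      mul_inv_cancel]) with h | h
    · exact absurd (conj_eq_one_iff.1 h) he1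
    · rw [← h]; group
  rw [key c hc hc1 (hm c (mem_sup_left (mem_zpowers c))), key d hd hd1 (hm d (mem_sup_right (mem_zpowers d)))]

include hN

theorem sylow_le_Y (hT : (T : Subgroup X) ≠ ⊥) : (T : Subgroup X) ≤ Y :=
  Subgroup.le_normalizer.trans (hN T le_rfl hT)

/-- An involution of `Y` carried into `Y`. -/
theorem mem_Y_of_conj (hT : (T : Subgroup X) ≠ ⊥) {c g : X} (hc : c * c = 1) (hc1 : c ≠ 1)
    (hcY : c ∈ Y) (hgY : g⁻¹ * c * g ∈ Y) : g ∈ Y := by
  haveI : Fact (Nat.Prime 2) := ⟨Nat.prime_two⟩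
  let TY : Sylow 2 Y := T.subtype (sylow_le_Y hN hT)
  have hconj : ∀ e : X, e * e = 1 → e ∈ Y → ∃ y ∈ Y, y * e * y⁻¹ ∈ (T : Subgroup X) := by
    intro e he heY
    obtain ⟨y, hy⟩ := FusSys.exists_conj_mem_sylow (isPGroup_zpowers_sq (c := (⟨e, heY⟩ : Y)) (Subtype.ext he)) TY
    exact ⟨y, y.2, hy _ (mem_zpowers _)⟩
  have hc' : g⁻¹ * c * g * (g⁻¹ * c * g) = 1 := by
    rw [show g⁻¹ * c * g * (g⁻¹ * c * g) = g⁻¹ * (c * c) * g by group, hc, mul_one, inv_mul_cancel]
  obtain ⟨y, hy, hyT⟩ := hconj c hc hcY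
  obtain ⟨y', hy', hyT'⟩ := hconj _ hc' hgY
  have hz : y' * g⁻¹ * y⁻¹ ∈ Y := by
    refine FusSys.mem_of_normalizers_le T hN (zpowers (y * c * y⁻¹)) _ (zpowers_le.2 hyT) ?_ ?_
    · rw [Ne, zpowers_eq_bot, conj_eq_one_iff]; exact hc1
    · rintro _ ⟨k, rfl⟩
      simp only
      rw [← conj_zpow]
      refine zpow_mem ?_ k
      convert hyT' using 1
      group
  have h := Y.inv_mem (Y.mul_mem (Y.mul_mem (Y.inv_mem hy') hz) hy)
  rwa [show y'⁻¹ * (y' * g⁻¹ * y⁻¹) * y = g⁻¹ by group, inv_inv] at h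

/-- An involution of `T` and an involution outside `Y` have a product of order not dividing four. -/
theorem pow_four_ne (hT : (T : Subgroup X) ≠ ⊥) {t s : X} (ht : t * t = 1) (ht1 : t ≠ 1)
    (htT : t ∈ (T : Subgroup X)) (hs : s * s = 1) (hsY : s ∉ Y) : (t * s) ^ 4 ≠ 1 := by
  intro h4
  have htY : t ∈ Y := sylow_le_Y hN hT htT
  have hti : t⁻¹ = t := inv_eq_of_mul_eq_one_right ht
  have hsi : s⁻¹ = s := inv_eq_of_mul_eq_one_right hs
  set r := t * s * (t * s) with hr
  have hrr : r * r = 1 := by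
    rw [hr, ← pow_two (t * s), ← pow_add]; exact h4
  by_cases hr1 : r = 1
  · refine hsY (mem_Y_of_conj hN hT ht ht1 htY ?_)
    have e : s⁻¹ * t * s = t := by
      calc s⁻¹ * t * s = t⁻¹ * (t * s * (t * s)) := by rw [hsi, hti, ← mul_assoc t (t * s), ← mul_assoc t t, ht]; group
        _ = t := by rw [← hr, hr1, mul_one, hti]
    rw [e]; exact htY
  · have hri : r⁻¹ = r := inv_eq_of_mul_eq_one_right hrr
    have htr : t⁻¹ * r * t = r := by
      calc t⁻¹ * r * t = s⁻¹ * t⁻¹ * s⁻¹ * t⁻¹ := by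
            rw [hr, hsi, hti, ← mul_assoc t (t * s), ← mul_assoc t t, ht, one_mul]
            simp [mul_assoc]
        _ = r⁻¹ := by rw [hr]; group
        _ = r := hri
    have hrY : r ∈ Y := mem_Y_of_conj hN hT ht ht1 htY (g := r) (by
      rw [show r⁻¹ * t * r = r⁻¹ * (t * r * t⁻¹) * t by group]
      have : t * r * t⁻¹ = r := by
        conv_lhs => rw [← htr]
        group
      rw [this, inv_mul_cancel, one_mul]; exact htY)
    refine hsY (mem_Y_of_conj hN hT hrr hr1 hrY ?_)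
    have e : s⁻¹ * r * s = r := by
      calc s⁻¹ * r * s = s⁻¹ * t * s * t * (s * s) := by rw [hr]; group
        _ = s⁻¹ * t⁻¹ * s⁻¹ * t⁻¹ := by rw [hs, mul_one, hsi, hti]
        _ = r⁻¹ := by rw [hr]; group
        _ = r := hri
    rw [e]; exact hrY

/-- The structure of such a group. -/
theorem transvection_pair {A : Type v} [Group A] [Finite A] (hexp : ∀ v : A, v * v = 1) (hA : Nat.card A ≤ 8)
    (ρ : X →* MulAut A) (hρ : Function.Injective ρ) (hY : Y ≠ ⊤) (hT : (T : Subgroup X) ≠ ⊥) :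
    ∃ t θ : X, t ∈ (T : Subgroup X) ∧ t * t = 1 ∧ (∀ γ ∈ (T : Subgroup X), γ = 1 ∨ γ = t) ∧
      θ ^ 3 = 1 ∧ θ ≠ 1 ∧ t * θ * t = θ⁻¹ ∧
      ∃ a b : A, a ≠ 1 ∧ b ≠ 1 ∧ a ≠ b ∧ ρ t a = a ∧ ρ t b = b * a ∧ ρ θ a = b ∧ ρ θ b = a * b ∧
        ∀ v, ρ θ v = v ∨ ρ θ v = v * a ∨ ρ θ v = v * b ∨ ρ θ v = v * (a * b) := by
  haveI : Fact (Nat.Prime 2) := ⟨Nat.prime_two⟩
  have hc := exp_comm hexp
  have hcentre : ∀ σ : X, σ * σ = 1 → σ ≠ 1 → ∃ a : A, a ≠ 1 ∧ ρ σ a = a ∧
      (∀ v, ρ σ v = v ∨ ρ σ v = v * a) ∧ ∃ v, ρ σ v = v * a := fun σ h2 h1 =>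
    exists_centre hexp hA (ρ σ) (by rw [← map_mul, h2, map_one]) fun e => h1 (hρ (by rw [e, map_one]))
  -- two involutions with product of order not dividing four move each other's centres
  have hpair : ∀ {t s : X} {a b : A}, (t * s) ^ 4 ≠ 1 → s * s = 1 → t * t = 1 →
      (∀ v, ρ t v = v ∨ ρ t v = v * a) → ρ t a = a → (∀ v, ρ s v = v ∨ ρ s v = v * b) → ρ s b = b →
      ρ t b = b * a ∧ ρ s a = a * b := by
    intro t s a b h4 hss htt ht hta hs hsb
    refine ⟨(ht b).resolve_left fun e => h4 (hρ ?_), (hs a).resolve_left fun e => h4 ?_⟩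
    · rw [map_pow, map_mul, map_one]
      exact pow_four hexp ht hta hs hsb e
    · have h1 : (s * t) ^ 4 = 1 := hρ (by
        rw [map_pow, map_mul, map_one]
        exact pow_four hexp hs hsb ht hta e)
      have h2 : t * s = (s * t)⁻¹ := by
        rw [mul_inv_rev, inv_eq_of_mul_eq_one_right hss, inv_eq_of_mul_eq_one_right htt]
      rw [h2, inv_pow, h1, inv_one]
  -- a central involution of the Sylow subgroup
  haveI : Nontrivial T := (nontrivial_iff_ne_bot _).2 hT
  haveI := T.2.center_nontrivial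
  obtain ⟨z, hz⟩ := exists_ne (1 : center T)
  obtain ⟨k, hk⟩ := IsPGroup.iff_orderOf.1 T.2 (z : T)
  obtain ⟨l, rfl⟩ : ∃ l, k = l + 1 := ⟨k - 1, by
    rcases k with _ | k
    · exact absurd (orderOf_eq_one_iff.1 hk) fun e => hz (Subtype.ext e)
    · rfl⟩
  set t : X := (((z : T) ^ 2 ^ l : T) : X) with htdef
  have htT : t ∈ (T : Subgroup X) := SetLike.coe_mem _
  have htt : t * t = 1 := by
    rw [htdef, ← Subgroup.coe_mul, ← pow_add, ← two_mul, ← pow_succ', ← hk, pow_orderOf_eq_one,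
      OneMemClass.coe_one]
  have ht1 : t ≠ 1 := fun e => by
    have h := Nat.le_of_dvd (by positivity) (orderOf_dvd_of_pow_eq_one (Subtype.ext e : (z : T) ^ 2 ^ l = 1))
    rw [hk] at h
    exact absurd h (Nat.not_le.2 (Nat.pow_lt_pow_right (by norm_num) (Nat.lt_succ_self l)))
  have hcent : ∀ γ ∈ (T : Subgroup X), γ * t = t * γ := fun γ hγ => by
    have h : (⟨γ, hγ⟩ : T) * (z : T) = (z : T) * ⟨γ, hγ⟩ := mem_center_iff.1 z.2 _
    exact congrArg Subtype.val ((show Commute (⟨γ, hγ⟩ : T) (z : T) from h).pow_right (2 ^ l)).eq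
  have htY := sylow_le_Y hN hT htT
  obtain ⟨x, hx⟩ : ∃ x, x ∉ Y := by
    by_contra! h
    exact hY (eq_top_iff.2 fun x _ => h x)
  set s := x * t * x⁻¹ with hs
  have hss : s * s = 1 := by rw [hs, show x * t * x⁻¹ * (x * t * x⁻¹) = x * (t * t) * x⁻¹ by group, htt,
    mul_one, mul_inv_cancel]
  have hsY : s ∉ Y := fun h => hx (by
    have := mem_Y_of_conj hN hT htt ht1 htY (g := x⁻¹) (by rw [inv_inv]; exact h)
    simpa using inv_mem this)
  have hs1 : s ≠ 1 := fun e => hsY (e ▸ one_mem Y)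
  obtain ⟨b, hb1, hsb, hs', -⟩ := hcentre s hss hs1
  obtain ⟨a, ha1, hta, ht', -⟩ := hcentre t htt ht1
  have hne4 : ∀ {γ : X}, γ ∈ (T : Subgroup X) → γ * γ = 1 → γ ≠ 1 → (γ * s) ^ 4 ≠ 1 := fun hγ h2 h1 =>
    pow_four_ne hN hT h2 h1 hγ hss hsY
  obtain ⟨htb, hsa⟩ := hpair (hne4 htT htt ht1) hss htt ht' hta hs' hsb
  -- the involution is unique
  have four : ∀ {t₁ t₂ : X} {a₁ a₂ : A}, t₁ ∈ (T : Subgroup X) → t₂ ∈ (T : Subgroup X) →
      t₁ * t₁ = 1 → t₂ * t₂ = 1 → t₁ * t₂ = t₂ * t₁ → t₁ ≠ 1 → t₂ ≠ 1 → t₁ ≠ t₂ →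
      (∀ v, ρ t₁ v = v ∨ ρ t₁ v = v * a₁) → ρ t₁ a₁ = a₁ → (∀ v, ρ t₂ v = v ∨ ρ t₂ v = v * a₂) →
      ρ t₂ a₂ = a₂ → ρ t₁ a₂ = a₂ → False := by
    intro t₁ t₂ a₁ a₂ h1T h2T h11 h22 h12 hn1 hn2 hn h1v h1a h2v h2a hfix
    obtain ⟨h1b, hs1a⟩ := hpair (hne4 h1T h11 hn1) hss h11 h1v h1a hs' hsb
    obtain ⟨h2b, hs2a⟩ := hpair (hne4 h2T h22 hn2) hss h22 h2v h2a hs' hsb
    have h33 : t₁ * t₂ * (t₁ * t₂) = 1 := by
      rw [mul_assoc, ← mul_assoc t₂, ← h12, mul_assoc, h22, mul_one, h11]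
    have hn3 : t₁ * t₂ ≠ 1 := fun e => hn (by
      calc t₁ = t₁ * (t₂ * t₂) := by rw [h22, mul_one]
        _ = t₂ := by rw [← mul_assoc, e, one_mul])
    obtain ⟨a₃, -, h3a, h3v, -⟩ := hcentre _ h33 hn3
    obtain ⟨h3b, hs3a⟩ := hpair (hne4 (mul_mem h1T h2T) h33 hn3) hss h33 h3v h3a hs' hsb
    rw [map_mul, MulAut.mul_apply, h2b, map_mul, h1b, hfix, mul_assoc] at h3b
    rw [← mul_left_cancel h3b, map_mul, hs1a, hs2a] at hs3a
    have : a₁ * a₂ = a₁ * a₂ * b := by
      rw [← hs3a, mul_assoc, ← mul_assoc b, hc b a₂, mul_assoc a₂, hexp, mul_one]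
    exact hb1 (mul_left_cancel (this.symm.trans (mul_one _).symm))
  have huniq : ∀ γ ∈ (T : Subgroup X), γ * γ = 1 → γ = 1 ∨ γ = t := by
    intro γ hγ hγ2
    by_contra hno
    push Not at hno
    obtain ⟨a₂, -, h2a, h2v, -⟩ := hcentre γ hγ2 hno.1
    rcases ht' a₂ with e | e
    · exact four htT hγ htt hγ2 (hcent γ hγ).symm ht1 hno.1 hno.2.symm ht' hta h2v h2a e
    · rcases h2v a with e' | e'
      · exact four hγ htT hγ2 htt (hcent γ hγ) hno.1 ht1 hno.2 h2v h2a ht' hta e'
      · refine ha1 ?_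
        have h := congrArg (fun g : X => ρ g a) (hcent γ hγ)
        simp only [map_mul, MulAut.mul_apply] at h
        rw [hta, e', map_mul, hta, e, ← mul_assoc, hc a a₂, mul_assoc, hexp, mul_one] at h
        exact mul_left_cancel (h.trans (mul_one a₂).symm)
  have hne4' : ∀ {c d : X}, c * c = 1 → d * d = 1 → c ≠ 1 → d ≠ 1 → c ≠ d → (c * d) ^ 4 ≠ 1 := by
    intro c d hcc hdd hc1 hd1 hcd h4
    have hci : c⁻¹ = c := inv_eq_of_mul_eq_one_right hcc
    have hdi : d⁻¹ = d := inv_eq_of_mul_eq_one_right hdd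
    set r := c * d * (c * d) with hr
    have hrr : r * r = 1 := by rw [hr, ← pow_two (c * d), ← pow_add]; exact h4
    by_cases hr1 : r = 1
    · refine hcd (commuting_involutions_eq huniq hcc hdd hc1 hd1 ?_)
      calc c * d = (c * d)⁻¹ := (inv_eq_of_mul_eq_one_right hr1).symm
        _ = d * c := by rw [mul_inv_rev, hci, hdi]
    · have hrc : c * r = r * c := by
        calc c * r = c * c * d * (c * d) := by rw [hr]; group
          _ = d * c * d := by rw [hcc, one_mul, mul_assoc]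
          _ = r⁻¹ * c := by rw [hr, mul_inv_rev, mul_inv_rev, hci, hdi]; simp [mul_assoc, hcc]
          _ = r * c := by rw [inv_eq_of_mul_eq_one_right hrr]
      have e := commuting_involutions_eq huniq hcc hrr hc1 hr1 hrc
      have h1 : d * c * d = 1 := by
        calc d * c * d = c * (c * d * (c * d)) := by rw [← mul_assoc c (c * d), ← mul_assoc c c, hcc]; group
          _ = 1 := by rw [← hr, ← e, hcc]
      have : c = 1 := by
        calc c = d * (d * c * d) * d := by rw [← mul_assoc d (d * c), ← mul_assoc d d, hdd, one_mul, mul_assoc, hdd, mul_one]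
          _ = 1 := by rw [h1, mul_one, hdd]
      exact hc1 this
  have hTt : ∀ γ ∈ (T : Subgroup X), γ = 1 ∨ γ = t := by
    intro γ hγ
    by_contra hno
    push Not at hno
    obtain ⟨m, hm⟩ := IsPGroup.iff_orderOf.1 T.2 ⟨γ, hγ⟩
    rw [Subgroup.orderOf_mk] at hm
    obtain ⟨n, rfl⟩ : ∃ n, m = n + 2 := by
      rcases m with _ | _ | m
      · exact absurd (orderOf_eq_one_iff.1 hm) hno.1
      · rcases huniq γ hγ (by rw [← pow_two, ← orderOf_dvd_iff_pow_eq_one, hm]; norm_num) with h | h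
        exacts [absurd h hno.1, absurd h hno.2]
      · exact ⟨m, rfl⟩
    set c := γ ^ 2 ^ n with hcdef
    have hcT : c ∈ (T : Subgroup X) := pow_mem hγ _
    have hcc : c * c = t := by
      have h4 : c * c * (c * c) = 1 := by
        rw [hcdef, ← pow_add, ← pow_add, ← orderOf_dvd_iff_pow_eq_one, hm]
        exact ⟨1, by ring⟩
      refine (huniq _ (mul_mem hcT hcT) h4).resolve_left fun e => ?_
      rw [hcdef, ← pow_add, ← orderOf_dvd_iff_pow_eq_one, hm] at e
      have := Nat.le_of_dvd (by positivity) e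
      rw [pow_add] at this
      have := Nat.two_pow_pos n
      omega
    have hca : ρ c a = a := by
      obtain ⟨a', ha', -, -, v, hv⟩ := hcentre t htt ht1
      have hav : a' = a := ((ht' v).resolve_left fun e => ha' (by
        rw [e] at hv; exact (left_eq_mul.1 hv))).symm.trans hv |> fun h => (mul_left_cancel h).symm
      subst hav
      have h := congrArg (fun g : X => ρ g v) (hcent c hcT)
      simp only [map_mul, MulAut.mul_apply] at h
      rw [hv, map_mul] at h
      rcases ht' (ρ c v) with e | e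
      · rw [e, mul_eq_left] at h
        exact absurd ((map_eq_one_iff (ρ c) (ρ c).injective).1 h) ha1
      · rw [e] at h
        exact mul_left_cancel h
    set s₂ := c * s * c⁻¹ with hs2
    have hs22 : s₂ * s₂ = 1 := by
      rw [hs2, show c * s * c⁻¹ * (c * s * c⁻¹) = c * (s * s) * c⁻¹ by group, hss, mul_one, mul_inv_cancel]
    have hs21 : s₂ ≠ 1 := fun e => hs1 (conj_eq_one_iff.1 e)
    have hs2ne : s ≠ s₂ := fun e => by
      have hcom : Commute c s := by
        show c * s = s * c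
        nth_rewrite 2 [e]
        rw [hs2]; group
      have hts : Commute t s := by rw [← hcc]; exact hcom.mul_left hcom
      refine hne4 htT htt ht1 ?_
      rw [hts.mul_pow, show (4 : ℕ) = 2 * 2 from rfl, pow_mul, pow_mul, pow_two t, pow_two s, htt, hss]
      simp
    have hs2' : ∀ v, ρ s₂ v = v ∨ ρ s₂ v = v * ρ c b := fun v => by
      have e : ρ s₂ v = ρ c (ρ s ((ρ c).symm v)) := by
        rw [hs2, map_mul, map_mul, map_inv]; rfl
      rw [e]
      rcases hs' ((ρ c).symm v) with h | h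
      · exact Or.inl (by rw [h]; simp)
      · exact Or.inr (by rw [h, map_mul]; simp)
    have hs2b : ρ s₂ (ρ c b) = ρ c b := by
      rw [hs2, map_mul, map_mul, map_inv]
      show ρ c (ρ s ((ρ c).symm (ρ c b))) = _
      rw [MulEquiv.symm_apply_apply, hsb]
    obtain ⟨hsc, hs2c⟩ := hpair (hne4' hss hs22 hs1 hs21 hs2ne) hs22 hss hs' hsb hs2' hs2b
    -- `c b = b d`, `t b = b a`
    have hcb : ρ c (ρ c b) = b * a := by rw [← MulAut.mul_apply, ← map_mul, hcc, htb]
    set d := b * ρ c b with hd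
    have hcbd : ρ c b = b * d := by rw [hd, ← mul_assoc, hexp, one_mul]
    have hsd : ρ s d = d * b := by rw [hd, map_mul, hsb, hsc, ← mul_assoc]
    have hcd : ρ c d = d * a := by
      conv_lhs => rw [hd]
      rw [map_mul, hcb, hcbd, hc b d, mul_assoc, ← mul_assoc b, hexp, one_mul]
    have hbad : ρ c (b * d * a) = b := by
      rw [map_mul, map_mul, hca, hcbd, hcd]
      simp only [mul_assoc]
      rw [hexp, mul_one, hexp, mul_one]
    have hfix : ρ s₂ b = b := by
      rw [hs2, map_mul, map_mul, map_inv]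
      show ρ c (ρ s ((ρ c).symm b)) = b
      rw [show (ρ c).symm b = b * d * a from (ρ c).injective (by rw [MulEquiv.apply_symm_apply, hbad]),
        map_mul (ρ s), map_mul (ρ s), hsb, hsd, hsa,
        show b * (d * b) * (a * b) = b * d * a by
          rw [hc a b, ← mul_assoc, ← mul_assoc b d b, mul_assoc (b * d) b b, hexp, mul_one]]
      exact hbad
    rw [hfix, left_eq_mul, map_eq_one_iff _ (ρ c).injective] at hs2c
    exact hb1 hs2c
  set θ := t * s with hθ
  have hti : t⁻¹ = t := inv_eq_of_mul_eq_one_right htt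
  have hsi : s⁻¹ = s := inv_eq_of_mul_eq_one_right hss
  have hab : a ≠ b := fun e => by
    rw [e] at hsa
    rw [hsb, hexp] at hsa
    exact hb1 hsa
  have hθa : ρ θ a = b := by
    rw [hθ, map_mul, MulAut.mul_apply, hsa, map_mul, hta, htb, hc b a, ← mul_assoc, hexp, one_mul]
  have hθb : ρ θ b = a * b := by rw [hθ, map_mul, MulAut.mul_apply, hsb, htb, hc]
  have hθab : ρ θ (a * b) = a := by rw [map_mul, hθa, hθb, hc a b, ← mul_assoc, hexp, one_mul]
  have hθv : ∀ v, ρ θ v = v ∨ ρ θ v = v * a ∨ ρ θ v = v * b ∨ ρ θ v = v * (a * b) := by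
    intro v
    rcases hs' v with h | h <;> rcases ht' v with h' | h'
    · exact Or.inl (by rw [hθ, map_mul, MulAut.mul_apply, h, h'])
    · exact Or.inr (Or.inl (by rw [hθ, map_mul, MulAut.mul_apply, h, h']))
    · exact Or.inr (Or.inr (Or.inr (by rw [hθ, map_mul, MulAut.mul_apply, h, map_mul, h', htb, hc b a])))
    · refine Or.inr (Or.inr (Or.inl ?_))
      rw [hθ, map_mul, MulAut.mul_apply, h, map_mul, h', htb, hc b a, mul_assoc, ← mul_assoc a, hexp, one_mul]
  refine ⟨t, θ, htT, htt, hTt, hρ (MulEquiv.ext fun v => ?_), fun e => hab ?_, ?_,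
    a, b, ha1, hb1, hab, hta, htb, hθa, hθb, hθv⟩
  · rw [map_pow, map_one, pow_succ, pow_two, MulAut.mul_apply, MulAut.mul_apply, MulAut.one_apply]
    generalize ρ θ = σ at hθa hθb hθab hθv ⊢
    rcases hθv v with h | h | h | h
    · rw [h, h, h]
    · rw [h, map_mul, map_mul, h, map_mul, h, hθa, hθb, mul_assoc (v * a) b, mul_assoc v a, hc b (a * b),
        mul_assoc a b b, hexp, mul_one, hexp, mul_one]
    · rw [h, map_mul, map_mul, h, map_mul, h, hθb, hθab, mul_assoc (v * b), mul_assoc v b, mul_assoc a b a,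
        hc b a, ← mul_assoc a a b, hexp, one_mul, hexp, mul_one]
    · rw [h, map_mul, map_mul, h, map_mul, h, hθab, hθa, mul_assoc (v * (a * b)) a b, mul_assoc v,
        hexp, mul_one]
  · rw [← hθa, e, map_one, MulAut.one_apply]
  · rw [hθ, mul_inv_rev, hti, hsi, ← mul_assoc t t s, htt, one_mul]

end Cfsg.Agent.Bicyclic
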