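import Cfsg.Agent.Bicyclic.Fpf
import Cfsg.Agent.Bicyclic.Transvection
import Cfsg.Agent.Coprime.Basic
import Cfsg.Agent.FusSys.MetaTwo
import Cfsg.Agent.MaxClass.Class

/-!
Finite 2-groups with a full automorphism of order three whose Frattini subgroup has only two-generated
subgroups: homocyclic of rank two, or quaternion of order eight.
-/

set_option autoImplicit false

open Subgroup
open scoped commutatorElement

namespace Cfsg.Agent.Bicyclic

universe u

variable {K : Type u} [Group K]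

/-- Homocyclic of rank two and exponent `2 ^ r`, with fixed-point-free `α`. -/
structure Homo (α : MulAut K) (r : ℕ) : Prop where
  one_le : 1 ≤ r
  comm : ∀ x y : K, x * y = y * x
  card : Nat.card K = 2 ^ r * 2 ^ r
  exp : ∀ k : K, k ^ 2 ^ r = 1
  omega : ∀ k : K, k * k = 1 → ∃ m, m ^ 2 ^ (r - 1) = k
  ker : ∀ k : K, k ^ 2 ^ (r - 1) = 1 → k ∈ frattini K
  four : ∃ W : Subgroup K, Nat.card W = 4 ∧ ∀ k, k ∈ W ↔ k * k = 1
  fix : ∀ k : K, α k = k → k = 1

/-- The facts about the quaternion group of order eight. -/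
structure Quat (K : Type u) [Group K] (z : K) : Prop where
  card : Nat.card K = 8
  ne : z ≠ 1
  sq : z * z = 1
  mem : z ∈ frattini K
  frattini_cases : ∀ k ∈ frattini K, k = 1 ∨ k = z
  sq_out : ∀ k : K, k ∉ frattini K → k * k = z
  central : ∀ k : K, k * z = z * k
  center_le : ∀ k : K, (∀ x, k * x = x * k) → k ∈ frattini K

theorem quat_of_equiv [Finite K] (hK : IsPGroup 2 K) (e : K ≃* QuaternionGroup 2) :
    ∃ z : K, Quat K z := by
  set z := e.symm (QuaternionGroup.a 2) with hz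
  have h1 : ∀ q : QuaternionGroup 2, q * q = 1 ∨ q * q = QuaternionGroup.a 2 := by decide
  have h2 : ∀ q : QuaternionGroup 2, q = 1 ∨ q = QuaternionGroup.a 2 ∨ q * q = QuaternionGroup.a 2 := by decide
  have h3 : ∀ q : QuaternionGroup 2, q * QuaternionGroup.a 2 = QuaternionGroup.a 2 * q := by decide
  have h4 : ∀ q : QuaternionGroup 2, (∀ x, q * x = x * q) → q = 1 ∨ q = QuaternionGroup.a 2 := by decide
  have hne : z ≠ 1 := fun h => by
    have h' : (QuaternionGroup.a 2 : QuaternionGroup 2) = 1 := e.symm.injective (h.trans (map_one e.symm).symm)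
    revert h'; decide
  have hzz : z * z = 1 := by
    rw [hz, ← map_mul, show (QuaternionGroup.a 2 : QuaternionGroup 2) * QuaternionGroup.a 2 = 1 by decide,
      map_one]
  have hmem : z ∈ frattini K := by
    have h : z = e.symm (QuaternionGroup.a 1) * e.symm (QuaternionGroup.a 1) := by
      rw [← map_mul, hz]; congr 1
    rw [h]; exact sq_mem_frattini hK _
  have hfr : ∀ k ∈ frattini K, k = 1 ∨ k = z := by
    intro k hk
    have hle : frattini K ≤ zpowers z := frattini_le_of_sq hK _ fun g => by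
      rcases h1 (e g) with h | h <;> rw [← map_mul] at h
      · rw [(map_eq_one_iff e e.injective).1 h]; exact one_mem _
      · rw [show g * g = z from e.injective (by rw [h, hz, MulEquiv.apply_symm_apply])]; exact mem_zpowers z
    obtain ⟨i, rfl⟩ := mem_zpowers_iff.1 (hle hk)
    rcases Int.even_or_odd i with ⟨s, rfl⟩ | ⟨s, rfl⟩
    · left; rw [← two_mul, zpow_mul, zpow_two, hzz, one_zpow]
    · right; rw [zpow_add, zpow_one, zpow_mul, zpow_two, hzz, one_zpow, one_mul]
  refine ⟨z, ?_, hne, hzz, hmem, hfr, fun k hk => ?_, fun k => ?_, fun k hk => ?_⟩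
  · rw [Nat.card_congr e.toEquiv, Nat.card_eq_fintype_card, QuaternionGroup.card]
  · rcases h2 (e k) with h | h | h
    · exact absurd ((map_eq_one_iff e e.injective).1 h ▸ one_mem _) hk
    · exact absurd ((show k = z by rw [hz, ← h, MulEquiv.symm_apply_apply]) ▸ hmem) hk
    · apply e.injective; rw [map_mul, h, hz, MulEquiv.apply_symm_apply]
  · apply e.injective; rw [map_mul, map_mul, hz, MulEquiv.apply_symm_apply]; exact h3 _
  · rcases h4 (e k) (fun x => by
      have := congrArg e (hk (e.symm x))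
      rwa [map_mul, map_mul, MulEquiv.apply_symm_apply] at this) with h | h
    · rw [(map_eq_one_iff e e.injective).1 h]; exact one_mem _
    · rw [show k = z by rw [hz, ← h, MulEquiv.symm_apply_apply]]; exact hmem

theorem isMetacyclic_of_mc {S : Type u} [Group S] [Finite S] (h : MaxClass.MC S) : Cfsg.IsMetacyclic S := by
  obtain ⟨m, a, b, u, -, -, -, hi, -⟩ := h.data
  haveI := normal_of_index_eq_two hi
  haveI : Fact (Nat.Prime 2) := ⟨Nat.prime_two⟩
  exact ⟨zpowers a, inferInstance, inferInstance,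
    isCyclic_of_prime_card (p := 2) (by rw [← index_eq_card, hi])⟩

variable [Finite K] (hK : IsPGroup 2 K) {α : MulAut K} (hf : Full α) (h3 : α ^ 3 = 1)
include hK hf h3

theorem fixed_mod_frattini {x : K} (hx : x⁻¹ * α x ∈ frattini K) : x ∈ frattini K := by
  rw [← QuotientGroup.eq_one_iff]
  have hm := map_eq_of_char α (frattini K) (hN := frattini_characteristic)
  refine (hf.quotient (frattini K) hm).fixed_eq_one (hK.to_quotient _) ?_ (qAut_cube h3 _ hm) ?_
  · refine exp_comm fun q => ?_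
    obtain ⟨k, rfl⟩ := QuotientGroup.mk_surjective q
    rw [← QuotientGroup.mk_mul, QuotientGroup.eq_one_iff]
    exact sq_mem_frattini hK k
  · rw [qAut_mk, eq_comm, QuotientGroup.eq]
    exact hx

theorem exists_gen (hne : Nontrivial K) (h4 : (frattini K).index ≤ 4) :
    ∃ a : K, closure ({a, α a} : Set K) = ⊤ := by
  obtain ⟨a, ha⟩ : ∃ a, a ∉ frattini K := by
    by_contra! h
    have := Core.eq_top_of_sup_frattini (le_rfl : frattini K ≤ frattini K) (K := (⊥ : Subgroup K))
      (by rw [bot_sup_eq]; exact eq_top_iff.2 fun x _ => h x)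
    exact bot_ne_top this
  set A := zpowers a ⊔ frattini K with hA
  set X := closure ({a, α a} : Set K) ⊔ frattini K with hX
  have hAX : A ≤ X := sup_le_sup_right (zpowers_le.2 (subset_closure (by simp))) _
  have hαA : α a ∉ A := by
    intro h
    obtain ⟨y, hy, f, hf', hyf⟩ := mem_sup_of_normal_right.1 h
    obtain ⟨i, rfl⟩ := mem_zpowers_iff.1 hy
    rcases Int.even_or_odd i with ⟨s, rfl⟩ | ⟨s, rfl⟩
    · have hαΦ : α a ∈ frattini K := hyf ▸ mul_mem (by
        rw [← two_mul, zpow_mul, zpow_two]; exact zpow_sq_mem_frattini hK a s) hf'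
      refine ha ?_
      have hm := map_eq_of_char α (frattini K) (hN := frattini_characteristic)
      rw [← hm] at hαΦ
      obtain ⟨w, hw, hwa⟩ := hαΦ
      exact α.injective hwa ▸ hw
    · refine ha (fixed_mod_frattini hK hf h3 ?_)
      rw [← hyf, ← mul_assoc]
      refine mul_mem ?_ hf'
      rw [← zpow_neg_one, ← zpow_add, show -1 + (2 * s + 1) = 2 * s by ring, zpow_mul, zpow_two]
      exact zpow_sq_mem_frattini hK a s
  refine ⟨a, Core.eq_top_of_sup_frattini (le_rfl : frattini K ≤ frattini K) ?_⟩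
  have h1 : (frattini K).relIndex A * A.index = (frattini K).index := relIndex_mul_index le_sup_right
  have h2 := relIndex_mul_index hAX
  rw [← h2] at h1
  have h5 : (frattini K).relIndex A ≠ 1 := fun e => ha (relIndex_eq_one.1 e (mem_sup_left (mem_zpowers a)))
  have h6 : A.relIndex X ≠ 1 := fun e => hαA (relIndex_eq_one.1 e (mem_sup_left (subset_closure (by simp))))
  have p1 : 0 < (frattini K).relIndex A := Nat.pos_of_ne_zero (by simp [Subgroup.relIndex, index_ne_zero_of_finite])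
  have p2 : 0 < A.relIndex X := Nat.pos_of_ne_zero (by simp [Subgroup.relIndex, index_ne_zero_of_finite])
  have p3 : 0 < X.index := Nat.pos_of_ne_zero index_ne_zero_of_finite
  show X = ⊤
  rw [← index_eq_one]
  by_contra hne1
  have : 2 * (2 * 2) ≤ (frattini K).relIndex A * (A.relIndex X * X.index) :=
    Nat.mul_le_mul (by omega) (Nat.mul_le_mul (by omega) (by omega))
  omega

/-- An abelian group generated by a pair permuted by a full automorphism is homocyclic. -/
theorem homo_of_gen (hne : Nontrivial K) (hc : ∀ x y : K, x * y = y * x) {a : K}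
    (ha : closure ({a, α a} : Set K) = ⊤) :
    ∃ r, Homo α r ∧ ∀ i j : ℤ, (a ^ 2 ^ (r - 1)) ^ i * (α a ^ 2 ^ (r - 1)) ^ j = 1 → 2 ∣ i ∧ 2 ∣ j := by
  have hcov : ∀ k : K, ∃ i j : ℤ, k = a ^ i * α a ^ j := by
    intro k
    have hk : k ∈ closure ({a, α a} : Set K) := ha ▸ mem_top k
    induction hk using closure_induction with
    | mem y hy =>
      rcases hy with rfl | rfl
      · exact ⟨1, 0, by simp⟩
      · exact ⟨0, 1, by simp⟩
    | one => exact ⟨0, 0, by simp⟩
    | mul y z _ _ ihy ihz =>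
      obtain ⟨i, j, rfl⟩ := ihy
      obtain ⟨i', j', rfl⟩ := ihz
      refine ⟨i + i', j + j', ?_⟩
      rw [zpow_add, zpow_add, mul_assoc, ← mul_assoc (α a ^ j), hc (α a ^ j), mul_assoc, ← mul_assoc]
    | inv y _ ih =>
      obtain ⟨i, j, rfl⟩ := ih
      exact ⟨-i, -j, by rw [mul_inv_rev, zpow_neg, zpow_neg, hc]⟩
  have ha1 : a ≠ 1 := fun e => by
    have : (⊤ : Subgroup K) ≤ ⊥ := ha ▸ (closure_le _).2 (by rintro y (rfl | rfl) <;> simp [e])
    exact bot_ne_top (le_antisymm bot_le this)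
  obtain ⟨r, hr⟩ := exists_two_pow hK a
  obtain ⟨s, rfl⟩ : ∃ s, r = s + 1 := ⟨r - 1, by
    rcases r with _ | r
    · exact absurd (orderOf_eq_one_iff.1 hr) ha1
    · rfl⟩
  set n := 2 ^ s with hn
  have hexp : ∀ k : K, k ^ 2 ^ (s + 1) = 1 := by
    intro k
    obtain ⟨i, j, rfl⟩ := hcov k
    rw [(show Commute (a ^ i) (α a ^ j) from hc _ _).mul_pow, ← zpow_natCast, ← zpow_mul, mul_comm, zpow_mul,
      zpow_natCast, ← hr, pow_orderOf_eq_one, one_zpow, one_mul, ← zpow_natCast, ← zpow_mul, mul_comm,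
      zpow_mul, zpow_natCast, ← map_pow, pow_orderOf_eq_one, map_one, one_zpow]
  set x := a ^ n with hx
  set y := α a ^ n with hy
  have hx1 : x ≠ 1 := fun e => by
    have := Nat.le_of_dvd (by positivity) (orderOf_dvd_of_pow_eq_one e)
    rw [hr, hn] at this
    exact absurd this (Nat.not_le.2 (Nat.pow_lt_pow_right (by norm_num) (Nat.lt_succ_self s)))
  have hxy : α x = y := map_pow α a n
  have hy1 : y ≠ 1 := fun e => hx1 (α.injective (by rw [hxy, e, map_one]))
  have hsq : ∀ k : K, (k ^ n) * (k ^ n) = 1 := fun k => by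
    rw [← pow_add, ← two_mul, hn, ← pow_succ']; exact hexp k
  have hne2 : x * y ≠ 1 := fun e => by
    have hyx : y = x := by
      calc y = x * x * y := by rw [hx, hsq, one_mul]
        _ = x := by rw [mul_assoc, e, mul_one]
    exact hx1 (hf.fixed_eq_one hK hc h3 (hxy.trans hyx))
  have hz : ∀ (w : K), w * w = 1 → ∀ i : ℤ, (2 ∣ i ∧ w ^ i = 1) ∨ (¬ 2 ∣ i ∧ w ^ i = w) := by
    intro w hw i
    rcases Int.even_or_odd i with ⟨t, rfl⟩ | ⟨t, rfl⟩
    · exact Or.inl ⟨⟨t, by ring⟩, by rw [← two_mul, zpow_mul, zpow_two, hw, one_zpow]⟩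
    · exact Or.inr ⟨by omega, by rw [zpow_add, zpow_one, zpow_mul, zpow_two, hw, one_zpow, one_mul]⟩
  have hind : ∀ i j : ℤ, x ^ i * y ^ j = 1 → 2 ∣ i ∧ 2 ∣ j := by
    intro i j h
    rcases hz x (hsq a) i with ⟨hi, e⟩ | ⟨hi, e⟩ <;> rcases hz y (hsq (α a)) j with ⟨hj, e'⟩ | ⟨hj, e'⟩ <;>
      rw [e, e'] at h
    · exact ⟨hi, hj⟩
    · exact absurd (by simpa using h) hy1
    · exact absurd (by simpa using h) hx1
    · exact absurd h hne2
  have hpz : ∀ (w : K) (l : ℤ), (w ^ l) ^ n = (w ^ n) ^ l := fun w l => by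
    rw [← zpow_natCast, ← zpow_natCast w n, ← zpow_mul, ← zpow_mul, mul_comm]
  -- independence
  have hdvd : ∀ i j : ℤ, a ^ i * α a ^ j = 1 → ∀ m, m ≤ s + 1 → (2 : ℤ) ^ m ∣ i ∧ (2 : ℤ) ^ m ∣ j := by
    intro i j h m
    induction m with
    | zero => intro _; simp
    | succ m ih =>
      intro hm
      obtain ⟨⟨i', rfl⟩, j', rfl⟩ := ih (by omega)
      obtain ⟨t, rfl⟩ : ∃ t, s = m + t := ⟨s - m, by omega⟩
      have h2 : x ^ i' * y ^ j' = 1 := by
        have h' := congrArg (fun w => w ^ (2 ^ t : ℕ)) h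
        simp only [one_pow] at h'
        rw [(show Commute (a ^ ((2:ℤ) ^ m * i')) (α a ^ ((2:ℤ) ^ m * j')) from hc _ _).mul_pow] at h'
        have e : ∀ (w : K) (l : ℤ), (w ^ ((2:ℤ) ^ m * l)) ^ (2 ^ t : ℕ) = (w ^ (2 ^ (m + t) : ℕ)) ^ l := by
          intro w l
          rw [← zpow_natCast, ← zpow_mul, ← zpow_natCast w, ← zpow_mul]
          congr 1
          push_cast
          ring
        rw [e, e] at h'
        exact h'
      obtain ⟨⟨p, rfl⟩, q, rfl⟩ := hind i' j' h2
      exact ⟨⟨p, by ring⟩, ⟨q, by ring⟩⟩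
  have hcard : Nat.card K = 2 ^ (s + 1) * 2 ^ (s + 1) := by
    have hb : orderOf (α a) = 2 ^ (s + 1) := (α.orderOf_eq a).trans hr
    refine le_antisymm ?_ ?_
    · have h := BC.card_le (a := a) (b := α a) hcov
      rwa [hr, hb] at h
    · rw [← hr, ← Nat.card_zpowers a, ← Nat.card_prod]
      refine Nat.card_le_card_of_injective (fun p : zpowers a × zpowers a => (p.1 : K) * α p.2) ?_
      rintro ⟨⟨p, hp⟩, ⟨q, hq⟩⟩ ⟨⟨p', hp'⟩, ⟨q', hq'⟩⟩ h
      obtain ⟨i, rfl⟩ := mem_zpowers_iff.1 hp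
      obtain ⟨j, rfl⟩ := mem_zpowers_iff.1 hq
      obtain ⟨i', rfl⟩ := mem_zpowers_iff.1 hp'
      obtain ⟨j', rfl⟩ := mem_zpowers_iff.1 hq'
      simp only [map_zpow] at h
      have h' : a ^ (i - i') * α a ^ (j - j') = 1 := by
        rw [zpow_sub, zpow_sub, hc (a ^ i), mul_assoc, ← mul_assoc (a ^ i), h]
        group
      obtain ⟨d1, d2⟩ := hdvd _ _ h' (s + 1) le_rfl
      have e1 : a ^ i = a ^ i' := by
        rw [← mul_inv_eq_one, ← zpow_sub, ← orderOf_dvd_iff_zpow_eq_one, hr]; exact_mod_cast d1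
      have e2 : a ^ j = a ^ j' := by
        rw [← mul_inv_eq_one, ← zpow_sub, ← orderOf_dvd_iff_zpow_eq_one, hr]; exact_mod_cast d2
      simp [e1, e2]
  have hker : ∀ k : K, k ^ n = 1 → k ∈ frattini K := by
    intro k hk
    obtain ⟨i, j, rfl⟩ := hcov k
    obtain ⟨⟨p, rfl⟩, q, rfl⟩ := hind i j (by
      rw [(show Commute (a ^ i) (α a ^ j) from hc _ _).mul_pow] at hk
      rw [hx, hy, ← hpz, ← hpz]
      exact hk)
    rw [zpow_mul, zpow_mul, zpow_two, zpow_two]
    exact mul_mem (zpow_sq_mem_frattini hK a p) (zpow_sq_mem_frattini hK (α a) q)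
  have homega : ∀ k : K, k * k = 1 → ∃ m, m ^ n = k := by
    intro k hk
    obtain ⟨i, j, rfl⟩ := hcov k
    have h' : a ^ (i + i) * α a ^ (j + j) = 1 := by
      rw [zpow_add, zpow_add]
      rw [mul_assoc, ← mul_assoc (α a ^ j), hc (α a ^ j) (a ^ i), mul_assoc, ← mul_assoc] at hk
      exact hk
    obtain ⟨⟨p, hp⟩, q, hq⟩ := hdvd _ _ h' (s + 1) le_rfl
    refine ⟨a ^ p * α a ^ q, ?_⟩
    rw [(show Commute (a ^ p) (α a ^ q) from hc _ _).mul_pow, ← zpow_natCast, ← zpow_mul, ← zpow_natCast,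
      ← zpow_mul, show i = p * (n : ℤ) by rw [hn]; push_cast [pow_succ] at hp ⊢; linarith,
      show j = q * (n : ℤ) by rw [hn]; push_cast [pow_succ] at hq ⊢; linarith]
  refine ⟨s + 1, ⟨by omega, hc, hcard, hexp, by simpa using homega, by simpa using hker, ?_,
    fun k hk => hf.fixed_eq_one hK hc h3 hk⟩, by simpa using hind⟩
  let W : Subgroup K :=
    { carrier := {k | k * k = 1}
      one_mem' := mul_one 1
      mul_mem' := fun {p q} (hp : p * p = 1) (hq : q * q = 1) => by
        show p * q * (p * q) = 1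
        rw [mul_assoc, ← mul_assoc q, hc q p, mul_assoc, ← mul_assoc, hp, hq, one_mul]
      inv_mem' := fun {p} (hp : p * p = 1) => by
        show p⁻¹ * p⁻¹ = 1
        rw [← mul_inv_rev, hp, inv_one] }
  refine ⟨W, ?_, fun k => Iff.rfl⟩
  classical
  haveI := Fintype.ofFinite W
  have hall : ∀ k : K, k * k = 1 → k = 1 ∨ k = x ∨ k = y ∨ k = x * y := by
    intro k hk
    obtain ⟨m, rfl⟩ := homega k hk
    obtain ⟨i, j, rfl⟩ := hcov m
    rw [(show Commute (a ^ i) (α a ^ j) from hc _ _).mul_pow, hpz, hpz, ← hx, ← hy]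
    rcases hz x (hsq a) i with ⟨-, e⟩ | ⟨-, e⟩ <;> rcases hz y (hsq (α a)) j with ⟨-, e'⟩ | ⟨-, e'⟩ <;>
      rw [e, e'] <;> simp
  have hxyne : x ≠ y := fun e => hne2 (by rw [← e]; exact hsq a)
  have hxW : x ∈ W := hsq a
  have hyW : y ∈ W := hsq (α a)
  have e : (Finset.univ : Finset W) = {1, ⟨x, hxW⟩, ⟨y, hyW⟩, ⟨x * y, mul_mem hxW hyW⟩} := by
    refine Finset.ext fun w => iff_of_true (Finset.mem_univ _) ?_
    rcases hall w w.2 with h | h | h | h <;> simp [Subtype.ext_iff, h]
  rw [Nat.card_eq_fintype_card, ← Finset.card_univ, e, Finset.card_insert_of_notMem,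
    Finset.card_insert_of_notMem, Finset.card_insert_of_notMem, Finset.card_singleton]
  · simp [Subtype.ext_iff, hx1]
  · simp [Subtype.ext_iff, hxyne, hy1]
  · simp [Subtype.ext_iff, Ne.symm hx1, Ne.symm hy1, Ne.symm hne2]

omit hK hf h3 in
theorem exists_descend (hK : IsPGroup 2 K) (hne : commutator K ≠ ⊥) :
    ∃ M : Subgroup K, M.Normal ∧ (∀ β : MulAut K, ∀ x ∈ M, β x ∈ M) ∧ M ≤ commutator K ∧
      M ≠ commutator K ∧ (∀ u ∈ commutator K, u * u ∈ M) ∧ ∀ u ∈ commutator K, ∀ k, ⁅u, k⁆ ∈ M := by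
  haveI : Fact (Nat.Prime 2) := ⟨Nat.prime_two⟩
  let gs : Set K := {x | ∃ u ∈ commutator K, x = u * u ∨ ∃ k, x = ⁅u, k⁆}
  have hinv : ∀ β : MulAut K, ∀ x ∈ closure gs, β x ∈ closure gs := by
    intro β x hx
    induction hx using closure_induction with
    | mem y hy =>
      obtain ⟨u, hu, hy⟩ := hy
      have hu' : β u ∈ commutator K := by
        have h := map_eq_of_char β (commutator K)
        rw [← h]; exact mem_map_of_mem _ hu
      refine subset_closure ⟨β u, hu', ?_⟩
      rcases hy with rfl | ⟨k, rfl⟩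
      · exact Or.inl (map_mul β u u)
      · exact Or.inr ⟨β k, map_commutatorElement β u k⟩
    | one => rw [map_one]; exact one_mem _
    | mul y z _ _ ihy ihz => rw [map_mul]; exact mul_mem ihy ihz
    | inv y _ ih => rw [map_inv]; exact inv_mem ih
  refine ⟨closure gs, ⟨fun x hx g => hinv (MulAut.conj g) x hx⟩, hinv, ?_, ?_, fun u hu =>
    subset_closure ⟨u, hu, Or.inl rfl⟩, fun u hu k => subset_closure ⟨u, hu, Or.inr ⟨k, rfl⟩⟩⟩
  · rw [closure_le]
    rintro _ ⟨u, hu, rfl | ⟨k, rfl⟩⟩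
    · exact mul_mem hu hu
    · rw [commutatorElement_def, mul_assoc u k, mul_assoc]
      exact mul_mem hu (Subgroup.Normal.conj_mem inferInstance _ (inv_mem hu) k)
  · intro heq
    set D := commutator K with hD
    set C := (⁅D, (⊤ : Subgroup K)⁆).subgroupOf D
    have hCD : ⁅D, (⊤ : Subgroup K)⁆ ≤ D := commutator_le_left D ⊤
    have hle : closure gs ≤ ⁅D, (⊤ : Subgroup K)⁆ ⊔ (frattini D).map D.subtype := by
      rw [closure_le]
      rintro _ ⟨u, hu, rfl | ⟨k, rfl⟩⟩
      · exact mem_sup_right ⟨_, sq_mem_frattini (hK.to_subgroup D) ⟨u, hu⟩, rfl⟩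
      · exact mem_sup_left (commutator_mem_commutator hu (mem_top k))
    have htop : C ⊔ frattini D = ⊤ := by
      apply map_injective D.subtype_injective
      rw [Subgroup.map_sup, subgroupOf_map_subtype, inf_eq_left.2 hCD, ← MonoidHom.range_eq_map, D.range_subtype]
      exact le_antisymm (sup_le hCD (map_subtype_le _)) (heq ▸ hle)
    have h := Core.eq_top_of_sup_frattini (le_rfl : frattini D ≤ frattini D) htop
    rw [subgroupOf_eq_top] at h
    haveI := hK.isNilpotent
    obtain ⟨n, hn⟩ := Subgroup.nilpotent_iff_lowerCentralSeries.1 (inferInstance : Group.IsNilpotent K)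
    have hall : ∀ i, D ≤ (⊤ : Subgroup K).lowerCentralSeries i := by
      intro i
      induction i with
      | zero => rw [Subgroup.lowerCentralSeries_zero]; exact le_top
      | succ i ih =>
        rw [Subgroup.lowerCentralSeries_succ]
        exact h.trans (commutator_mono ih le_rfl)
    exact hne (le_bot_iff.1 ((hall n).trans hn.le))

/-- The classification. -/
theorem classify_full (hne : Nontrivial K) (h4 : (frattini K).index ≤ 4) (hT : TwoGen (frattini K)) :
    (∃ r, Homo α r) ∨ ∃ z : K, Quat K z := by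
  haveI : Fact (Nat.Prime 2) := ⟨Nat.prime_two⟩
  obtain ⟨a, ha⟩ := exists_gen hK hf h3 hne h4
  by_cases hd : commutator K = ⊥
  · have hc : ∀ x y : K, x * y = y * x := fun x y => commutatorElement_eq_one_iff_mul_comm.1 (mem_bot.1
      (hd ▸ by rw [_root_.commutator_def]; exact commutator_mem_commutator (mem_top x) (mem_top y)))
    obtain ⟨r, hr, -⟩ := homo_of_gen hK hf h3 hne hc ha
    exact Or.inl ⟨r, hr⟩
  right
  set D := commutator K with hD
  set π := QuotientGroup.mk' D
  have hπ : Function.Surjective π := QuotientGroup.mk'_surjective _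
  have hm := map_eq_of_char α D
  have hqc : ∀ p q : K ⧸ D, p * q = q * p := fun p q => by
    obtain ⟨p, rfl⟩ := hπ p
    obtain ⟨q, rfl⟩ := hπ q
    rw [← commutatorElement_eq_one_iff_mul_comm, ← map_commutatorElement]
    refine (QuotientGroup.eq_one_iff _).2 ?_
    rw [hD, _root_.commutator_def]
    exact commutator_mem_commutator (mem_top p) (mem_top q)
  have hlt : D ≠ ⊤ := fun e => by
    haveI := hK.isNilpotent
    have := Core.eq_top_of_sup_frattini (le_rfl : frattini K ≤ frattini K) (K := (⊥ : Subgroup K))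
      (by rw [bot_sup_eq, eq_top_iff, ← e]; exact Core.commutator_le_frattini)
    exact bot_ne_top this
  have hqn : Nontrivial (K ⧸ D) := QuotientGroup.nontrivial_iff.2 hlt
  have haq : closure ({π a, qAut α D hm (π a)} : Set (K ⧸ D)) = ⊤ := by
    have h := congrArg (Subgroup.map π) ha
    rw [MonoidHom.map_closure, Set.image_pair, map_top_of_surjective π hπ] at h
    exact h
  obtain ⟨r, hr, hind⟩ := homo_of_gen (hK.to_quotient D) (hf.quotient D hm) (qAut_cube h3 D hm) hqn hqc haq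
  rcases Nat.lt_or_ge r 2 with hr2 | hr2
  · obtain rfl : r = 1 := by have := hr.one_le; omega
    have hi : D.index = 4 := by rw [index_eq_card, hr.card]; norm_num
    have hmc := isMetacyclic_of_mc (MaxClass.mc_of_commutator hK hi hd)
    have hα1 : α ≠ 1 := fun e => by
      have h0 : displ α = ⊥ := eq_bot_iff.2 ((closure_le _).2 (by rintro _ ⟨x, rfl⟩; simp [e]))
      rw [hf] at h0
      exact top_ne_bot h0
    have hodd : Odd (orderOf α) := Odd.of_dvd_nat (by decide : Odd 3) (orderOf_dvd_of_pow_eq_one h3)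
    rcases FusSys.MetaTwo.classify hK hmc hodd hα1 with ⟨k, x, -, hHC, -⟩ | ⟨⟨e⟩⟩
    · refine absurd ?_ hd
      rw [hD, eq_bot_iff, _root_.commutator_def, Subgroup.commutator_le]
      intro p _ q _
      exact mem_bot.2 (commutatorElement_eq_one_iff_mul_comm.2 (hHC.1 p q))
    · exact quat_of_equiv hK e
  · exfalso
    obtain ⟨M, hMn, hMα, hMD, hMne, hMsq, hMc⟩ := exists_descend hK hd
    haveI := hMn
    set ρ := QuotientGroup.mk' M
    have hρ : Function.Surjective ρ := QuotientGroup.mk'_surjective _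
    have hDc : ∀ u ∈ D, ∀ h : K ⧸ M, Commute (ρ u) h := fun u hu h => by
      obtain ⟨k, rfl⟩ := hρ h
      rw [← commutatorElement_eq_one_iff_commute, ← map_commutatorElement]
      exact (QuotientGroup.eq_one_iff _).2 (hMc u hu k)
    set c := ⁅a, α a⁆ with hc
    have hcD : c ∈ D := by
      rw [hD, _root_.commutator_def]; exact commutator_mem_commutator (mem_top _) (mem_top _)
    have hD2 : ∀ u ∈ D, ρ u * ρ u = 1 := fun u hu => by
      rw [← map_mul]; exact (QuotientGroup.eq_one_iff _).2 (hMsq u hu)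
    have hcgen : ∀ u ∈ D, ρ u = 1 ∨ ρ u = ρ c := by
      let N : Subgroup K := D ⊓ (zpowers (ρ c)).comap ρ
      haveI : N.Normal := ⟨fun x hx g => ⟨Subgroup.Normal.conj_mem inferInstance x hx.1 g, by
        show ρ (g * x * g⁻¹) ∈ zpowers (ρ c)
        rw [map_mul, map_mul, ← (hDc x hx.1 (ρ g)).eq, map_inv, mul_inv_cancel_right]
        exact hx.2⟩⟩
      have hle : D ≤ N := commutator_le_of_pair (x := a) (u := α a) ha N
        ⟨by rw [← commutatorElement_def]; exact hcD, by
          show ρ (a * α a * a⁻¹ * (α a)⁻¹) ∈ zpowers (ρ c)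
          rw [← commutatorElement_def]; exact mem_zpowers _⟩
      intro u hu
      obtain ⟨i, hi⟩ := mem_zpowers_iff.1 (hle hu).2
      rw [← hi]
      rcases Int.even_or_odd i with ⟨s, rfl⟩ | ⟨s, rfl⟩
      · left; rw [← two_mul, zpow_mul, zpow_two, hD2 c hcD, one_zpow]
      · right; rw [zpow_add, zpow_one, zpow_mul, zpow_two, hD2 c hcD, one_zpow, one_mul]
    have hc1 : ρ c ≠ 1 := fun e => hMne (le_antisymm hMD fun u hu => (QuotientGroup.eq_one_iff u).1
      ((hcgen u hu).elim id fun h => h.trans e))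
    have hcomD : ∀ x y : K, ⁅x, y⁆ ∈ D := fun x y => by
      rw [hD, _root_.commutator_def]; exact commutator_mem_commutator (mem_top _) (mem_top _)
    -- squares are central
    have hsqc : ∀ h k : K ⧸ M, Commute (h * h) k := by
      intro h k
      obtain ⟨h, rfl⟩ := hρ h
      obtain ⟨k, rfl⟩ := hρ k
      rw [← commutatorElement_eq_one_iff_commute, ← map_mul, ← map_commutatorElement]
      have e : ⁅h * h, k⁆ = h * ⁅h, k⁆ * h⁻¹ * ⁅h, k⁆ := by
        simp only [commutatorElement_def]; group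
      rw [e, map_mul, map_mul, map_mul, ← (hDc _ (hcomD h k) (ρ h)).eq, map_inv, mul_inv_cancel_right]
      exact hD2 _ (hcomD h k)
    obtain ⟨l, rfl⟩ : ∃ l, r = l + 2 := ⟨r - 2, by omega⟩
    have hpow4 : ∀ h k : K ⧸ M, (h * k) ^ 4 = h ^ 4 * k ^ 4 := by
      intro h k
      have hkh : ⁅k, h⁆ * ⁅k, h⁆ = 1 ∧ ∀ w, Commute ⁅k, h⁆ w := by
        obtain ⟨h, rfl⟩ := hρ h
        obtain ⟨k, rfl⟩ := hρ k
        rw [← map_commutatorElement]
        exact ⟨hD2 _ (hcomD k h), hDc _ (hcomD k h)⟩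
      have e2 : h * k * (h * k) = h * h * (k * k) * ⁅k, h⁆ := by
        calc h * k * (h * k) = h * (⁅k, h⁆ * h * k) * k := by rw [commutatorElement_def]; group
          _ = h * (h * k * ⁅k, h⁆) * k := by rw [mul_assoc ⁅k, h⁆, (hkh.2 (h * k)).eq]
          _ = h * h * k * (⁅k, h⁆ * k) := by simp only [mul_assoc]
          _ = _ := by rw [(hkh.2 k).eq]; simp only [mul_assoc]
      have e4 : ∀ w : K ⧸ M, w ^ 4 = w * w * (w * w) := fun w => by
        rw [← pow_two, ← pow_two, ← pow_mul]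
      rw [e4, e4 h, e4 k, e2, mul_assoc, ← mul_assoc ⁅k, h⁆, (hkh.2 (h * h * (k * k))).eq,
        mul_assoc (h * h * (k * k)) ⁅k, h⁆ ⁅k, h⁆, hkh.1, mul_one, mul_assoc (h * h), ← mul_assoc (k * k),
        ((hsqc k (h * h)).eq : k * k * (h * h) = h * h * (k * k))]
      simp only [mul_assoc]
    let χ : K →* K ⧸ M := MonoidHom.mk' (fun k => ρ k ^ 2 ^ (l + 2)) fun p q => by
      have h4 : Commute (ρ p ^ 4) (ρ q ^ 4) := by
        rw [show (4 : ℕ) = 2 * 2 from rfl, pow_mul, pow_mul, pow_two (ρ p), pow_two (ρ q)]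
        exact ((hsqc _ _).pow_left 2).pow_right 2
      show ρ (p * q) ^ 2 ^ (l + 2) = _
      rw [map_mul, show (2 : ℕ) ^ (l + 2) = 4 * 2 ^ l by rw [pow_add]; ring, pow_mul, hpow4, h4.mul_pow,
        ← pow_mul, ← pow_mul]
    have hexp : ∀ k : K, ρ k ^ 2 ^ (l + 2) = 1 := by
      refine fun k => hf.hom_eq_one χ (fun x => ?_) k
      show ρ (α x) ^ 2 ^ (l + 2) = ρ x ^ 2 ^ (l + 2)
      have hxD : x ^ 2 ^ (l + 2) ∈ D := (QuotientGroup.eq_one_iff _).1 (by
        rw [QuotientGroup.mk_pow]; exact hr.exp _)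
      rw [← map_pow, ← map_pow, ← map_pow]
      have hαD : α (x ^ 2 ^ (l + 2)) ∈ D := hm ▸ mem_map_of_mem _ hxD
      have hiff : ρ (α (x ^ 2 ^ (l + 2))) = 1 ↔ ρ (x ^ 2 ^ (l + 2)) = 1 := by
        constructor <;> intro h
        · have h' := (QuotientGroup.eq_one_iff _).1 h
          have := hMα α _ (hMα α _ h')
          rw [cube_apply h3] at this
          exact (QuotientGroup.eq_one_iff _).2 this
        · exact (QuotientGroup.eq_one_iff _).2 (hMα α _ ((QuotientGroup.eq_one_iff _).1 h))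
      rcases hcgen _ hxD with h | h
      · rw [h, hiff.2 h]
      · rw [h]
        exact (hcgen _ hαD).resolve_left fun e => hc1 (h ▸ hiff.1 e)
    -- an elementary abelian section of order eight inside the Frattini subgroup
    let T : Subgroup K :=
      { carrier := {k | k ∈ frattini K ∧ ρ k * ρ k = 1 ∧ ∀ h, Commute (ρ k) h}
        one_mem' := ⟨one_mem _, by rw [map_one, mul_one], fun h => by rw [map_one]; exact Commute.one_left h⟩
        mul_mem' := fun {p q} hp hq => ⟨mul_mem hp.1 hq.1, by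
          rw [map_mul, mul_assoc, ← mul_assoc (ρ q), (hq.2.2 (ρ p)).eq, mul_assoc, ← mul_assoc, hp.2.1,
            hq.2.1, one_mul], fun h => by rw [map_mul]; exact (hp.2.2 h).mul_left (hq.2.2 h)⟩
        inv_mem' := fun {p} hp => ⟨inv_mem hp.1, by rw [map_inv, ← mul_inv_rev, hp.2.1, inv_one],
          fun h => by rw [map_inv]; exact (hp.2.2 h).inv_left⟩ }
    have hU := hT T (fun k hk => hk.1) (T ⊓ M) inf_le_left fun t ht =>
      ⟨mul_mem ht ht, (QuotientGroup.eq_one_iff _).1 (by rw [QuotientGroup.mk_mul]; exact ht.2.1)⟩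
    have hmapT := card_map_mul_ker ρ T
    rw [QuotientGroup.ker_mk'] at hmapT
    have hkT : ∀ k : K, k ^ 2 ^ (l + 1) ∈ T := fun k => by
      have e : k ^ 2 ^ (l + 1) = k ^ 2 ^ l * k ^ 2 ^ l := by rw [← pow_add, ← two_mul, ← pow_succ']
      refine ⟨e ▸ sq_mem_frattini hK _, ?_, fun h => ?_⟩
      · rw [map_pow, ← pow_add, ← two_mul, ← pow_succ']; exact hexp k
      · rw [e, map_mul]; exact hsqc _ h
    have hcT : c ∈ T := by
      haveI := hK.isNilpotent
      exact ⟨Core.commutator_le_frattini hcD, hD2 c hcD, hDc c hcD⟩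
    let F : Bool × Bool × Bool → T.map ρ := fun p =>
      ⟨ρ ((a ^ 2 ^ (l + 1)) ^ (cond p.1 1 0) * (α a ^ 2 ^ (l + 1)) ^ (cond p.2.1 1 0) * c ^ (cond p.2.2 1 0)),
        mem_map_of_mem _ (mul_mem (mul_mem (pow_mem (hkT a) _) (pow_mem (hkT (α a)) _)) (pow_mem hcT _))⟩
    have hF : Function.Injective F := by
      intro p q e
      have e' := congrArg Subtype.val e
      simp only [F] at e'
      have e1 := QuotientGroup.eq.1 e'
      have e2 := congrArg π (mul_inv_cancel_left
        ((a ^ 2 ^ (l + 1)) ^ (cond p.1 1 0) * (α a ^ 2 ^ (l + 1)) ^ (cond p.2.1 1 0) * c ^ (cond p.2.2 1 0))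
        ((a ^ 2 ^ (l + 1)) ^ (cond q.1 1 0) * (α a ^ 2 ^ (l + 1)) ^ (cond q.2.1 1 0) * c ^ (cond q.2.2 1 0)))
      rw [map_mul, show π _ = 1 from (QuotientGroup.eq_one_iff _).2 (hMD e1), mul_one] at e2
      have hπc : π c = 1 := (QuotientGroup.eq_one_iff _).2 hcD
      have hαq : π (α a) = qAut α D hm (π a) := rfl
      simp only [map_mul, map_pow, hπc, one_pow, mul_one, hαq] at e2
      have key := hind ((cond p.1 1 0 : ℕ) - (cond q.1 1 0 : ℕ) : ℤ) ((cond p.2.1 1 0 : ℕ) - (cond q.2.1 1 0 : ℕ) : ℤ) ?_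
      swap
      · rw [show l + 2 - 1 = l + 1 from rfl, zpow_sub, zpow_sub, zpow_natCast, zpow_natCast, zpow_natCast,
          zpow_natCast]
        set A := π a ^ 2 ^ (l + 1)
        set B := qAut α D hm (π a) ^ 2 ^ (l + 1)
        rw [mul_assoc, ← mul_assoc ((A ^ (cond q.1 1 0))⁻¹), hqc ((A ^ (cond q.1 1 0))⁻¹) (B ^ (cond p.2.1 1 0)),
          mul_assoc, ← mul_assoc, e2, ← mul_inv_rev, hqc (B ^ (cond q.2.1 1 0)), mul_inv_cancel]
      obtain ⟨p1, p2, p3⟩ := p
      obtain ⟨q1, q2, q3⟩ := q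
      have h1 : p1 = q1 := by
        cases p1 <;> cases q1 <;> simp_all <;> omega
      have h2 : p2 = q2 := by
        cases p2 <;> cases q2 <;> simp_all <;> omega
      subst h1 h2
      simp only [map_mul, mul_right_inj, map_pow] at e'
      cases p3 <;> cases q3 <;> simp_all
    have h8 := Nat.card_le_card_of_injective F hF
    rw [Nat.card_prod, Nat.card_prod, Nat.card_eq_fintype_card, Fintype.card_bool] at h8
    have hpos := Nat.card_pos (α := (T ⊓ M : Subgroup K))
    rw [← hmapT] at hU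
    nlinarith

end Cfsg.Agent.Bicyclic
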