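import Cfsg.Agent.Bicyclic.Series
import Cfsg.Agent.Core.Basics

/-!
Subgroups of the Frattini subgroup of a bicyclic 2-group: the squares generate a subgroup of index at
most four.
-/

set_option autoImplicit false

open Subgroup

namespace Cfsg.Agent.Bicyclic

universe u

variable {G : Type u} [Group G] [Finite G]

/-- Every subgroup of `H` is at most four times a subgroup containing its squares. -/
def TwoGen (H : Subgroup G) : Prop :=
  ∀ T ≤ H, ∀ U ≤ T, (∀ t ∈ T, t * t ∈ U) → Nat.card T ≤ 4 * Nat.card U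

theorem card_map_mul_ker {A B : Type*} [Group A] [Group B] (f : A →* B) (H : Subgroup A) :
    Nat.card (H.map f) * Nat.card (H ⊓ f.ker : Subgroup A) = Nat.card H := by
  have h1 := (f.domRestrict H).ker.card_mul_index
  rw [Subgroup.index_ker, MonoidHom.domRestrict_range] at h1
  have e : Nat.card (f.domRestrict H).ker = Nat.card (H ⊓ f.ker : Subgroup A) := by
    rw [← card_map_of_injective (K := (f.domRestrict H).ker) H.subtype_injective,
      MonoidHom.ker_domRestrict, subgroupOf_map_subtype, inf_comm]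
  rw [← h1, e, mul_comm]

variable (hG : IsPGroup 2 G) {a b : G} (hb : BC a b)
include hG hb

/-- The squaring map from one layer to the next. -/
theorem exists_sqHom (k : ℕ) : ∃ f : ↥(phiK G (k + 1)) →* G ⧸ phiK G (k + 3),
    ∀ x : ↥(phiK G (k + 1)), f x = (((x : G) * x : G) : G ⧸ phiK G (k + 3)) := by
  refine ⟨MonoidHom.mk' (fun x => (((x : G) * x : G) : G ⧸ phiK G (k + 3))) fun x y => ?_, fun x => rfl⟩
  show (((x : G) * y * ((x : G) * y) : G) : G ⧸ phiK G (k + 3)) = _
  rw [← QuotientGroup.mk_mul, QuotientGroup.eq]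
  have h := phiK_comm hG hb (k := k) (inv_mem x.2) (inv_mem y.2)
  have h' := (phiK_normal (G := G) (k + 3)).conj_mem _ h (y : G)⁻¹
  convert h' using 1
  group

theorem sq_range (k : ℕ) {f : ↥(phiK G (k + 1)) →* G ⧸ phiK G (k + 3)}
    (hf : ∀ x : ↥(phiK G (k + 1)), f x = (((x : G) * x : G) : G ⧸ phiK G (k + 3))) :
    f.range = (phiK G (k + 2)).map (QuotientGroup.mk' (phiK G (k + 3))) := by
  refine le_antisymm ?_ ?_
  · rintro _ ⟨x, rfl⟩
    rw [hf]
    exact mem_map_of_mem _ (phiK_sq hG x.2)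
  · rintro _ ⟨y, hy, rfl⟩
    obtain ⟨i, j, rfl⟩ := (bic_phiK hG hb (k + 2)).cover y hy
    have e : ∀ c : G, c ^ 2 ^ (k + 2) = c ^ 2 ^ (k + 1) * c ^ 2 ^ (k + 1) := fun c => by
      rw [← pow_add, ← two_mul, ← pow_succ']
    have hk := bic_phiK hG hb (k + 1)
    have ha : QuotientGroup.mk' (phiK G (k + 3)) (a ^ 2 ^ (k + 2)) ∈ f.range :=
      ⟨⟨_, hk.left⟩, by rw [hf, e]; rfl⟩
    have hb' : QuotientGroup.mk' (phiK G (k + 3)) (b ^ 2 ^ (k + 2)) ∈ f.range :=
      ⟨⟨_, hk.right⟩, by rw [hf, e]; rfl⟩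
    rw [map_mul, map_zpow, map_zpow]
    exact mul_mem (zpow_mem ha i) (zpow_mem hb' j)

theorem layer_step (k : ℕ) (T U : Subgroup G) (hU : ∀ t ∈ T, t * t ∈ U)
    (ih : Nat.card (T ⊓ phiK G (k + 2) : Subgroup G) * Nat.card (phiK G (k + 3)) ≤
      Nat.card (U ⊓ phiK G (k + 3) : Subgroup G) * Nat.card (phiK G (k + 2))) :
    Nat.card (T ⊓ phiK G (k + 1) : Subgroup G) * Nat.card (phiK G (k + 2)) ≤
      Nat.card (U ⊓ phiK G (k + 2) : Subgroup G) * Nat.card (phiK G (k + 1)) := by
  set L0 := phiK G (k + 1)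
  set L1 := phiK G (k + 2) with hL1
  set L2 := phiK G (k + 3) with hL2
  obtain ⟨f, hf⟩ := exists_sqHom hG hb k
  set π := QuotientGroup.mk' L2
  set T0 := T.subgroupOf L0
  set K := f.ker.map L0.subtype with hK
  have h12 : L2 ≤ L1 := phiK_antitone (by omega)
  have h01 : L1 ≤ L0 := phiK_antitone (by omega)
  have hL1K : L1 ≤ K := fun x hx => ⟨⟨x, h01 hx⟩, by
    show f ⟨x, h01 hx⟩ = 1
    rw [hf, QuotientGroup.eq_one_iff]; exact phiK_sq hG hx, rfl⟩
  have hT : Nat.card (T ⊓ L0 : Subgroup G) = Nat.card (T0.map f) * Nat.card (T ⊓ K : Subgroup G) := by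
    have h1 := card_map_mul_ker f T0
    have e1 : Nat.card T0 = Nat.card (T ⊓ L0 : Subgroup G) := by
      rw [← card_map_of_injective (K := T0) L0.subtype_injective, subgroupOf_map_subtype]
    have e2 : Nat.card (T0 ⊓ f.ker : Subgroup L0) = Nat.card (T ⊓ K : Subgroup G) := by
      rw [← card_map_of_injective (K := T0 ⊓ f.ker) L0.subtype_injective,
        map_inf _ _ _ L0.subtype_injective, subgroupOf_map_subtype, inf_assoc]
      rw [inf_eq_right.2 (map_subtype_le f.ker : K ≤ L0)]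
    rw [← e1, ← h1, e2]
  have hL0 : Nat.card L0 = Nat.card f.range * Nat.card K := by
    have h1 := f.ker.card_mul_index
    rw [index_ker] at h1
    rw [← h1, hK, card_map_of_injective L0.subtype_injective, mul_comm]
  have hL1c : Nat.card L1 = Nat.card f.range * Nat.card L2 := by
    rw [sq_range hG hb k hf]
    have h1 := card_map_mul_ker π L1
    rw [QuotientGroup.ker_mk', inf_eq_right.2 h12] at h1
    exact h1.symm
  have hprod : Nat.card (T ⊓ K : Subgroup G) * Nat.card L1 ≤ Nat.card K * Nat.card (T ⊓ L1 : Subgroup G) := by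
    rw [← Core.card_sup_mul_card_inf (T ⊓ K) L1,
      show T ⊓ K ⊓ L1 = T ⊓ L1 by rw [inf_assoc, inf_eq_right.2 hL1K]]
    exact Nat.mul_le_mul_right _ (card_le_of_le (sup_le inf_le_right hL1K))
  have hU1 : Nat.card (T0.map f) * Nat.card (U ⊓ L2 : Subgroup G) ≤ Nat.card (U ⊓ L1 : Subgroup G) := by
    have h1 := card_map_mul_ker π (U ⊓ L1)
    rw [QuotientGroup.ker_mk', inf_assoc, inf_eq_right.2 h12] at h1
    rw [← h1]
    refine Nat.mul_le_mul_right _ (card_le_of_le ?_)
    rintro _ ⟨t, ht, rfl⟩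
    rw [hf]
    exact mem_map_of_mem _ ⟨hU _ ht, phiK_sq hG t.2⟩
  have hpos1 : 0 < Nat.card L1 := Nat.card_pos
  have hpos2 : 0 < Nat.card L2 := Nat.card_pos
  set t0 := Nat.card (T0.map f)
  set tk := Nat.card (T ⊓ K : Subgroup G)
  set t1 := Nat.card (T ⊓ L1 : Subgroup G)
  set u1 := Nat.card (U ⊓ L1 : Subgroup G)
  set u2 := Nat.card (U ⊓ L2 : Subgroup G)
  set r := Nat.card f.range
  set κ := Nat.card K
  rw [hT, hL0]
  have h1 : t0 * tk * Nat.card L2 ≤ u1 * κ := by
    refine Nat.le_of_mul_le_mul_right ?_ hpos1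
    calc t0 * tk * Nat.card L2 * Nat.card L1 = t0 * Nat.card L2 * (tk * Nat.card L1) := by ring
      _ ≤ t0 * Nat.card L2 * (κ * t1) := Nat.mul_le_mul_left _ hprod
      _ = t0 * κ * (t1 * Nat.card L2) := by ring
      _ ≤ t0 * κ * (u2 * Nat.card L1) := Nat.mul_le_mul_left _ ih
      _ = t0 * u2 * (κ * Nat.card L1) := by ring
      _ ≤ u1 * (κ * Nat.card L1) := Nat.mul_le_mul_right _ hU1
      _ = u1 * κ * Nat.card L1 := by ring
  calc t0 * tk * Nat.card L1 = t0 * tk * Nat.card L2 * r := by rw [hL1c]; ring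
    _ ≤ u1 * κ * r := Nat.mul_le_mul_right _ h1
    _ = u1 * (r * κ) := by ring

theorem layer_all (T U : Subgroup G) (hU : ∀ t ∈ T, t * t ∈ U) (k : ℕ) :
    Nat.card (T ⊓ phiK G (k + 1) : Subgroup G) * Nat.card (phiK G (k + 2)) ≤
      Nat.card (U ⊓ phiK G (k + 2) : Subgroup G) * Nat.card (phiK G (k + 1)) := by
  obtain ⟨K, hK⟩ := phiK_eq_bot hG hb
  suffices H : ∀ d k, K ≤ k + d → Nat.card (T ⊓ phiK G (k + 1) : Subgroup G) * Nat.card (phiK G (k + 2)) ≤
      Nat.card (U ⊓ phiK G (k + 2) : Subgroup G) * Nat.card (phiK G (k + 1)) from H K k (by omega)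
  intro d
  induction d with
  | zero =>
    intro k hk
    have e1 : phiK G (k + 1) = ⊥ := eq_bot_iff.2 ((phiK_antitone (show K ≤ k + 1 by omega)).trans hK.le)
    have e2 : phiK G (k + 2) = ⊥ := eq_bot_iff.2 ((phiK_antitone (show K ≤ k + 2 by omega)).trans hK.le)
    rw [e1, e2, inf_bot_eq, inf_bot_eq]
  | succ d ih =>
    intro k hk
    exact layer_step hG hb k T U hU (ih (k + 1) (by omega))

theorem phiK_index_le : Nat.card (phiK G 1) ≤ 4 * Nat.card (phiK G 2) := by
  have h1 := bic_phiK hG hb 1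
  set π := QuotientGroup.mk' (phiK G 2)
  have h2 := card_map_mul_ker π (phiK G 1)
  rw [QuotientGroup.ker_mk', inf_eq_right.2 (phiK_antitone (by omega))] at h2
  rw [← h2]
  refine Nat.mul_le_mul_right _ ?_
  have hsq : ∀ c ∈ phiK G 1, π c * π c = 1 := fun c hc => by
    rw [← map_mul]
    exact (QuotientGroup.eq_one_iff _).2 (phiK_sq hG hc)
  have hbc : BC (⟨π (a ^ 2 ^ 1), mem_map_of_mem _ h1.left⟩ : (phiK G 1).map π)
      ⟨π (b ^ 2 ^ 1), mem_map_of_mem _ h1.right⟩ := fun x => by
    obtain ⟨y, hy, hyx⟩ := x.2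
    obtain ⟨i, j, rfl⟩ := h1.cover y hy
    exact ⟨i, j, Subtype.ext (by simpa using hyx.symm)⟩
  refine hbc.card_le.trans (le_trans (Nat.mul_le_mul ?_ ?_) (le_refl (2 * 2)))
  · exact Nat.le_of_dvd two_pos (orderOf_dvd_of_pow_eq_one (by
      rw [pow_two]; exact Subtype.ext (hsq _ h1.left)))
  · exact Nat.le_of_dvd two_pos (orderOf_dvd_of_pow_eq_one (by
      rw [pow_two]; exact Subtype.ext (hsq _ h1.right)))

/-- Subgroups of the Frattini subgroup are two-generated, in the squaring form. -/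
theorem twoGen_frattini : TwoGen (frattini G) := by
  intro T hT U hUT hU
  have hT1 : T ≤ phiK G 1 := hT.trans (frattini_le_phiK_one hG)
  have h := layer_all hG hb T U hU 0
  simp only [Nat.zero_add] at h
  rw [inf_eq_left.2 hT1] at h
  refine Nat.le_of_mul_le_mul_right ?_ (Nat.card_pos (α := phiK G 2))
  calc Nat.card T * Nat.card (phiK G 2) ≤ Nat.card (U ⊓ phiK G 2 : Subgroup G) * Nat.card (phiK G 1) := h
    _ ≤ Nat.card U * (4 * Nat.card (phiK G 2)) :=
      Nat.mul_le_mul (card_le_of_le inf_le_left) (phiK_index_le hG hb)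
    _ = 4 * Nat.card U * Nat.card (phiK G 2) := by ring

/-- An elementary abelian subgroup of the Frattini subgroup has order at most four. -/
theorem elementary_le_four {T : Subgroup G} (hT : T ≤ frattini G) (h : ∀ t ∈ T, t * t = 1) :
    Nat.card T ≤ 4 := by
  simpa using twoGen_frattini hG hb T hT ⊥ bot_le fun t ht => mem_bot.2 (h t ht)

/-- The Frattini subgroup has index at most four. -/
theorem frattini_index_le : (frattini G).index ≤ 4 := by
  have hs := QuotientGroup.mk'_surjective (frattini G)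
  rw [index_eq_card]
  have hbc := hb.map _ hs
  have hsq : ∀ c : G, QuotientGroup.mk' (frattini G) c * QuotientGroup.mk' (frattini G) c = 1 := fun c => by
    rw [← map_mul]
    exact (QuotientGroup.eq_one_iff _).2 (sq_mem_frattini hG c)
  refine hbc.card_le.trans (le_trans (Nat.mul_le_mul ?_ ?_) (le_refl (2 * 2)))
  · exact Nat.le_of_dvd two_pos (orderOf_dvd_of_pow_eq_one (by rw [pow_two]; exact hsq a))
  · exact Nat.le_of_dvd two_pos (orderOf_dvd_of_pow_eq_one (by rw [pow_two]; exact hsq b))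

/-- A proper subgroup is at most eight times a subgroup containing its squares. -/
theorem card_le_eight {P U : Subgroup G} (hP : P ≠ ⊤) (hUP : U ≤ P) (hU : ∀ t ∈ P, t * t ∈ U) :
    Nat.card P ≤ 8 * Nat.card U := by
  have h1 := twoGen_frattini hG hb (P ⊓ frattini G) inf_le_right (U ⊓ frattini G)
    (inf_le_inf_right _ hUP) fun t ht => ⟨hU t ht.1, sq_mem_frattini hG t⟩
  have h2 := Core.card_sup_mul_card_inf P (frattini G)
  have hlt : (P ⊔ frattini G) ≠ ⊤ := fun e => hP (Core.eq_top_of_sup_frattini le_rfl e)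
  have h3 : Nat.card (P ⊔ frattini G : Subgroup G) ≤ 2 * Nat.card (frattini G) := by
    have hr := relIndex_mul_index (le_sup_right : frattini G ≤ P ⊔ frattini G)
    have h4 := frattini_index_le hG hb
    have h5 : 2 ≤ (P ⊔ frattini G).index := by
      have h0 : (P ⊔ frattini G).index ≠ 0 := index_ne_zero_of_finite
      have h1' : (P ⊔ frattini G).index ≠ 1 := fun e => hlt (index_eq_one.1 e)
      omega
    have h6 : (frattini G).relIndex (P ⊔ frattini G) ≤ 2 := by
      by_contra hgt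
      have := Nat.mul_le_mul (Nat.lt_of_not_le hgt) h5
      rw [hr] at this
      omega
    have h7 : Nat.card (frattini G) * (frattini G).relIndex (P ⊔ frattini G) =
        Nat.card (P ⊔ frattini G : Subgroup G) := by
      rw [← relIndex_bot_left, ← relIndex_bot_left, relIndex_mul_relIndex _ _ _ bot_le le_sup_right]
    rw [← h7, mul_comm 2]
    exact Nat.mul_le_mul_left _ h6
  refine Nat.le_of_mul_le_mul_right ?_ (Nat.card_pos (α := frattini G))
  calc Nat.card P * Nat.card (frattini G)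
      = Nat.card (P ⊔ frattini G : Subgroup G) * Nat.card (P ⊓ frattini G : Subgroup G) := h2.symm
    _ ≤ 2 * Nat.card (frattini G) * (4 * Nat.card U) :=
      Nat.mul_le_mul h3 (h1.trans (Nat.mul_le_mul_left _ (card_le_of_le inf_le_left)))
    _ = 8 * Nat.card U * Nat.card (frattini G) := by ring

end Cfsg.Agent.Bicyclic
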