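import Cfsg.Agent.Bicyclic.Basic
import Cfsg.Agent.FusSys.MetaTwo

/-!
The Frattini series of a bicyclic 2-group: each term is abelian modulo the next but one.
-/

set_option autoImplicit false

open Subgroup
open scoped commutatorElement

namespace Cfsg.Agent.Bicyclic

universe u

variable {G : Type u} [Group G]

/-- The iterated Frattini subgroups. -/
def phiK (G : Type u) [Group G] : ℕ → Subgroup G
  | 0 => ⊤
  | k + 1 => (frattini ↥(phiK G k)).map (phiK G k).subtype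

theorem phiK_normal : ∀ k, (phiK G k).Normal
  | 0 => by rw [phiK]; infer_instance
  | k + 1 => by
    haveI := phiK_normal k
    rw [phiK]
    infer_instance

instance (k : ℕ) : (phiK G k).Normal := phiK_normal k

theorem phiK_succ_le (k : ℕ) : phiK G (k + 1) ≤ phiK G k := map_subtype_le _

theorem phiK_antitone {k l : ℕ} (h : k ≤ l) : phiK G l ≤ phiK G k := by
  induction h with
  | refl => exact le_rfl
  | step _ ih => exact (phiK_succ_le _).trans ih

variable [Finite G] (hG : IsPGroup 2 G)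
include hG

theorem phiK_sq {k : ℕ} {x : G} (hx : x ∈ phiK G k) : x * x ∈ phiK G (k + 1) :=
  ⟨_, sq_mem_frattini (hG.to_subgroup _) (⟨x, hx⟩ : phiK G k), rfl⟩

theorem frattini_le_phiK_one : frattini G ≤ phiK G 1 :=
  frattini_le_of_sq hG _ fun g => phiK_sq hG (mem_top g)

theorem phiK_one_le : phiK G 1 ≤ frattini G := by
  rw [phiK]
  exact Core.frattini_le_of_normal (phiK G 0)

theorem phiK_commutator {k : ℕ} {x y : G} (hx : x ∈ phiK G k) (hy : y ∈ phiK G k) :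
    x * y * x⁻¹ * y⁻¹ ∈ phiK G (k + 1) := by
  rw [show x * y * x⁻¹ * y⁻¹ = x * y * (x * y) * (y⁻¹ * x⁻¹ * y * (y⁻¹ * x⁻¹ * y)) * (y⁻¹ * y⁻¹) by group]
  exact mul_mem (mul_mem (phiK_sq hG (mul_mem hx hy))
    (phiK_sq hG (mul_mem (mul_mem (inv_mem hy) (inv_mem hx)) hy))) (phiK_sq hG (inv_mem hy))

theorem bic_phiK {a b : G} (hb : BC a b) : ∀ k, Bic (phiK G k) (a ^ 2 ^ k) (b ^ 2 ^ k)
  | 0 => ⟨mem_top _, mem_top _, fun g _ => by simpa using hb g⟩
  | k + 1 => by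
    have h := bic_phiK hb k
    have h' := bic_frattini (hG.to_subgroup _) h.bc
    have e : ∀ c : G, c ^ 2 ^ (k + 1) = c ^ 2 ^ k * c ^ 2 ^ k := fun c => by
      rw [← pow_add, ← two_mul, ← pow_succ']
    refine ⟨⟨_, h'.left, (e a).symm⟩, ⟨_, h'.right, (e b).symm⟩, ?_⟩
    rintro _ ⟨x, hx, rfl⟩
    obtain ⟨i, j, rfl⟩ := h'.cover x hx
    exact ⟨i, j, by simp [e]⟩

theorem phiK_eq_bot {a b : G} (hb : BC a b) : ∃ K, phiK G K = ⊥ := by
  obtain ⟨m, hm⟩ := exists_two_pow hG a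
  obtain ⟨n, hn⟩ := exists_two_pow hG b
  refine ⟨m + n, eq_bot_iff.2 fun g hg => ?_⟩
  obtain ⟨i, j, rfl⟩ := (bic_phiK hG hb (m + n)).cover g hg
  have ha : a ^ 2 ^ (m + n) = 1 := by rw [pow_add, pow_mul, ← hm, pow_orderOf_eq_one, one_pow]
  have hb' : b ^ 2 ^ (m + n) = 1 := by rw [add_comm, pow_add, pow_mul, ← hn, pow_orderOf_eq_one, one_pow]
  rw [ha, hb', one_zpow, one_zpow, one_mul]
  exact one_mem _

/-- A normal subgroup of order at most four is centralised by every square. -/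
theorem sq_centralizes {W : Subgroup G} [W.Normal] (h4 : Nat.card W ≤ 4) (g : G) {w : G} (hw : w ∈ W) :
    g * g * w = w * (g * g) := by
  obtain ⟨m, hm⟩ := exists_two_pow hG g
  have h : (MulAut.conjNormal g : MulAut W) ^ 2 = 1 := by
    by_contra hne
    obtain ⟨h3, -⟩ := FusSys.MetaTwo.aut_small h4 hne
    refine hne ?_
    have h1 : (MulAut.conjNormal g : MulAut W) ^ 2 ^ m = 1 := by
      rw [← map_pow, ← hm, pow_orderOf_eq_one, map_one]
    have h2 : orderOf (MulAut.conjNormal g : MulAut W) ∣ Nat.gcd (2 ^ m) 3 :=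
      Nat.dvd_gcd (orderOf_dvd_of_pow_eq_one h1) (orderOf_dvd_of_pow_eq_one h3)
    rw [show Nat.gcd (2 ^ m) 3 = 1 from Nat.Coprime.pow_left _ (by norm_num), Nat.dvd_one,
      orderOf_eq_one_iff] at h2
    rw [h2, one_pow]
  have h' := congrArg (fun f : MulAut W => ((f ⟨w, hw⟩ : W) : G)) h
  simp only [pow_two, MulAut.mul_apply, MulAut.one_apply, MulAut.conjNormal_apply] at h'
  calc g * g * w = g * (g * w * g⁻¹) * g⁻¹ * (g * g) := by group
    _ = w * (g * g) := by rw [h']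

theorem frattini_centralizes {W : Subgroup G} [W.Normal] (h4 : Nat.card W ≤ 4) {f w : G}
    (hf : f ∈ frattini G) (hw : w ∈ W) : f * w = w * f :=
  (mem_centralizer_singleton_iff.1
    (frattini_le_of_sq hG (centralizer ({w} : Set G))
      (fun g => mem_centralizer_singleton_iff.2 (sq_centralizes hG h4 g hw)) hf))

omit [Finite G] hG in
/-- In an abelian subgroup of exponent two generated by `a²` and `b²`, the commutators with `a` and `b`
are trivial as soon as they are powers of one another. -/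
theorem swap_trivial {a b : G} {i j : ℤ} {δ ε : G} {N : Subgroup G} [N.Normal]
    (hN : ∀ x ∈ N, x * x = 1) (hcov : ∀ x ∈ N, ∃ p q : ℤ, x = (a * a) ^ p * (b * b) ^ q)
    (ha : a * a ∈ N) (hb : b * b ∈ N) (hA : a * (b * b) * a⁻¹ = b * b * δ)
    (hB : b * (a * a) * b⁻¹ = a * a * ε) (hij : δ = ε ^ i) (hji : ε = δ ^ j) : δ = 1 := by
  have hcomm : ∀ x ∈ N, ∀ y ∈ N, x * y = y * x := fun x hx y hy => by
    have hi : ∀ z ∈ N, z⁻¹ = z := fun z hz => inv_eq_of_mul_eq_one_right (hN z hz)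
    calc x * y = (x * y)⁻¹ := (hi _ (mul_mem hx hy)).symm
      _ = y * x := by rw [mul_inv_rev, hi x hx, hi y hy]
  have hpow : ∀ z ∈ N, ∀ p : ℤ, z ^ p = 1 ∨ z ^ p = z := fun z hz p => by
    rcases Int.even_or_odd p with ⟨s, rfl⟩ | ⟨s, rfl⟩
    · left; rw [← two_mul, zpow_mul, zpow_two, hN z hz, one_zpow]
    · right; rw [zpow_add, zpow_one, zpow_mul, zpow_two, hN z hz, one_zpow, one_mul]
  have hδN : δ ∈ N := by
    rw [show δ = (b * b)⁻¹ * (a * (b * b) * a⁻¹) by rw [hA, inv_mul_cancel_left]]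
    exact mul_mem (inv_mem hb) (Subgroup.Normal.conj_mem inferInstance _ hb a)
  have hεN : ε ∈ N := by
    rw [show ε = (a * a)⁻¹ * (b * (a * a) * b⁻¹) by rw [hB, inv_mul_cancel_left]]
    exact mul_mem (inv_mem ha) (Subgroup.Normal.conj_mem inferInstance _ ha b)
  by_contra hne
  have hεδ : δ = ε := by
    rcases hpow ε hεN i with h | h
    · exact absurd (hij.trans h) hne
    · exact hij.trans h
  obtain ⟨p, q, hpq⟩ := hcov δ hδN
  rcases hpow _ ha p with hp | hp <;> rcases hpow _ hb q with hq | hq <;> rw [hp, hq] at hpq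
  · exact hne (by rw [hpq, one_mul])
  · rw [one_mul] at hpq
    rw [hpq, hN _ hb, conj_eq_one_iff] at hA
    exact hne (hpq.trans hA)
  · rw [mul_one] at hpq
    rw [← hεδ, hpq, hN _ ha, conj_eq_one_iff] at hB
    exact hne (hpq.trans hB)
  · rw [hpq, hcomm _ ha _ hb, ← mul_assoc (b * b) (b * b), hN _ hb, one_mul] at hA
    have e : b * b = a * a := by
      calc b * b = a⁻¹ * (a * (b * b) * a⁻¹) * a := by group
        _ = a * a := by rw [hA]; group
    exact hne (by rw [hpq, e, hN _ ha])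

omit [Finite G] hG in
theorem sq_step {a b φ : G} {i j : ℤ} {N : Subgroup G} [N.Normal]
    (hN : ∀ x ∈ N, x * x = 1) (ha : a * a ∈ N) (hb : b * b ∈ N)
    (hφ : b⁻¹ * a * b * a⁻¹ = φ) (hφN : φ ∈ N) (hφe : φ = (a * a) ^ i * (b * b) ^ j) :
    (b * b)⁻¹ * (a * (b * b) * a⁻¹) = ((a * a)⁻¹ * (b * (a * a) * b⁻¹)) ^ i := by
  have hi : ∀ z ∈ N, z⁻¹ = z := fun z hz => inv_eq_of_mul_eq_one_right (hN z hz)
  have hcomm : ∀ x ∈ N, ∀ y ∈ N, x * y = y * x := fun x hx y hy => by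
    calc x * y = (x * y)⁻¹ := (hi _ (mul_mem hx hy)).symm
      _ = y * x := by rw [mul_inv_rev, hi x hx, hi y hy]
  have hconj : ∀ x : G, x ∈ N → b⁻¹ * x * b = b * x * b⁻¹ := fun x hx => by
    calc b⁻¹ * x * b = b⁻¹ * x * (b * b) * b⁻¹ := by group
      _ = b⁻¹ * ((b * b) * x) * b⁻¹ := by rw [mul_assoc b⁻¹ x, hcomm _ hx _ hb]
      _ = b * x * b⁻¹ := by group
  have h1 : (b * b)⁻¹ * (a * (b * b) * a⁻¹) = b⁻¹ * φ * b * φ := by
    subst hφ; group
  have h2 : b⁻¹ * φ * b = (b * (a * a) * b⁻¹) ^ i * (b * b) ^ j := by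
    rw [hconj φ hφN, hφe]
    calc b * ((a * a) ^ i * (b * b) ^ j) * b⁻¹ = b * (a * a) ^ i * b⁻¹ * (b * (b * b) ^ j * b⁻¹) := by group
      _ = _ := by
        rw [conj_zpow, ((Commute.refl b).mul_right (Commute.refl b)).zpow_right j |>.eq, mul_inv_cancel_right]
  have hP := Subgroup.zpow_mem N ha i
  have hQ := Subgroup.zpow_mem N hb j
  have hR : (b * (a * a) * b⁻¹) ^ i ∈ N :=
    Subgroup.zpow_mem N (Subgroup.Normal.conj_mem inferInstance _ ha b) i
  rw [h1, h2, hφe, (show Commute (a * a)⁻¹ (b * (a * a) * b⁻¹) from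
    hcomm _ (inv_mem ha) _ (Subgroup.Normal.conj_mem inferInstance _ ha b)).mul_zpow, inv_zpow,
    hi _ hP, hcomm _ hP _ hQ, mul_assoc, ← mul_assoc ((b * b) ^ j), hN _ hQ, one_mul, hcomm _ hR _ hP]

/-- The central computation: `a²` and `b²` commute modulo the third term. -/
theorem comm_sq (N₁ N₂ : Subgroup G) [N₁.Normal] [N₂.Normal] {a b : G}
    (h1 : Bic N₁ (a * a) (b * b)) (h2 : Bic N₂ ((a * a) * (a * a)) ((b * b) * (b * b)))
    (hsq1 : ∀ x ∈ N₁, x * x ∈ N₂) (hsq2 : ∀ x ∈ N₂, x * x = 1)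
    (hφ : b⁻¹ * a * b * a⁻¹ ∈ N₁) (hψ : a⁻¹ * b * a * b⁻¹ ∈ N₁) :
    a * a * (b * b) = b * b * (a * a) := by
  set π := QuotientGroup.mk' N₂
  have hπ : Function.Surjective π := QuotientGroup.mk'_surjective _
  haveI : (N₁.map π).Normal := Subgroup.Normal.map inferInstance _ hπ
  have hNq : ∀ x ∈ N₁.map π, x * x = 1 := by
    rintro _ ⟨x, hx, rfl⟩
    rw [← map_mul]
    exact (QuotientGroup.eq_one_iff _).2 (hsq1 x hx)
  have hcov : ∀ x ∈ N₁.map π, ∃ p q : ℤ, x = (π a * π a) ^ p * (π b * π b) ^ q := by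
    rintro _ ⟨x, hx, rfl⟩
    obtain ⟨p, q, rfl⟩ := h1.cover x hx
    exact ⟨p, q, by simp⟩
  have hha : π a * π a ∈ N₁.map π := ⟨_, h1.left, map_mul _ _ _⟩
  have hhb : π b * π b ∈ N₁.map π := ⟨_, h1.right, map_mul _ _ _⟩
  have hqc : ∀ x ∈ N₁.map π, ∀ y ∈ N₁.map π, x * y = y * x := fun x hx y hy => by
    have hi : ∀ z ∈ N₁.map π, z⁻¹ = z := fun z hz => inv_eq_of_mul_eq_one_right (hNq z hz)
    calc x * y = (x * y)⁻¹ := (hi _ (mul_mem hx hy)).symm
      _ = y * x := by rw [mul_inv_rev, hi x hx, hi y hy]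
  obtain ⟨i, j, hij⟩ := h1.cover _ hφ
  obtain ⟨p, q, hpq⟩ := h1.cover _ hψ
  have e1 := sq_step (a := π a) (b := π b) (i := i) (j := j) hNq hha hhb rfl
    ⟨_, hφ, by simp⟩ (by simpa using congrArg π hij)
  have e2 := sq_step (a := π b) (b := π a) (i := q) (j := p) hNq hhb hha rfl
    ⟨_, hψ, by simp⟩ (by
      rw [hqc _ (Subgroup.zpow_mem _ hhb q) _ (Subgroup.zpow_mem _ hha p)]
      simpa using congrArg π hpq)
  set δ := (b * b)⁻¹ * (a * (b * b) * a⁻¹) with hδd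
  set ε := (a * a)⁻¹ * (b * (a * a) * b⁻¹) with hεd
  have hδ1 : π δ = 1 := by
    refine swap_trivial hNq hcov hha hhb (ε := π ε) ?_ ?_ ?_ (j := q) ?_ (i := i)
    · simp [hδd, mul_assoc]
    · simp [hεd, mul_assoc]
    · simpa [hδd, hεd] using e1
    · simpa [hδd, hεd] using e2
  have hε1 : π ε = 1 := by
    have : π ε = (π δ) ^ q := by simpa [hδd, hεd] using e2
    rw [this, hδ1, one_zpow]
  have hδW : δ ∈ N₂ := (QuotientGroup.eq_one_iff _).1 hδ1
  have hεW : ε ∈ N₂ := (QuotientGroup.eq_one_iff _).1 hε1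
  have hWcomm : ∀ x ∈ N₂, ∀ y ∈ N₂, x * y = y * x := fun x hx y hy => by
    have hi : ∀ z ∈ N₂, z⁻¹ = z := fun z hz => inv_eq_of_mul_eq_one_right (hsq2 z hz)
    calc x * y = (x * y)⁻¹ := (hi _ (mul_mem hx hy)).symm
      _ = y * x := by rw [mul_inv_rev, hi x hx, hi y hy]
  have hW4 : Nat.card N₂ ≤ 4 := by
    have := h2.bc.card_le
    refine this.trans (le_trans (Nat.mul_le_mul ?_ ?_) (le_refl (2 * 2)))
    · exact Nat.le_of_dvd two_pos (orderOf_dvd_of_pow_eq_one (by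
        rw [pow_two]; exact Subtype.ext (hsq2 _ h2.left)))
    · exact Nat.le_of_dvd two_pos (orderOf_dvd_of_pow_eq_one (by
        rw [pow_two]; exact Subtype.ext (hsq2 _ h2.right)))
  have hcb : ∀ w ∈ N₂, b * b * w = w * (b * b) := fun w hw => sq_centralizes hG hW4 b hw
  have hA : a * (b * b) * a⁻¹ = b * b * δ := by rw [hδd, mul_inv_cancel_left]
  have hA4 : a * (b * b * (b * b)) * a⁻¹ = b * b * (b * b) := by
    calc a * (b * b * (b * b)) * a⁻¹ = a * (b * b) * a⁻¹ * (a * (b * b) * a⁻¹) := by group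
      _ = b * b * (δ * (b * b)) * δ := by rw [hA]; group
      _ = b * b * (b * b) * (δ * δ) := by rw [← hcb δ hδW]; group
      _ = b * b * (b * b) := by rw [hsq2 δ hδW, mul_one]
  have hAW : ∀ w ∈ N₂, a * w * a⁻¹ = w := fun w hw => by
    obtain ⟨r, s, rfl⟩ := h2.cover w hw
    calc a * ((a * a * (a * a)) ^ r * (b * b * (b * b)) ^ s) * a⁻¹
        = (a * (a * a * (a * a)) * a⁻¹) ^ r * (a * (b * b * (b * b)) * a⁻¹) ^ s := by
          rw [conj_zpow, conj_zpow]; group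
      _ = _ := by rw [hA4]; congr 2; group
  calc a * a * (b * b) = a * (a * (b * b) * a⁻¹) * a⁻¹ * (a * a) := by group
    _ = a * (b * b) * a⁻¹ * (a * δ * a⁻¹) * (a * a) := by nth_rewrite 1 [hA]; group
    _ = b * b * (δ * δ) * (a * a) := by rw [hA, hAW δ hδW, mul_assoc (b * b)]
    _ = b * b * (a * a) := by rw [hsq2 δ hδW, mul_one]

/-- Each term of the series is abelian modulo the next but one. -/
theorem phiK_comm {a b : G} (hb : BC a b) {k : ℕ} {x y : G} (hx : x ∈ phiK G (k + 1))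
    (hy : y ∈ phiK G (k + 1)) : x * y * x⁻¹ * y⁻¹ ∈ phiK G (k + 3) := by
  haveI : Fact (Nat.Prime 2) := ⟨Nat.prime_two⟩
  set π := QuotientGroup.mk' (phiK G (k + 3))
  have hπ : Function.Surjective π := QuotientGroup.mk'_surjective _
  haveI : ((phiK G (k + 1)).map π).Normal := Subgroup.Normal.map inferInstance _ hπ
  haveI : ((phiK G (k + 2)).map π).Normal := Subgroup.Normal.map inferInstance _ hπ
  have hk := bic_phiK hG hb k
  have hk1 := bic_phiK hG hb (k + 1)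
  have hk2 := bic_phiK hG hb (k + 2)
  have e1 : ∀ c : G, c ^ 2 ^ (k + 1) = c ^ 2 ^ k * c ^ 2 ^ k := fun c => by
    rw [← pow_add, ← two_mul, ← pow_succ']
  have e2 : ∀ c : G, c ^ 2 ^ (k + 2) = c ^ 2 ^ k * c ^ 2 ^ k * (c ^ 2 ^ k * c ^ 2 ^ k) := fun c => by
    rw [← e1, ← pow_add, ← two_mul, ← pow_succ']
  rw [e1, e1] at hk1
  rw [e2, e2] at hk2
  set A := a ^ 2 ^ k
  set B := b ^ 2 ^ k
  have hmap : ∀ {N : Subgroup G} {c d : G}, Bic N c d → Bic (N.map π) (π c) (π d) := fun h =>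
    ⟨mem_map_of_mem _ h.left, mem_map_of_mem _ h.right, by
      rintro _ ⟨n, hn, rfl⟩
      obtain ⟨i, j, rfl⟩ := h.cover n hn
      exact ⟨i, j, by simp⟩⟩
  have m1 := hmap hk1
  have m2 := hmap hk2
  simp only [map_mul] at m1 m2
  have key := comm_sq (hG.to_quotient _) ((phiK G (k + 1)).map π) ((phiK G (k + 2)).map π) m1 m2 ?_ ?_ ?_ ?_
  rotate_left
  · rintro _ ⟨n, hn, rfl⟩
    exact ⟨_, phiK_sq hG hn, map_mul _ _ _⟩
  · rintro _ ⟨n, hn, rfl⟩
    rw [← map_mul]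
    exact (QuotientGroup.eq_one_iff _).2 (phiK_sq hG hn)
  · refine ⟨B⁻¹ * A * B * A⁻¹, ?_, by simp⟩
    simpa using phiK_commutator hG (inv_mem hk.right) hk.left
  · refine ⟨A⁻¹ * B * A * B⁻¹, ?_, by simp⟩
    simpa using phiK_commutator hG (inv_mem hk.left) hk.right
  rw [← QuotientGroup.eq_one_iff, ← QuotientGroup.mk'_apply]
  have hcm : ∀ n ∈ phiK G (k + 1), ∀ c : G ⧸ phiK G (k + 3), Commute c (π A * π A) →
      Commute c (π B * π B) → Commute c (π n) := by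
    intro n hn c h1 h2
    obtain ⟨i, j, rfl⟩ := hk1.cover n hn
    simp only [map_mul, map_zpow]
    exact (h1.zpow_right i).mul_right (h2.zpow_right j)
  have h1 : Commute (π x) (π y) := by
    refine hcm y hy _ ?_ ?_
    · exact (hcm x hx _ (Commute.refl _) key).symm
    · exact (hcm x hx _ key.symm (Commute.refl _)).symm
  rw [map_mul, map_mul, map_mul, map_inv, map_inv, h1.eq]
  exact (congrArg (· * (π y)⁻¹) (mul_inv_cancel_right (π y) (π x))).trans (mul_inv_cancel _)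

end Cfsg.Agent.Bicyclic
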