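import Cfsg.Agent.Bicyclic.Basic
import Cfsg.Prelude.Def_OddOrderLocal
import Mathlib.RingTheory.Coprime.Lemmas

/-!
The shape of a bicyclic 2-group which is not metacyclic and has cyclic derived subgroup.
-/

set_option autoImplicit false

open Subgroup
open scoped commutatorElement

namespace Cfsg.Agent.Bicyclic

universe u

variable {G : Type u} [Group G]

/-- Generators and relations of a nonmetacyclic bicyclic 2-group with cyclic derived subgroup. -/
structure Shape (c y w a : G) (n r : ℕ) (μ e : ℤ) : Prop where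
  ord : orderOf c = 2 ^ n
  npos : 1 ≤ n
  two_le : 2 ≤ r
  derived : zpowers c = commutator G
  odd : Odd μ
  e_def : 2 * e = -(μ + 1)
  conj_ac : a * c * a⁻¹ = c ^ μ
  conj_yc : y * c * y⁻¹ = c⁻¹
  conj_ay : a * y * a⁻¹ = c * y
  w_def : w = c ^ e * (a * a)
  wy : w * y = y * w
  y_sq : ∃ q : ℤ, y * y = c ^ (2 * q)
  y_four : y * y * (y * y) = 1
  a_pow : ∃ p : ℤ, a ^ (2 ^ r) = c ^ (2 * p)
  indep : ∀ ε j : ℤ, y ^ ε * a ^ j ∈ zpowers c → 2 ∣ ε ∧ (2 : ℤ) ^ r ∣ j
  cover : ∀ g : G, ∃ p ε j : ℤ, g = c ^ p * y ^ ε * a ^ j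

/-- A cyclic subgroup containing the derived subgroup with a cyclic complement gives a metacyclic group. -/
theorem metacyclic_of_gen {g h : G} (hle : commutator G ≤ zpowers g)
    (hgen : zpowers g ⊔ zpowers h = ⊤) : Cfsg.IsMetacyclic G := by
  have hn : (zpowers g).Normal := ⟨fun x hx k => by
    have h1 : k * x * k⁻¹ * x⁻¹ ∈ commutator G := by
      rw [← commutatorElement_def, _root_.commutator_def]
      exact commutator_mem_commutator (mem_top k) (mem_top x)
    have := mul_mem (hle h1) hx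
    rwa [inv_mul_cancel_right] at this⟩
  refine ⟨zpowers g, hn, inferInstance, ⟨⟨(h : G ⧸ zpowers g), fun q => ?_⟩⟩⟩
  obtain ⟨x, rfl⟩ := QuotientGroup.mk_surjective q
  have hx : x ∈ zpowers g ⊔ zpowers h := hgen ▸ mem_top x
  obtain ⟨u, hu, v, hv, rfl⟩ := mem_sup_of_normal_left.1 hx
  obtain ⟨i, rfl⟩ := mem_zpowers_iff.1 hv
  refine mem_zpowers_iff.2 ⟨i, ?_⟩
  rw [QuotientGroup.mk_mul, (QuotientGroup.eq_one_iff u).2 hu, one_mul, QuotientGroup.mk_zpow]

/-- An element whose order is a power of two is a power of each of its odd powers. -/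
theorem mem_zpowers_zpow_odd {x : G} {k : ℕ} (hx : orderOf x = 2 ^ k) {p : ℤ} (hp : Odd p) :
    x ∈ zpowers (x ^ p) := by
  have h2 : IsCoprime (2 : ℤ) p := by
    obtain ⟨t, rfl⟩ := hp
    exact ⟨-t, 1, by ring⟩
  obtain ⟨A, B, h⟩ := (h2.pow_left (m := k))
  refine mem_zpowers_iff.2 ⟨B, ?_⟩
  have h1 : x ^ ((2 : ℤ) ^ k) = 1 := by
    rw [← orderOf_dvd_iff_zpow_eq_one, hx]; push_cast; exact dvd_refl _
  calc (x ^ p) ^ B = x ^ (A * 2 ^ k + B * p) := by
        rw [zpow_add, mul_comm A, zpow_mul x ((2 : ℤ) ^ k), h1, one_zpow, one_mul, mul_comm B, zpow_mul]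
    _ = x := by rw [h, zpow_one]

theorem commute_sq_of_twist {H : Type u} [Group H] {Y v z : H} (hz : z * z = 1) (hzc : ∀ x, Commute z x)
    (h : v * Y * v⁻¹ = z * Y) : Commute v (Y * Y) := by
  have hv : v * Y = z * Y * v := by rw [← h]; group
  show v * (Y * Y) = Y * Y * v
  calc v * (Y * Y) = v * Y * Y := (mul_assoc v Y Y).symm
    _ = z * Y * v * Y := by rw [hv]
    _ = z * Y * (v * Y) := mul_assoc _ v Y
    _ = z * (Y * z) * (Y * v) := by rw [hv]; group
    _ = z * z * (Y * Y * v) := by rw [← (hzc Y).eq]; group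
    _ = _ := by rw [hz, one_mul]

theorem pow_four_of_twist {H : Type u} [Group H] {Y v z : H} (hz : z * z = 1) (hzc : ∀ x, Commute z x)
    (h : v * Y * v⁻¹ = z * Y) : (Y * v) ^ 4 = (Y * Y) ^ 2 * (v * v) ^ 2 := by
  have hv : v * Y = z * Y * v := by rw [← h]; group
  have hYY : Commute v (Y * Y) := commute_sq_of_twist hz hzc h
  have hsq : Y * v * (Y * v) = z * (Y * Y * (v * v)) := by
    calc Y * v * (Y * v) = Y * (v * Y) * v := by group
      _ = Y * z * (Y * (v * v)) := by rw [hv]; group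
      _ = _ := by rw [← (hzc Y).eq]; group
  rw [show (Y * v) ^ 4 = (Y * v * (Y * v)) ^ 2 by rw [← pow_two, ← pow_mul], hsq, (hzc _).mul_pow,
    pow_two z, hz, one_mul, ((hYY.mul_left hYY).symm).mul_pow]

variable [Finite G] (hG : IsPGroup 2 G)
include hG

/-- Independence of the two factors and the reduction of the second generator. -/
theorem exists_split {a b : G} (hb : BC a b) (hle : orderOf (QuotientGroup.mk' (commutator G) b) ≤
    orderOf (QuotientGroup.mk' (commutator G) a)) :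
    ∃ (r s : ℕ) (u : ℤ) (y : G), b = y * a ^ u ∧ a ^ (2 ^ r) ∈ commutator G ∧ y ^ (2 ^ s) ∈ commutator G ∧
      s ≤ r ∧ ∀ ε j : ℤ, y ^ ε * a ^ j ∈ commutator G → (2 : ℤ) ^ s ∣ ε ∧ (2 : ℤ) ^ r ∣ j := by
  haveI : Fact (Nat.Prime 2) := ⟨Nat.prime_two⟩
  set π := QuotientGroup.mk' (commutator G) with hπ
  have hmem : ∀ x, x ∈ commutator G ↔ π x = 1 := fun x => (QuotientGroup.eq_one_iff x).symm
  have hcomm : ∀ x z : G, π x * π z = π z * π x := fun x z => by
    rw [← commutatorElement_eq_one_iff_mul_comm, ← map_commutatorElement, ← hmem, _root_.commutator_def]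
    exact commutator_mem_commutator (mem_top x) (mem_top z)
  have hQ : IsPGroup 2 (G ⧸ commutator G) := hG.to_quotient _
  obtain ⟨r, hr⟩ := exists_two_pow hQ (π a)
  obtain ⟨m, hm⟩ := exists_two_pow hQ (π b)
  have hmr : m ≤ r := (Nat.pow_le_pow_iff_right (le_refl 2)).1 (hm ▸ hr ▸ hle)
  set A := zpowers (π a) with hA
  haveI hAn : A.Normal := ⟨fun x hx k => by
    obtain ⟨k, rfl⟩ := QuotientGroup.mk'_surjective _ k
    obtain ⟨i, rfl⟩ := mem_zpowers_iff.1 hx
    rw [← map_zpow, hcomm, mul_inv_cancel_right, map_zpow]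
    exact zpow_mem_zpowers _ i⟩
  obtain ⟨s, hsm, hs⟩ : ∃ s ≤ m, orderOf (QuotientGroup.mk' A (π b)) = 2 ^ s :=
    (Nat.dvd_prime_pow Nat.prime_two).1 (hm ▸ orderOf_map_dvd _ (π b))
  have hiff : ∀ i : ℤ, π b ^ i ∈ A ↔ (2 : ℤ) ^ s ∣ i := fun i => by
    rw [← QuotientGroup.eq_one_iff, ← QuotientGroup.mk'_apply, map_zpow, ← orderOf_dvd_iff_zpow_eq_one, hs]
    push_cast
    rfl
  obtain ⟨t, ht⟩ := mem_zpowers_iff.1 ((hiff ((2 : ℤ) ^ s)).2 dvd_rfl)
  have har : π a ^ ((2 : ℤ) ^ r) = 1 := by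
    rw [← orderOf_dvd_iff_zpow_eq_one, hr]; push_cast; exact dvd_refl _
  obtain ⟨u, rfl⟩ : (2 : ℤ) ^ s ∣ t := by
    have hbm : π b ^ ((2 : ℤ) ^ m) = 1 := by
      rw [← orderOf_dvd_iff_zpow_eq_one, hm]; push_cast; exact dvd_refl _
    have h1 : π a ^ (t * 2 ^ (m - s)) = 1 := by
      rw [zpow_mul, ht, ← zpow_mul, ← pow_add, Nat.add_sub_cancel' hsm, hbm]
    rw [← orderOf_dvd_iff_zpow_eq_one, hr] at h1
    push_cast at h1
    have h2 : (2 : ℤ) ^ s * 2 ^ (m - s) ∣ t * 2 ^ (m - s) := by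
      rw [← pow_add, Nat.add_sub_cancel' hsm]
      exact (pow_dvd_pow 2 hmr).trans h1
    exact Int.dvd_of_mul_dvd_mul_right (by positivity) h2
  refine ⟨r, s, u, b * a ^ (-u), by group, ?_, ?_, hsm.trans hmr, fun ε j h => ?_⟩
  · rw [hmem, map_pow, ← hr, pow_orderOf_eq_one]
  · rw [hmem, map_pow, map_mul, map_zpow, (show Commute (π b) (π a ^ (-u)) by
      rw [← map_zpow]; exact hcomm _ _).mul_pow, ← zpow_natCast, ← zpow_natCast, ← zpow_mul]
    push_cast
    rw [← ht, ← zpow_add, show (2 : ℤ) ^ s * u + -u * 2 ^ s = 0 by ring, zpow_zero]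
  · rw [hmem, map_mul, map_zpow, map_mul, map_zpow, map_zpow, (show Commute (π b) (π a ^ (-u)) by
      rw [← map_zpow]; exact hcomm _ _).mul_zpow, ← zpow_mul, mul_assoc, ← zpow_add] at h
    have hε : (2 : ℤ) ^ s ∣ ε := by
      rw [← hiff, eq_inv_of_mul_eq_one_left h]
      exact inv_mem (zpow_mem_zpowers _ _)
    obtain ⟨k, rfl⟩ := hε
    refine ⟨dvd_mul_right _ _, ?_⟩
    rw [zpow_mul, ← ht, ← zpow_mul, ← zpow_add,
      show (2 : ℤ) ^ s * u * k + (-u * (2 ^ s * k) + j) = j by ring, ← orderOf_dvd_iff_zpow_eq_one, hr] at h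
    push_cast at h
    exact h

/-- A bicyclic 2-group with cyclic derived subgroup is abelian, metacyclic or of the standard shape. -/
theorem exists_shape {a₀ b₀ : G} (hb₀ : BC a₀ b₀) (hcyc : IsCyclic ↥(commutator G))
    (hnm : ¬ Cfsg.IsMetacyclic G) :
    ∃ (c y w a : G) (n r : ℕ) (μ e : ℤ), Shape c y w a n r μ e := by
  haveI : Fact (Nat.Prime 2) := ⟨Nat.prime_two⟩
  obtain ⟨a, b, hb, hle⟩ : ∃ a b : G, BC a b ∧ orderOf (QuotientGroup.mk' (commutator G) b) ≤
      orderOf (QuotientGroup.mk' (commutator G) a) := by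
    rcases le_total (orderOf (QuotientGroup.mk' (commutator G) b₀))
      (orderOf (QuotientGroup.mk' (commutator G) a₀)) with h | h
    exacts [⟨a₀, b₀, hb₀, h⟩, ⟨b₀, a₀, hb₀.symm, h⟩]
  obtain ⟨r, s, u, y, hby, har, hys, hsr, hindep⟩ := exists_split hG hb hle
  obtain ⟨c₀, hc₀⟩ : ∃ c₀ : G, zpowers c₀ = commutator G := (Subgroup.isCyclic_iff_exists_zpowers_eq_top _).1 hcyc
  obtain ⟨n, hn⟩ := exists_two_pow hG c₀
  have hab : zpowers a ⊔ zpowers y = ⊤ := eq_top_iff.2 fun g _ => by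
    obtain ⟨i, j, rfl⟩ := hb g
    rw [hby]
    exact mul_mem (mem_sup_left (zpow_mem_zpowers a i))
      (zpow_mem (mul_mem (mem_sup_right (mem_zpowers y)) (mem_sup_left (zpow_mem_zpowers a u))) j)
  have hnc : c₀ ≠ 1 := fun h => hnm (metacyclic_of_gen (g := a) (h := y)
    (by rw [← hc₀, h, zpowers_one_eq_bot]; exact bot_le) hab)
  have hn1 : 1 ≤ n := Nat.pos_of_ne_zero fun h => hnc (orderOf_eq_one_iff.1 (by rw [hn, h, pow_zero]))
  -- the squares of the derived subgroup
  set E := zpowers (c₀ * c₀) with hE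
  haveI hEn : E.Normal := ⟨fun x hx k => by
    obtain ⟨i, rfl⟩ := mem_zpowers_iff.1 hx
    have hm : k * c₀ * k⁻¹ ∈ commutator G :=
      Subgroup.Normal.conj_mem inferInstance _ (hc₀ ▸ mem_zpowers c₀) k
    rw [← hc₀] at hm
    obtain ⟨j, hj⟩ := mem_zpowers_iff.1 hm
    rw [← conj_zpow, show k * (c₀ * c₀) * k⁻¹ = (k * c₀ * k⁻¹) * (k * c₀ * k⁻¹) by group, ← hj,
      ← (Commute.refl c₀).mul_zpow, ← zpow_mul]
    exact zpow_mem_zpowers _ _⟩
  have hEc : ∀ p : ℤ, c₀ ^ p ∈ E ↔ Even p := fun p => by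
    constructor
    · intro h
      obtain ⟨i, hi⟩ := mem_zpowers_iff.1 h
      rw [← pow_two, ← zpow_natCast, ← zpow_mul, ← mul_inv_eq_one, ← zpow_neg, ← zpow_add,
        ← orderOf_dvd_iff_zpow_eq_one, hn] at hi
      obtain ⟨n', rfl⟩ : ∃ n', n = n' + 1 := ⟨n - 1, by omega⟩
      obtain ⟨k, hk⟩ := hi
      push_cast [pow_succ] at hk
      exact ⟨i - 2 ^ n' * k, by linarith⟩
    · rintro ⟨i, rfl⟩
      rw [zpow_add, ← (Commute.refl c₀).mul_zpow]
      exact zpow_mem_zpowers _ i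
  set π := QuotientGroup.mk' E with hπ
  have hmem : ∀ x, x ∈ E ↔ π x = 1 := fun x => (QuotientGroup.eq_one_iff x).symm
  set ζ := π c₀ with hζ
  have hζ2 : ζ * ζ = 1 := by rw [hζ, ← map_mul, ← hmem]; exact mem_zpowers _
  have hDζ : ∀ x ∈ commutator G, π x = 1 ∨ π x = ζ := fun x hx => by
    rw [← hc₀] at hx
    obtain ⟨p, rfl⟩ := mem_zpowers_iff.1 hx
    rw [map_zpow, ← hζ]
    rcases Int.even_or_odd p with ⟨i, rfl⟩ | ⟨i, rfl⟩
    · left; rw [zpow_add, ← (Commute.refl ζ).mul_zpow, hζ2, one_zpow]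
    · right; rw [zpow_add, zpow_one, zpow_mul, zpow_two, hζ2, one_zpow, one_mul]
  have hζ1 : ζ ≠ 1 := fun h => by
    have := (hEc 1).1 (by rw [zpow_one, hmem]; exact h)
    exact Int.not_even_one this
  have hπc : ∀ x z : G, π x * π z = π z * π x ∨ π x * π z = ζ * (π z * π x) := fun x z => by
    rcases hDζ ⁅x, z⁆ (by rw [_root_.commutator_def]; exact commutator_mem_commutator (mem_top _) (mem_top _))
      with h | h
    · exact Or.inl (commutatorElement_eq_one_iff_mul_comm.1 (by rw [← map_commutatorElement, h]))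
    · refine Or.inr ?_
      rw [← h, map_commutatorElement, commutatorElement_def]
      group
  have hζc : ∀ q, Commute ζ q := fun q => by
    obtain ⟨x, rfl⟩ := QuotientGroup.mk'_surjective _ q
    show π c₀ * π x = π x * π c₀
    rcases hπc c₀ x with h | h
    · exact h
    · have hm : x * c₀ * x⁻¹ ∈ commutator G :=
        Subgroup.Normal.conj_mem inferInstance _ (hc₀ ▸ mem_zpowers c₀) x
      rcases hDζ _ hm with h' | h'
      · rw [map_mul, map_mul, map_inv, conj_eq_one_iff] at h'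
        exact absurd h' hζ1
      · rw [map_mul, map_mul, map_inv, mul_inv_eq_iff_eq_mul] at h'
        exact h'.symm
  have hgenH : ∀ q, ∃ i j : ℤ, q = π a ^ i * (π y * π a ^ u) ^ j := fun q => by
    obtain ⟨x, rfl⟩ := QuotientGroup.mk'_surjective _ q
    obtain ⟨i, j, rfl⟩ := hb x
    exact ⟨i, j, by rw [hby, map_mul, map_zpow, map_zpow, map_mul, map_zpow]⟩
  -- `π a` and `π y` do not commute
  have hncomm : π a * π y ≠ π y * π a := fun h => by
    have hcm : ∀ x z : G, π x * π z = π z * π x := fun x z => by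
      obtain ⟨i, j, hx⟩ := hgenH (π x)
      obtain ⟨k, l, hz⟩ := hgenH (π z)
      have h1 : Commute (π a) (π y * π a ^ u) :=
        (show Commute (π a) (π y) from h).mul_right ((Commute.refl _).zpow_right u)
      rw [hx, hz]
      exact (((Commute.refl (π a)).zpow_zpow i k).mul_right (h1.zpow_zpow i l)).mul_left
        ((h1.symm.zpow_zpow j k).mul_right ((Commute.refl _).zpow_zpow j l))
    have hle' : commutator G ≤ E := by
      rw [_root_.commutator_def, Subgroup.commutator_le]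
      intro x _ z _
      rw [hmem, map_commutatorElement, commutatorElement_eq_one_iff_mul_comm]
      exact hcm x z
    exact hζ1 ((hmem _).1 (hle' (hc₀ ▸ mem_zpowers c₀)))
  have hev : ∀ (g h : G) (k : ℕ), zpowers g ⊔ zpowers h = ⊤ → g ^ k ∈ commutator G → π g ^ k = 1 := by
    intro g h k hgh hk
    rw [← map_pow]
    rw [← hc₀] at hk
    obtain ⟨p, hp⟩ := mem_zpowers_iff.1 hk
    rw [← hp, ← hmem, hEc]
    by_contra hodd
    refine hnm (metacyclic_of_gen (g := g) (h := h) ?_ hgh)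
    rw [← hc₀, zpowers_le]
    have h1 := mem_zpowers_zpow_odd hn (Int.not_even_iff_odd.1 hodd)
    rw [hp] at h1
    exact zpowers_le.2 (npow_mem_zpowers g k) h1
  have hA : π a ^ 2 ^ r = 1 := hev a y _ hab har
  have hY : π y ^ 2 ^ s = 1 := hev y a _ (by rw [sup_comm]; exact hab) hys
  obtain rfl : s = 1 := by
    rcases s with _ | _ | s
    · rw [pow_zero, pow_one] at hY
      exact absurd (by rw [hY, one_mul, mul_one]) hncomm
    · rfl
    · exfalso
      set v := π a ^ u with hv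
      obtain ⟨z, hz, hzc, hvy⟩ : ∃ z, z * z = 1 ∧ (∀ x, Commute z x) ∧ v * π y * v⁻¹ = z * π y := by
        rw [hv, ← map_zpow]
        rcases hπc (a ^ u) y with h | h
        · exact ⟨1, one_mul 1, fun x => Commute.one_left x, by rw [h, mul_inv_cancel_right, one_mul]⟩
        · exact ⟨ζ, hζ2, hζc, by rw [h]; group⟩
      set B := π y * v with hB
      set Z := (B ^ 4) with hZ
      have hcomm4 : Commute ((π y * π y) ^ 2) ((v * v) ^ 2) := by
        have h2 : Commute v (π y * π y) := commute_sq_of_twist hz hzc hvy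
        exact ((h2.mul_left h2).pow_pow 2 2).symm
      have hB' : B ^ 2 ^ (s + 2) = v ^ 2 ^ (s + 2) := by
        have e4 : ∀ x : G ⧸ E, (x * x) ^ 2 = x ^ 4 := fun x => by rw [← pow_two, ← pow_mul]
        rw [hB, show 2 ^ (s + 2) = 4 * 2 ^ s by ring, pow_mul, pow_four_of_twist hz hzc hvy, hcomm4.mul_pow,
          e4, e4, ← pow_mul, show 4 * 2 ^ s = 2 ^ (s + 1 + 1) by ring, hY, one_mul, ← pow_mul]
        congr 1
        ring
      -- hence the quotient is no larger than the commutator quotient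
      have hsurj : Function.Surjective (fun x : Fin (2 ^ r) × Fin (2 ^ (s + 2)) =>
          π a ^ (x.1 : ℕ) * B ^ (x.2 : ℕ)) := fun q => by
        obtain ⟨i, j, rfl⟩ := hgenH q
        set N : ℤ := 2 ^ (s + 2)
        have hN : B ^ N = π a ^ (u * N) := by
          have : N = ((2 ^ (s + 2) : ℕ) : ℤ) := by simp [N]
          rw [zpow_mul, ← hv, this, zpow_natCast, zpow_natCast, hB']
        set M : ℤ := 2 ^ r
        have hM : π a ^ M = 1 := by
          have : M = ((2 ^ r : ℕ) : ℤ) := by simp [M]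
          rw [this, zpow_natCast, hA]
        have hj0 := Int.emod_nonneg j (show N ≠ 0 by positivity)
        have hj1 := Int.emod_lt_of_pos j (show 0 < N by positivity)
        set i' := i + u * N * (j / N) with hi'
        have hi0 := Int.emod_nonneg i' (show M ≠ 0 by positivity)
        have hi1 := Int.emod_lt_of_pos i' (show 0 < M by positivity)
        refine ⟨(⟨(i' % M).toNat, by
            have e : ((2 ^ r : ℕ) : ℤ) = M := by simp [M]
            omega⟩, ⟨(j % N).toNat, by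
            have e : ((2 ^ (s + 2) : ℕ) : ℤ) = N := by simp [N]
            omega⟩), ?_⟩
        show π a ^ (i' % M).toNat * B ^ (j % N).toNat = _
        rw [← zpow_natCast, ← zpow_natCast, Int.toNat_of_nonneg hi0, Int.toNat_of_nonneg hj0]
        have e1 : π a ^ (i' % M) = π a ^ i' := by
          conv_rhs => rw [← Int.emod_add_mul_ediv i' M, zpow_add, zpow_mul, hM, one_zpow, mul_one]
        rw [e1]
        show π a ^ i' * B ^ (j % N) = π a ^ i * B ^ j
        conv_rhs => rw [← Int.emod_add_mul_ediv j N, add_comm, zpow_add, zpow_mul B N, hN, ← zpow_mul]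
        rw [hi', zpow_add, mul_assoc]
      have hcard : Nat.card (G ⧸ E) ≤ 2 ^ r * 2 ^ (s + 2) := by
        refine (Nat.card_le_card_of_surjective _ hsurj).trans ?_
        rw [Nat.card_prod, Nat.card_fin, Nat.card_fin]
      -- the commutator quotient has at least that many elements
      set π₀ := QuotientGroup.mk' (commutator G)
      have hinj : Function.Injective (fun x : Fin (2 ^ r) × Fin (2 ^ (s + 2)) =>
          π₀ (y ^ ((x.2 : ℕ) : ℤ) * a ^ ((x.1 : ℕ) : ℤ))) := by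
        rintro ⟨i, j⟩ ⟨i', j'⟩ h
        have h1 : π₀ (y ^ (((j : ℕ) : ℤ) - (j' : ℕ)) * a ^ (((i : ℕ) : ℤ) - (i' : ℕ))) = 1 := by
          have hcm : ∀ x z : G, π₀ x * π₀ z = π₀ z * π₀ x := fun x z => by
            rw [← commutatorElement_eq_one_iff_mul_comm, ← map_commutatorElement]
            exact (QuotientGroup.eq_one_iff _).2 (by
              rw [_root_.commutator_def]; exact commutator_mem_commutator (mem_top x) (mem_top z))
          simp only [map_mul, map_zpow] at h ⊢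
          rw [zpow_sub, zpow_sub]
          have hc2 : Commute (π₀ y) (π₀ a) := hcm y a
          calc π₀ y ^ (↑↑j : ℤ) * (π₀ y ^ (↑↑j' : ℤ))⁻¹ * (π₀ a ^ (↑↑i : ℤ) * (π₀ a ^ (↑↑i' : ℤ))⁻¹)
              = π₀ y ^ (↑↑j : ℤ) * ((π₀ y ^ (↑↑j' : ℤ))⁻¹ * π₀ a ^ (↑↑i : ℤ)) * (π₀ a ^ (↑↑i' : ℤ))⁻¹ := by group
            _ = π₀ y ^ (↑↑j : ℤ) * π₀ a ^ (↑↑i : ℤ) * ((π₀ y ^ (↑↑j' : ℤ))⁻¹ * (π₀ a ^ (↑↑i' : ℤ))⁻¹) := by
              rw [((hc2.zpow_zpow _ _).inv_left).eq]; group
            _ = 1 := by rw [h, ((hc2.zpow_zpow _ _).inv_inv).eq]; group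
        obtain ⟨d1, d2⟩ := hindep _ _ ((QuotientGroup.eq_one_iff _).1 h1)
        have hi := i.2; have hi' := i'.2; have hj := j.2; have hj' := j'.2
        have key : ∀ {k x x' : ℕ}, x < 2 ^ k → x' < 2 ^ k → (2 : ℤ) ^ k ∣ (x : ℤ) - x' → x = x' := by
          intro k x x' hx hx' hd
          have h2 : ((x : ℤ) - x') = 0 := by
            refine Int.eq_zero_of_abs_lt_dvd hd ?_
            rw [abs_lt]
            have e : ((2 ^ k : ℕ) : ℤ) = (2 : ℤ) ^ k := by simp
            constructor <;> omega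
          omega
        exact Prod.ext (Fin.ext (key hi hi' d2)) (Fin.ext (key hj hj' d1))
      have hcard' : 2 ^ r * 2 ^ (s + 2) ≤ Nat.card (G ⧸ commutator G) := by
        have := Nat.card_le_card_of_injective _ hinj
        rwa [Nat.card_prod, Nat.card_fin, Nat.card_fin] at this
      have hEle : E ≤ commutator G := by
        rw [hE, zpowers_le, ← hc₀]; exact mul_mem (mem_zpowers _) (mem_zpowers _)
      set f := QuotientGroup.map E (commutator G) (MonoidHom.id G) hEle
      have hf : Function.Surjective f := fun q => by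
        obtain ⟨x, rfl⟩ := QuotientGroup.mk_surjective q
        exact ⟨(x : G ⧸ E), rfl⟩
      have hbij := hf.bijective_of_nat_card_le (hcard.trans hcard')
      refine hζ1 (hbij.1 ?_)
      rw [map_one]
      exact (QuotientGroup.eq_one_iff _).2 (hc₀ ▸ mem_zpowers c₀)
  have hr2 : 2 ≤ r := by
    by_contra hr
    obtain rfl : r = 1 := by omega
    rw [pow_one, pow_two] at hA hY
    have hd : π a * π y = ζ * (π y * π a) := (hπc a y).resolve_left hncomm
    have hsq : π (a * y * (a * y)) = ζ := by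
      rw [map_mul, map_mul]
      calc π a * π y * (π a * π y) = ζ * (π y * π a) * (π a * π y) := by nth_rw 1 [hd]
        _ = ζ * (π y * (π a * π a) * π y) := by group
        _ = ζ := by rw [hA, mul_one, hY, mul_one]
    have hD : a * y * (a * y) ∈ commutator G := by
      set π₀ := QuotientGroup.mk' (commutator G)
      have h0 : ∀ x, x ∈ commutator G ↔ π₀ x = 1 := fun x => (QuotientGroup.eq_one_iff x).symm
      have hcm : π₀ y * π₀ a = π₀ a * π₀ y := by
        rw [← commutatorElement_eq_one_iff_mul_comm, ← map_commutatorElement, ← h0, _root_.commutator_def]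
        exact commutator_mem_commutator (mem_top _) (mem_top _)
      rw [pow_one, pow_two, h0, map_mul] at har hys
      rw [h0, map_mul, map_mul]
      calc π₀ a * π₀ y * (π₀ a * π₀ y) = π₀ a * (π₀ y * π₀ a) * π₀ y := by group
        _ = (π₀ a * π₀ a) * (π₀ y * π₀ y) := by rw [hcm]; group
        _ = 1 := by rw [har, hys, one_mul]
    rw [← hc₀] at hD
    obtain ⟨p, hp⟩ := mem_zpowers_iff.1 hD
    refine hnm (metacyclic_of_gen (g := a * y) (h := a) ?_ ?_)
    · rw [← hc₀, zpowers_le]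
      have hodd : Odd p := Int.not_even_iff_odd.1 fun h => hζ1 (by
        rw [← hsq, ← hp, ← hmem, hEc]; exact h)
      have h1 := mem_zpowers_zpow_odd hn hodd
      rw [hp] at h1
      exact zpowers_le.2 (mul_mem (mem_zpowers _) (mem_zpowers _)) h1
    · refine eq_top_iff.2 (hab ▸ sup_le le_sup_right (zpowers_le.2 ?_))
      have : a⁻¹ * (a * y) ∈ zpowers (a * y) ⊔ zpowers a :=
        mul_mem (mem_sup_right (inv_mem (mem_zpowers a))) (mem_sup_left (mem_zpowers _))
      rwa [inv_mul_cancel_left] at this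
  -- the generator
  set c := a * y * a⁻¹ * y⁻¹ with hc
  have hcD : c ∈ commutator G := by
    rw [hc, ← commutatorElement_def, _root_.commutator_def]
    exact commutator_mem_commutator (mem_top _) (mem_top _)
  obtain ⟨k, hk⟩ := mem_zpowers_iff.1 (hc₀ ▸ hcD)
  have hkodd : Odd k := Int.not_even_iff_odd.1 fun h => hncomm (by
    have h1 := (hEc k).2 h
    rw [hk, hmem, hc, map_mul, map_mul, map_mul, map_inv, map_inv, mul_inv_eq_one,
      mul_inv_eq_iff_eq_mul] at h1
    exact h1)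
  have hcz : zpowers c = commutator G := le_antisymm (zpowers_le.2 hcD) (by
    rw [← hc₀, zpowers_le, ← hk]; exact mem_zpowers_zpow_odd hn hkodd)
  have hord : orderOf c = 2 ^ n := by
    rw [← Nat.card_zpowers, hcz, ← hc₀, Nat.card_zpowers, hn]
  have hconj : ∀ g : G, ∃ μ : ℤ, g * c * g⁻¹ = c ^ μ ∧ Odd μ := fun g => by
    have h : g * c * g⁻¹ ∈ zpowers c := by
      rw [hcz]; exact Subgroup.Normal.conj_mem inferInstance _ hcD g
    obtain ⟨μ, hμ⟩ := mem_zpowers_iff.1 h
    refine ⟨μ, hμ.symm, Int.not_even_iff_odd.1 fun hev' => ?_⟩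
    obtain ⟨t, rfl⟩ := hev'
    obtain ⟨n', rfl⟩ : ∃ n', n = n' + 1 := ⟨n - 1, by omega⟩
    have h1 : (g * c * g⁻¹) ^ ((2 : ℤ) ^ n') = 1 := by
      rw [← hμ, ← zpow_mul, ← orderOf_dvd_iff_zpow_eq_one, hord]
      exact ⟨t, by push_cast [pow_succ]; ring⟩
    rw [conj_zpow, conj_eq_one_iff, ← orderOf_dvd_iff_zpow_eq_one, hord] at h1
    have h2 := Int.le_of_dvd (by positivity) h1
    push_cast [pow_succ] at h2
    have : (0 : ℤ) < 2 ^ n' := by positivity
    linarith
  obtain ⟨μ, hμ, hμo⟩ := hconj a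
  obtain ⟨l, hl, -⟩ := hconj y
  obtain ⟨t, ht⟩ := hμo
  have hay : a * y * a⁻¹ = c * y := by rw [hc]; group
  have hpow2 : ∀ {g : G} {k : ℕ}, g ^ k ∈ commutator G → π g ^ k = 1 → ∃ q : ℤ, g ^ k = c ^ (2 * q) := by
    intro g k h h'
    rw [← hcz] at h
    obtain ⟨p, hp⟩ := mem_zpowers_iff.1 h
    rcases Int.even_or_odd p with ⟨q, rfl⟩ | ho
    · exact ⟨q, by rw [← hp, two_mul]⟩
    · exfalso
      rw [← map_pow, ← hp, ← hmem, ← hk, ← zpow_mul, hEc] at h'
      exact Int.not_even_iff_odd.2 (hkodd.mul ho) h'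
  obtain ⟨q, hq⟩ := hpow2 hys hY
  rw [pow_one, pow_two] at hq
  have hz : ∀ {x : ℤ}, c ^ x = 1 ↔ ((2 : ℤ) ^ n ∣ x) := fun {x} => by
    rw [← orderOf_dvd_iff_zpow_eq_one, hord]; push_cast; rfl
  have hd1 : (2 : ℤ) ^ n ∣ 1 + l + 2 * q - 2 * q * μ := by
    rw [← hz, zpow_sub, mul_inv_eq_one]
    calc c ^ (1 + l + 2 * q) = c * (y * c * y⁻¹) * (y * y) := by rw [zpow_add, zpow_add, zpow_one, hl, hq]
      _ = (a * y * a⁻¹) * (a * y * a⁻¹) := by rw [hay]; group
      _ = a * (y * y) * a⁻¹ := by group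
      _ = c ^ (2 * q * μ) := by rw [hq, ← conj_zpow, hμ, ← zpow_mul, mul_comm μ]
  have hd2 : (2 : ℤ) ^ n ∣ 2 * q * l - 2 * q := by
    rw [← hz, zpow_sub, mul_inv_eq_one]
    calc c ^ (2 * q * l) = (y * c * y⁻¹) ^ (2 * q) := by rw [hl, ← zpow_mul, mul_comm l]
      _ = y * (y * y) * y⁻¹ := by rw [conj_zpow, ← hq]
      _ = c ^ (2 * q) := by rw [← hq]; group
  have h4q : (2 : ℤ) ^ n ∣ 4 * q := by
    have h := dvd_sub hd2 (hd1.mul_left (2 * q))
    have hco : IsCoprime ((2 : ℤ) ^ n) (2 * q * t - 1) :=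
      (show IsCoprime (2 : ℤ) (2 * q * t - 1) from ⟨q * t, -1, by ring⟩).pow_left
    refine hco.dvd_of_dvd_mul_right ?_
    subst ht
    convert h using 1
    ring
  have hl1 : c ^ l = c⁻¹ := by
    have h : (2 : ℤ) ^ n ∣ 1 + l := by
      have := dvd_add hd1 (h4q.mul_right t)
      subst ht
      rw [show 1 + l + 2 * q - 2 * q * (2 * t + 1) + 4 * q * t = 1 + l by ring] at this
      exact this
    refine eq_inv_of_mul_eq_one_left ?_
    rw [← zpow_add_one, add_comm, hz]
    exact h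
  rw [hl1] at hl
  obtain ⟨p, hp⟩ := hpow2 har hA
  refine ⟨c, y, c ^ (-(t + 1)) * (a * a), a, n, r, μ, -(t + 1), hord, hn1, hr2, hcz, ⟨t, ht⟩, by rw [ht]; ring,
    hμ, hl, hay, rfl, ?_, ⟨q, hq⟩, by rw [hq, ← zpow_add, hz]; convert h4q using 1; ring, ⟨p, hp⟩, ?_, ?_⟩
  · have hyc : y * c ^ (t + 1) = c ^ (-(t + 1)) * y := by
      calc y * c ^ (t + 1) = y * c ^ (t + 1) * y⁻¹ * y := by group
        _ = _ := by rw [← conj_zpow, hl, inv_zpow, zpow_neg]
    calc c ^ (-(t + 1)) * (a * a) * y = c ^ (-(t + 1)) * (a * (a * y * a⁻¹) * a⁻¹) * (a * a) := by group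
      _ = c ^ (-(t + 1)) * ((a * c * a⁻¹) * (a * y * a⁻¹)) * (a * a) := by nth_rw 1 [hay]; group
      _ = c ^ (-(t + 1) + μ + 1) * y * (a * a) := by rw [hμ, hay, zpow_add, zpow_add, zpow_one]; group
      _ = (c ^ (t + 1) * y) * (a * a) := by rw [show -(t + 1) + μ + 1 = t + 1 by rw [ht]; ring]
      _ = y * c ^ (-(t + 1)) * (a * a) := by
        congr 1
        calc c ^ (t + 1) * y = c ^ (t + 1) * (y * c ^ (t + 1)) * c ^ (-(t + 1)) := by group
          _ = _ := by rw [hyc]; group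
      _ = _ := by group
  · intro ε j h
    rw [hcz] at h
    have := hindep ε j h
    rwa [pow_one] at this
  · intro g
    obtain ⟨i, j, rfl⟩ := hb g
    set π₀ := QuotientGroup.mk' (commutator G)
    have hcm : ∀ x z : G, π₀ x * π₀ z = π₀ z * π₀ x := fun x z => by
      rw [← commutatorElement_eq_one_iff_mul_comm, ← map_commutatorElement]
      exact (QuotientGroup.eq_one_iff _).2 (by
        rw [_root_.commutator_def]; exact commutator_mem_commutator (mem_top x) (mem_top z))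
    have hm : a ^ i * b ^ j * (y ^ j * a ^ (i + u * j))⁻¹ ∈ zpowers c := by
      rw [hcz, ← QuotientGroup.eq_one_iff, ← QuotientGroup.mk'_apply, map_mul, map_inv, mul_inv_eq_one, hby]
      simp only [map_mul, map_zpow]
      have hc2 : Commute (π₀ y) (π₀ a) := hcm y a
      rw [(hc2.zpow_right u).mul_zpow, ← zpow_mul, zpow_add, ← mul_assoc, ← (hc2.zpow_zpow j i).eq,
        ← mul_assoc]
    obtain ⟨p', hp'⟩ := mem_zpowers_iff.1 hm
    exact ⟨p', j, i + u * j, by rw [mul_assoc, hp', inv_mul_cancel_right]⟩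

end Cfsg.Agent.Bicyclic
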